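import Cfsg.Agent.Lib.Schur.Multiplier

/-!
# Central extensions of perfect groups
-/

set_option autoImplicit false

open scoped commutatorElement

namespace CfsgLib.Schur

universe u v w

theorem map_eq_top_of_sup {G : Type u} [Group G] {H Z : Subgroup G} (hZ : Z ≤ Subgroup.center G)
    (h : H ⊔ Z = ⊤) (hG : commutator G = ⊤) : H = ⊤ := by
  rw [eq_top_iff, ← hG, commutator_eq_map_of_range_sup H.subtype Z hZ (by rwa [Subgroup.range_subtype])]
  rintro _ ⟨x, -, rfl⟩
  exact x.2

/-- Two homomorphisms from a perfect group into a central extension that agree downstairs are equal. -/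
theorem hom_ext_of_perfect {G : Type u} {X : Type v} {Q : Type w} [Group G] [Group X] [Group Q]
    (hG : commutator G = ⊤) (ξ : X →* Q) (hc : ξ.ker ≤ Subgroup.center X)
    {η₁ η₂ : G →* X} (h : ξ.comp η₁ = ξ.comp η₂) : η₁ = η₂ := by
  have hz : ∀ g, (η₂ g)⁻¹ * η₁ g ∈ Subgroup.center X := fun g => hc (by
    rw [MonoidHom.mem_ker, map_mul, map_inv, ← MonoidHom.comp_apply, ← MonoidHom.comp_apply, h,
      inv_mul_cancel])
  let d : G →* Subgroup.center X :=
    { toFun := fun g => ⟨(η₂ g)⁻¹ * η₁ g, hz g⟩
      map_one' := Subtype.ext (by simp)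
      map_mul' := fun a b => Subtype.ext (by
        simp only [map_mul, mul_inv_rev, Subgroup.coe_mul]
        have := Subgroup.mem_center_iff.1 (hz a) (η₂ b)⁻¹
        calc (η₂ b)⁻¹ * (η₂ a)⁻¹ * (η₁ a * η₁ b)
            = (η₂ b)⁻¹ * ((η₂ a)⁻¹ * η₁ a) * η₁ b := by group
          _ = (η₂ a)⁻¹ * η₁ a * (η₂ b)⁻¹ * η₁ b := by rw [this]
          _ = _ := by group) }
  have hd : commutator G ≤ d.ker := by
    rw [commutator_def, Subgroup.commutator_le]
    intro a _ b _
    rw [MonoidHom.mem_ker, map_commutatorElement, commutatorElement_eq_one_iff_mul_comm]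
    exact Subtype.ext (Subgroup.mem_center_iff.1 (d b).2 _)
  ext g
  have : d g = 1 := hd (hG ▸ Subgroup.mem_top g)
  exact (inv_mul_eq_one.1 (congrArg Subtype.val this : (η₂ g)⁻¹ * η₁ g = 1)).symm

/-- Grün's lemma. -/
theorem map_center_of_perfect {G : Type u} {Q : Type v} [Group G] [Group Q]
    (hG : commutator G = ⊤) (π : G →* Q) (hπ : Function.Surjective π)
    (hker : π.ker ≤ Subgroup.center G) : (Subgroup.center G).map π = Subgroup.center Q := by
  refine le_antisymm ?_ fun q hq => ?_
  · rintro _ ⟨z, hz, rfl⟩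
    rw [Subgroup.mem_center_iff]
    intro q
    obtain ⟨g, rfl⟩ := hπ q
    rw [← map_mul, ← map_mul, Subgroup.mem_center_iff.1 hz g]
  · obtain ⟨x, rfl⟩ := hπ q
    refine ⟨x, ?_, rfl⟩
    have : (MulAut.conj x).toMonoidHom = MonoidHom.id G := by
      refine hom_ext_of_perfect hG π hker (MonoidHom.ext fun g => ?_)
      simp only [MonoidHom.comp_apply, MulEquiv.coe_toMonoidHom, MulAut.conj_apply, map_mul,
        map_inv, MonoidHom.id_apply]
      rw [← Subgroup.mem_center_iff.1 hq (π g), mul_inv_cancel_right]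
    rw [SetLike.mem_coe, Subgroup.mem_center_iff]
    intro g
    have h1 : x * g * x⁻¹ = g := congrArg (fun f : G →* G => f g) this
    calc g * x = x * g * x⁻¹ * x := by rw [h1]
      _ = x * g := by group

/-- A central extension of a perfect group with kernel in the derived group is perfect. -/
theorem commutator_eq_top_of_central {Γ : Type u} {G : Type v} [Group Γ] [Group G]
    (hG : commutator G = ⊤) (σ : Γ →* G) (hs : Function.Surjective σ) (hk : σ.ker ≤ commutator Γ) :
    commutator Γ = ⊤ := by
  have : (commutator Γ).map σ = ⊤ := by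
    rw [← hG, commutator_def, commutator_def, Subgroup.map_commutator,
      Subgroup.map_top_of_surjective σ hs]
  have h2 := congrArg (Subgroup.comap σ) this
  rwa [Subgroup.comap_map_eq, Subgroup.comap_top, sup_eq_left.2 hk] at h2

variable {Q : Type u} [Group Q]

variable (Q) in
/-- The projection of the derived group of `Ext Q`. -/
def uceProj : commutator (Ext Q) →* Q := (proj Q).comp (commutator (Ext Q)).subtype

theorem uceProj_surjective (hQ : commutator Q = ⊤) : Function.Surjective (uceProj Q) := by
  intro q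
  have : q ∈ (commutator (Ext Q)).map (proj Q) := by
    rw [commutator_def, Subgroup.map_commutator,
      Subgroup.map_top_of_surjective _ (proj_surjective Q), ← commutator_def, hQ]
    exact Subgroup.mem_top q
  obtain ⟨x, hx, rfl⟩ := this
  exact ⟨⟨x, hx⟩, rfl⟩

theorem ker_uceProj_le_center : (uceProj Q).ker ≤ Subgroup.center _ := fun x hx => by
  rw [Subgroup.mem_center_iff]
  intro y
  exact Subtype.ext (Subgroup.mem_center_iff.1 (ker_proj_le_center Q hx) y)

theorem uce_perfect (hQ : commutator Q = ⊤) : commutator (commutator (Ext Q)) = ⊤ := by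
  apply Subgroup.map_injective (commutator (Ext Q)).subtype_injective
  rw [← MonoidHom.range_eq_map, Subgroup.range_subtype]
  refine (commutator_eq_map_of_range_sup _ (proj Q).ker (ker_proj_le_center Q) ?_).symm
  rw [Subgroup.range_subtype, eq_top_iff]
  intro x _
  obtain ⟨y, hy⟩ := uceProj_surjective hQ (proj Q x)
  have hy' : proj Q (y : Ext Q) = proj Q x := hy
  have : x = (y : Ext Q) * ((y : Ext Q)⁻¹ * x) := by group
  rw [this]
  refine Subgroup.mul_mem_sup y.2 ?_
  rw [MonoidHom.mem_ker, map_mul, map_inv, hy', inv_mul_cancel]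

end CfsgLib.Schur
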