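import Cfsg.Agent.Lib.Schur.Multiplier

/-!
# Stem extensions of cyclic, dihedral and dicyclic groups
-/

set_option autoImplicit false

open scoped commutatorElement

namespace CfsgLib.Schur

universe u v

variable {Γ : Type u} [Group Γ] {Q : Type v} [Group Q]

/-- Lifts of generators generate a stem extension. -/
theorem closure_eq_top_of_lift {σ : Γ →* Q} (hσ : Cfsg.IsStemExtension σ) (s : Set Γ)
    (h : Subgroup.closure (σ '' s) = ⊤) : Subgroup.closure s = ⊤ := by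
  have hsup : Subgroup.closure s ⊔ σ.ker = ⊤ := by
    rw [← Subgroup.comap_map_eq, MonoidHom.map_closure, h, Subgroup.comap_top]
  have hc := commutator_eq_map_of_range_sup (Subgroup.closure s).subtype σ.ker hσ.2.1
    (by rwa [Subgroup.range_subtype])
  rw [eq_top_iff, ← hsup, sup_le_iff]
  refine ⟨le_rfl, hσ.2.2.trans ?_⟩
  rw [hc]
  rintro _ ⟨x, -, rfl⟩
  exact x.2

theorem commutator_eq_bot_of_lift_single {σ : Γ →* Q} (hσ : Cfsg.IsStemExtension σ) (a : Γ)
    (h : Subgroup.closure ({σ a} : Set Q) = ⊤) : commutator Γ = ⊥ := by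
  have hg := closure_eq_top_of_lift hσ {a} (by rwa [Set.image_singleton])
  have hab : ∀ x : Γ, x ∈ Subgroup.zpowers a := fun x => by
    rw [Subgroup.zpowers_eq_closure, hg]; trivial
  rw [eq_bot_iff, commutator_def, Subgroup.commutator_le]
  intro x _ y _
  obtain ⟨i, rfl⟩ := Subgroup.mem_zpowers_iff.1 (hab x)
  obtain ⟨j, rfl⟩ := Subgroup.mem_zpowers_iff.1 (hab y)
  rw [Subgroup.mem_bot, commutatorElement_eq_one_iff_mul_comm, ← zpow_add, ← zpow_add, add_comm]

theorem hasCyclicSchurMultiplier_one_of_isCyclic (Q : Type v) [Group Q] [Finite Q] [IsCyclic Q] :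
    Cfsg.HasCyclicSchurMultiplier Q 1 := by
  refine hasCyclicSchurMultiplier_one_of_forall fun Γ _ _ σ hσ => ?_
  obtain ⟨q, hq⟩ := IsCyclic.exists_generator (α := Q)
  obtain ⟨a, rfl⟩ := hσ.1 q
  rw [eq_bot_iff, ← commutator_eq_bot_of_lift_single hσ a (by
    rw [← Subgroup.zpowers_eq_closure, eq_top_iff]; exact fun x _ => hq x)]
  exact hσ.2.2

/-- The derived group of `⟨a, b⟩` when `⁅b, a⁆` is normalized by `a` and `b`. -/
theorem commutator_le_zpowers {a b : Γ} (hg : Subgroup.closure ({a, b} : Set Γ) = ⊤)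
    (ha : a * ⁅b, a⁆ * a⁻¹ ∈ Subgroup.zpowers ⁅b, a⁆) (hb : b * ⁅b, a⁆ * b⁻¹ ∈ Subgroup.zpowers ⁅b, a⁆)
    [Finite Γ] : commutator Γ ≤ Subgroup.zpowers ⁅b, a⁆ := by
  set C := Subgroup.zpowers ⁅b, a⁆
  have hn : C.Normal := by
    rw [← Subgroup.normalizer_eq_top_iff, eq_top_iff, ← hg, Subgroup.closure_le]
    have key : ∀ g : Γ, g * ⁅b, a⁆ * g⁻¹ ∈ C → g ∈ Subgroup.normalizer (C : Set Γ) := by
      intro g hg
      have hle : C.map (MulAut.conj g).toMonoidHom ≤ C := by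
        rw [MonoidHom.map_zpowers, Subgroup.zpowers_le]
        exact hg
      have heq : C.map (MulAut.conj g).toMonoidHom = C :=
        Subgroup.eq_of_le_of_card_ge hle (le_of_eq (Nat.card_congr
          (C.equivMapOfInjective (MulAut.conj g).toMonoidHom (MulAut.conj g).injective).toEquiv))
      rw [Subgroup.mem_normalizer_iff]
      intro x
      refine ⟨fun hx => hle ⟨x, hx, rfl⟩, fun hx => ?_⟩
      obtain ⟨y, hy, hy'⟩ := heq.ge hx
      have : y = x := (MulAut.conj g).injective hy'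
      exact this ▸ hy
    rintro g (rfl | rfl)
    · exact key g ha
    · exact key g hb
  have hab : ∀ x y : Γ ⧸ C, x * y = y * x := by
    let π := QuotientGroup.mk' C
    have hgen : Subgroup.closure ({π a, π b} : Set (Γ ⧸ C)) = ⊤ := by
      rw [← Set.image_pair π a b, ← MonoidHom.map_closure, hg,
        Subgroup.map_top_of_surjective π (QuotientGroup.mk'_surjective C)]
    have hcomm : π b * π a = π a * π b := by
      have h : π ⁅b, a⁆ = 1 := (QuotientGroup.eq_one_iff _).2 (Subgroup.mem_zpowers _)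
      rw [map_commutatorElement, commutatorElement_eq_one_iff_mul_comm] at h
      exact h
    have key : ∀ x ∈ ({π a, π b} : Set (Γ ⧸ C)), ∀ y ∈ ({π a, π b} : Set (Γ ⧸ C)), x * y = y * x := by
      rintro x (rfl | rfl) y (rfl | rfl)
      · rfl
      · exact hcomm.symm
      · exact hcomm
      · rfl
    have := Subgroup.isMulCommutative_closure key
    intro x y
    have hx : x ∈ Subgroup.closure ({π a, π b} : Set (Γ ⧸ C)) := hgen ▸ Subgroup.mem_top x
    have hy : y ∈ Subgroup.closure ({π a, π b} : Set (Γ ⧸ C)) := hgen ▸ Subgroup.mem_top y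
    exact congrArg Subtype.val (this.is_comm.comm ⟨x, hx⟩ ⟨y, hy⟩)
  rw [commutator_def, Subgroup.commutator_le]
  intro x _ y _
  rw [← QuotientGroup.eq_one_iff]
  show (QuotientGroup.mk' C) ⁅x, y⁆ = 1
  rw [map_commutatorElement, commutatorElement_eq_one_iff_mul_comm]
  exact hab _ _

/-- Stem extensions of groups generated by `x, y` with `y x y⁻¹ = x⁻¹` and `y` centralizing `x ^ n`. -/
theorem ker_le_of_dihedral_type [Finite Γ] {σ : Γ →* Q} (hσ : Cfsg.IsStemExtension σ) {x y : Q}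
    (hgen : Subgroup.closure ({x, y} : Set Q) = ⊤) (hyx : y * x * y⁻¹ = x⁻¹) (n : ℕ)
    (hn : ∀ a b : Γ, σ a = x → σ b = y → b * a ^ n * b⁻¹ = a ^ n)
    (d : ℕ) (hd : ∀ k : ℤ, x ^ (-2 * k) = 1 → (d : ℤ) ∣ k) :
    ∃ c : Γ, σ.ker ≤ Subgroup.zpowers (c ^ d) ∧ c ^ n = 1 := by
  obtain ⟨a, ha⟩ := hσ.1 x
  obtain ⟨b, hb⟩ := hσ.1 y
  have hg := closure_eq_top_of_lift hσ {a, b} (by rwa [Set.image_pair, ha, hb])
  obtain ⟨z, hz, hbab⟩ : ∃ z ∈ Subgroup.center Γ, b * a * b⁻¹ = a⁻¹ * z := by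
    refine ⟨a * (b * a * b⁻¹), hσ.2.1 ?_, by group⟩
    rw [MonoidHom.mem_ker]
    simp only [map_mul, map_inv, ha, hb, hyx, mul_inv_cancel]
  have hzc : ∀ g : Γ, Commute g z := fun g => Subgroup.mem_center_iff.1 hz g
  set c := ⁅b, a⁆ with hc
  have hceq : c = a⁻¹ * a⁻¹ * z := by
    rw [hc, commutatorElement_def, hbab, mul_assoc a⁻¹ z, ← (hzc a⁻¹).eq, ← mul_assoc]
  have hac : Commute a c := by
    rw [hceq]
    exact ((Commute.refl a).inv_right.mul_right (Commute.refl a).inv_right).mul_right (hzc a)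
  have hac' : a * c * a⁻¹ = c := by rw [hac.eq, mul_inv_cancel_right]
  have hbc : b * c * b⁻¹ = c⁻¹ := by
    have h1 : b * a⁻¹ * b⁻¹ = z⁻¹ * a := by
      rw [show b * a⁻¹ * b⁻¹ = (b * a * b⁻¹)⁻¹ by group, hbab]; group
    calc b * c * b⁻¹ = (b * a⁻¹ * b⁻¹) * (b * a⁻¹ * b⁻¹) * (b * z * b⁻¹) := by rw [hceq]; group
      _ = z⁻¹ * a * (z⁻¹ * a) * z := by rw [h1, (hzc b).eq, mul_inv_cancel_right]
      _ = z⁻¹ * a * z⁻¹ * (a * z) := by group
      _ = z⁻¹ * a * a := by rw [(hzc a).eq]; group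
      _ = c⁻¹ := by rw [hceq]; simp [mul_inv_rev, mul_assoc]
  have hle := commutator_le_zpowers hg (by rw [← hc, hac']; exact Subgroup.mem_zpowers c)
    (by rw [← hc, hbc]; exact inv_mem (Subgroup.mem_zpowers c))
  have hcn : c ^ n = 1 := by
    have h1 : (a⁻¹ * z) ^ n = a ^ n := by rw [← hbab, conj_pow]; exact hn a b ha hb
    rw [(hzc a⁻¹).mul_pow, inv_pow] at h1
    rw [hceq, ((hzc _).mul_pow n), (Commute.refl a⁻¹).mul_pow, inv_pow, mul_assoc, h1,
      inv_mul_cancel]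
  refine ⟨c, fun w hw => ?_, hcn⟩
  obtain ⟨k, rfl⟩ := Subgroup.mem_zpowers_iff.1 (hle (hσ.2.2 hw))
  have hk : x ^ (-2 * k) = 1 := by
    rw [← MonoidHom.mem_ker.1 hw, map_zpow, zpow_mul]
    congr 1
    rw [map_commutatorElement, ha, hb, commutatorElement_def, hyx]
    group
  obtain ⟨j, rfl⟩ := hd k hk
  rw [zpow_mul, zpow_natCast]
  exact zpow_mem (Subgroup.mem_zpowers _) j

end CfsgLib.Schur
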