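import Mathlib

/-!
# Transfer of a cocycle from a subgroup

A normalised 2-cocycle `f` on a group `P` with values in an abelian group, a homomorphism from a subgroup
`K` of `G` to `P` and a section of `G → G ⧸ K` give a 2-cocycle on `G`, the sum over the cosets of the values
of `f` at the transversal factors. The central extension it defines is used to bound Schur multipliers from
below.
-/

set_option autoImplicit false

namespace CfsgLib.Schur.TransferCocycle

open scoped commutatorElement

universe u v w

/-- A normalised cocycle with values in an abelian group. -/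
structure Cocycle (P : Type u) [Group P] (A : Type v) [AddCommGroup A] where
  f : P → P → A
  one_left : ∀ p, f 1 p = 0
  one_right : ∀ p, f p 1 = 0
  cocycle : ∀ p q r, f p q + f (p * q) r = f q r + f p (q * r)

/-- The central extension of a group by a cocycle. -/
@[ext]
structure Ext {G : Type u} [Group G] {A : Type v} [AddCommGroup A] (C : Cocycle G A) where
  val : A
  base : G

namespace Ext

variable {G : Type u} [Group G] {A : Type v} [AddCommGroup A] {C : Cocycle G A}

instance : Mul (Ext C) := ⟨fun x y => ⟨x.val + y.val + C.f x.base y.base, x.base * y.base⟩⟩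

instance : One (Ext C) := ⟨⟨0, 1⟩⟩

instance : Inv (Ext C) := ⟨fun x => ⟨-x.val - C.f x.base⁻¹ x.base, x.base⁻¹⟩⟩

theorem mul_val (x y : Ext C) : (x * y).val = x.val + y.val + C.f x.base y.base := rfl

theorem mul_base (x y : Ext C) : (x * y).base = x.base * y.base := rfl

theorem one_def : (1 : Ext C) = ⟨0, 1⟩ := rfl

theorem inv_def (x : Ext C) : x⁻¹ = ⟨-x.val - C.f x.base⁻¹ x.base, x.base⁻¹⟩ := rfl

instance : Group (Ext C) :=
  Group.ofLeftAxioms
    (fun x y z => by
      refine Ext.ext ?_ (by simp [mul_base, mul_assoc])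
      simp only [mul_val, mul_base]
      have := C.cocycle x.base y.base z.base
      have h' : C.f (x.base * y.base) z.base = C.f y.base z.base + C.f x.base (y.base * z.base) - C.f x.base y.base := by
        rw [← this]; abel
      rw [h']; abel)
    (fun x => Ext.ext (by simp [mul_val, one_def, C.one_left]) (by simp [mul_base, one_def]))
    (fun x => Ext.ext (by simp only [mul_val, inv_def, one_def]; abel) (by simp [mul_base, inv_def, one_def]))

instance [Finite G] [Finite A] : Finite (Ext C) :=
  Finite.of_equiv (A × G) ⟨fun p => ⟨p.1, p.2⟩, fun x => (x.val, x.base), fun _ => rfl, fun _ => rfl⟩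

/-- The projection. -/
def proj : Ext C →* G where
  toFun := Ext.base
  map_one' := rfl
  map_mul' _ _ := rfl

theorem proj_surjective : Function.Surjective (proj : Ext C →* G) := fun g => ⟨⟨0, g⟩, rfl⟩

theorem mem_center {z : G} (hz : ∀ g, g * z = z * g) (hl : ∀ g, C.f z g = 0) (hr : ∀ g, C.f g z = 0) (a : A) :
    (⟨a, z⟩ : Ext C) ∈ Subgroup.center (Ext C) :=
  Subgroup.mem_center_iff.2 fun x => Ext.ext (by simp only [mul_val, hl, hr]; abel) (hz _)

theorem commutator_of_commute {x y : G} (h : x * y = y * x) :
    ⁅(⟨0, x⟩ : Ext C), (⟨0, y⟩ : Ext C)⁆ = ⟨C.f x y - C.f y x, 1⟩ := by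
  rw [commutatorElement_def, mul_inv_eq_iff_eq_mul, mul_inv_eq_iff_eq_mul]
  refine Ext.ext ?_ (by simp [mul_base, h])
  simp only [mul_val, mul_base, one_mul, C.one_left]
  abel

end Ext

section Transfer

variable {G : Type u} [Group G] {P : Type w} [Group P] {A : Type v} [AddCommGroup A]
  {K : Subgroup G} (π : K →* P) (t : G ⧸ K → G) (ht : ∀ q, (QuotientGroup.mk (t q) : G ⧸ K) = q)

include ht in
theorem factor_mem (g : G) (q : G ⧸ K) : (t (g • q))⁻¹ * g * t q ∈ K := by
  rw [mul_assoc, ← QuotientGroup.eq, ht]
  conv_lhs => rw [← ht q]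
  rfl

/-- The factor of the transversal. -/
def factor (g : G) (q : G ⧸ K) : P := π ⟨(t (g • q))⁻¹ * g * t q, factor_mem t ht g q⟩

theorem factor_mul (g h : G) (q : G ⧸ K) :
    factor π t ht (g * h) q = factor π t ht g (h • q) * factor π t ht h q := by
  rw [factor, factor, factor, ← map_mul]
  refine congrArg π (Subtype.ext ?_)
  simp only [Subgroup.coe_mul, mul_smul]
  group

theorem factor_center {z : G} (hz : ∀ g, g * z = z * g) (hzK : z ∈ K) (q : G ⧸ K) :
    z • q = q ∧ factor π t ht z q = π ⟨z, hzK⟩ := by
  have h : z • q = q := by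
    rw [← ht q]
    show (QuotientGroup.mk (z * t q) : G ⧸ K) = QuotientGroup.mk (t q)
    rw [QuotientGroup.eq, mul_inv_rev, mul_assoc, show z⁻¹ * t q = t q * z⁻¹ by
      rw [inv_mul_eq_iff_eq_mul, ← mul_assoc, ← hz, mul_inv_cancel_right], inv_mul_cancel_left]
    exact K.inv_mem hzK
  refine ⟨h, congrArg π (Subtype.ext ?_)⟩
  show (t (z • q))⁻¹ * z * t q = z
  rw [h, mul_assoc, ← hz, inv_mul_cancel_left]

theorem factor_one (q : G ⧸ K) : factor π t ht 1 q = 1 := by
  rw [(factor_center π t ht (fun g => by simp) K.one_mem q).2]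
  exact π.map_one

variable [Fintype (G ⧸ K)]

/-- The transferred cocycle. -/
def transfer (C : Cocycle P A) : Cocycle G A where
  f g h := ∑ q : G ⧸ K, C.f (factor π t ht g (h • q)) (factor π t ht h q)
  one_left g := Finset.sum_eq_zero fun q _ => by rw [factor_one, C.one_left]
  one_right g := Finset.sum_eq_zero fun q _ => by rw [factor_one, C.one_right]
  cocycle g h k := by
    rw [← Equiv.sum_comp (MulAction.toPerm k) (fun q => C.f (factor π t ht g (h • q)) (factor π t ht h q)),
      ← Finset.sum_add_distrib, ← Finset.sum_add_distrib]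
    refine Finset.sum_congr rfl fun q _ => ?_
    simp only [MulAction.toPerm_apply, factor_mul, ← mul_smul]
    exact C.cocycle _ _ _

theorem transfer_center {z : G} (C : Cocycle P A) (hz : ∀ g, g * z = z * g) (hzK : z ∈ K) (hπ : π ⟨z, hzK⟩ = 1)
    (g : G) : (transfer π t ht C).f z g = 0 ∧ (transfer π t ht C).f g z = 0 := by
  refine ⟨Finset.sum_eq_zero fun q _ => ?_, Finset.sum_eq_zero fun q _ => ?_⟩
  · rw [(factor_center π t ht hz hzK _).2, hπ, C.one_left]
  · rw [(factor_center π t ht hz hzK _).2, hπ, C.one_right]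

end Transfer

end CfsgLib.Schur.TransferCocycle
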