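import Mathlib
import Cfsg.Prelude.Def_KGroupFacts
import Cfsg.Agent.Lib.Schur.TransferCocycle

/-!
# Transferred cocycles from a coset certificate

Values of a transferred cocycle are read off from a transversal indexed by `Fin m` and a table of the action of
the elements concerned; a central extension is a stem extension as soon as the values of
commutators of lifts of commuting elements generate the coefficient group.
-/

set_option autoImplicit false

namespace CfsgLib.Schur.TransferCocycle

open scoped commutatorElement

universe u v w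

section Cert

variable {G : Type u} [Group G] {P : Type w} [Group P] {A : Type v} [AddCommGroup A]
  {K : Subgroup G} (π : K →* P) {m : ℕ} (rep : Fin m → G)
  (hb : Function.Bijective fun i => (QuotientGroup.mk (rep i) : G ⧸ K))

/-- The cosets. -/
noncomputable def certEquiv : Fin m ≃ G ⧸ K := Equiv.ofBijective _ hb

/-- The section. -/
noncomputable def certSect (q : G ⧸ K) : G := rep ((certEquiv rep hb).symm q)

theorem certSect_spec (q : G ⧸ K) : (QuotientGroup.mk (certSect rep hb q) : G ⧸ K) = q :=
  (certEquiv rep hb).apply_symm_apply q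

/-- The cocycle transferred along a listed transversal. -/
noncomputable def certCocycle (C : Cocycle P A) : Cocycle G A :=
  haveI : Fintype (G ⧸ K) := Fintype.ofEquiv (Fin m) (certEquiv rep hb)
  transfer π (certSect rep hb) (certSect_spec rep hb) C

theorem cert_factor {g : G} {i j : Fin m} (h : (rep j)⁻¹ * g * rep i ∈ K) :
    g • certEquiv rep hb i = certEquiv rep hb j ∧
      factor π (certSect rep hb) (certSect_spec rep hb) g (certEquiv rep hb i) = π ⟨_, h⟩ := by
  have e : g • certEquiv rep hb i = certEquiv rep hb j := by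
    show (QuotientGroup.mk (g * rep i) : G ⧸ K) = QuotientGroup.mk (rep j)
    rw [QuotientGroup.eq, show (g * rep i)⁻¹ * rep j = ((rep j)⁻¹ * g * rep i)⁻¹ by group]
    exact K.inv_mem h
  refine ⟨e, congrArg π (Subtype.ext ?_)⟩
  show (certSect rep hb (g • certEquiv rep hb i))⁻¹ * g * certSect rep hb (certEquiv rep hb i) = _
  rw [e, certSect, certSect, Equiv.symm_apply_apply, Equiv.symm_apply_apply]

theorem cert_value {ι : Type*} (C : Cocycle P A) (x : ι → G) (tgt : ι → Fin m → Fin m) (crd : ι → Fin m → P)
    (h : ∀ n i, ∃ hk : (rep (tgt n i))⁻¹ * x n * rep i ∈ K, π ⟨_, hk⟩ = crd n i) (a b : ι) :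
    (certCocycle π rep hb C).f (x a) (x b) = ∑ i : Fin m, C.f (crd a (tgt b i)) (crd b i) := by
  let : Fintype (G ⧸ K) := Fintype.ofEquiv (Fin m) (certEquiv rep hb)
  show ∑ q : G ⧸ K, C.f (factor π (certSect rep hb) (certSect_spec rep hb) (x a) (x b • q))
      (factor π (certSect rep hb) (certSect_spec rep hb) (x b) q) = _
  rw [← Equiv.sum_comp (certEquiv rep hb)]
  refine Finset.sum_congr rfl fun i _ => ?_
  obtain ⟨hk, hc⟩ := h b i
  obtain ⟨hk', hc'⟩ := h a (tgt b i)
  rw [(cert_factor π rep hb hk).1, (cert_factor π rep hb hk).2, (cert_factor π rep hb hk').2, hc, hc']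

end Cert

/-- Pulling a cocycle back along a homomorphism. -/
def Cocycle.pullback {G : Type u} [Group G] {H : Type w} [Group H] {A : Type v} [AddCommGroup A] (C : Cocycle G A)
    (φ : H →* G) : Cocycle H A where
  f a b := C.f (φ a) (φ b)
  one_left p := by rw [map_one]; exact C.one_left _
  one_right p := by rw [map_one]; exact C.one_right _
  cocycle p q r := by simp only [map_mul]; exact C.cocycle _ _ _

namespace Ext

variable {G : Type u} [Group G] {A : Type v} [AddCommGroup A] {C : Cocycle G A}

theorem eq_of_mem_ker {x : Ext C} (h : x ∈ (proj : Ext C →* G).ker) : x = ⟨x.val, 1⟩ := Ext.ext rfl h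

theorem ker_le_center : (proj : Ext C →* G).ker ≤ Subgroup.center (Ext C) := fun x hx => by
  rw [eq_of_mem_ker hx]
  exact mem_center (fun g => by simp) C.one_left C.one_right _

/-- The kernel of the projection. -/
def kerEquiv : (proj : Ext C →* G).ker ≃* Multiplicative A where
  toFun x := Multiplicative.ofAdd (x : Ext C).val
  invFun a := ⟨⟨Multiplicative.toAdd a, 1⟩, rfl⟩
  left_inv x := Subtype.ext (Ext.ext rfl (show (x : Ext C).base = 1 from x.2).symm)
  right_inv _ := rfl
  map_mul' x y := by
    show Multiplicative.ofAdd ((x : Ext C) * y).val = _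
    rw [mul_val, show (x : Ext C).base = 1 from x.2, C.one_left, add_zero, ofAdd_add]

/-- The extension is a stem extension when the commutator values generate. -/
theorem isStem_of_witness (S : Set A)
    (hS : ∀ a ∈ S, ∃ x y : G, x * y = y * x ∧ C.f x y - C.f y x = a) (hgen : AddSubgroup.closure S = ⊤) :
    Cfsg.IsStemExtension (proj : Ext C →* G) := by
  refine ⟨proj_surjective, ker_le_center, fun z hz => ?_⟩
  let B : AddSubgroup A :=
    { carrier := {a | (⟨a, 1⟩ : Ext C) ∈ commutator (Ext C)}
      zero_mem' := (commutator (Ext C)).one_mem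
      add_mem' := fun {a b} ha hb => by
        have := (commutator (Ext C)).mul_mem ha hb
        rwa [show (⟨a, 1⟩ : Ext C) * ⟨b, 1⟩ = ⟨a + b, 1⟩ from
          Ext.ext (by simp [mul_val, C.one_left]) (by simp [mul_base])] at this
      neg_mem' := fun {a} ha => by
        have := (commutator (Ext C)).inv_mem ha
        rwa [show (⟨a, 1⟩ : Ext C)⁻¹ = ⟨-a, 1⟩ from
          Ext.ext (by simp [inv_def, C.one_left]) (by simp [inv_def])] at this }
  have hB : B = ⊤ := by
    rw [eq_top_iff, ← hgen, AddSubgroup.closure_le]
    intro a ha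
    obtain ⟨x, y, hxy, rfl⟩ := hS a ha
    show (⟨_, 1⟩ : Ext C) ∈ commutator (Ext C)
    rw [← commutator_of_commute hxy, commutator_def]
    exact Subgroup.commutator_mem_commutator (Subgroup.mem_top _) (Subgroup.mem_top _)
  rw [eq_of_mem_ker hz]
  exact (hB ▸ AddSubgroup.mem_top z.val : z.val ∈ B)

end Ext

end CfsgLib.Schur.TransferCocycle
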