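import Cfsg.Agent.Lib.Schur.Basic

/-!
# Consequences of the existence of covers

`HasSchurMultiplier Q A` holds exactly when `A` is isomorphic to `mult Q`.
-/

set_option autoImplicit false

namespace CfsgLib.Schur

universe u v w

variable {Q : Type u} [Group Q] [Finite Q]

omit [Finite Q] in
theorem finite_of_hasSchurMultiplier {A : Type v} [CommGroup A]
    (hA : Cfsg.HasSchurMultiplier Q A) : Finite A := by
  obtain ⟨⟨Γ, _, _, σ, -, ⟨e⟩⟩, -⟩ := hA
  exact Finite.of_equiv _ e.toEquiv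

theorem nonempty_equiv_of_hasSchurMultiplier {A : Type v} [CommGroup A]
    (hA : Cfsg.HasSchurMultiplier Q A) : Nonempty (A ≃* mult Q) := by
  have := finite_of_hasSchurMultiplier hA
  obtain ⟨⟨Γ, _, _, σ, hσ, ⟨e⟩⟩, hB⟩ := hA
  obtain ⟨π, hπ⟩ := exists_mult_surj_ker σ hσ
  obtain ⟨C⟩ := exists_compl (Q := Q)
  have := C.finite_cover
  obtain ⟨ρ, hρ⟩ := hB C.Cover C.coverMap C.isStem
  have h1 : Nat.card A ≤ Nat.card (mult Q) := by
    rw [← Nat.card_congr e.toEquiv]; exact Nat.card_le_card_of_surjective π hπ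
  let f : A →* mult Q := (C.kerEquiv.symm : C.coverMap.ker →* mult Q).comp ρ
  have hf : Function.Surjective f := C.kerEquiv.symm.surjective.comp hρ
  exact ⟨MulEquiv.ofBijective f ((Nat.bijective_iff_surjective_and_card f).2
    ⟨hf, le_antisymm h1 (Nat.card_le_card_of_surjective f hf)⟩)⟩

theorem hasSchurMultiplier_iff {A : Type v} [CommGroup A] :
    Cfsg.HasSchurMultiplier Q A ↔ Nonempty (A ≃* mult Q) := by
  refine ⟨nonempty_equiv_of_hasSchurMultiplier, fun ⟨e⟩ => ?_⟩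
  obtain ⟨⟨Γ, i1, i2, σ, hσ, ⟨e'⟩⟩, hB⟩ := hasSchurMultiplier_mult Q
  refine ⟨⟨Γ, i1, i2, σ, hσ, ⟨e'.trans e.symm⟩⟩, fun Δ _ _ τ hτ => ?_⟩
  obtain ⟨π, hπ⟩ := hB Δ τ hτ
  exact ⟨π.comp e.toMonoidHom, hπ.comp e.surjective⟩

theorem hasCyclicSchurMultiplier_one_iff :
    Cfsg.HasCyclicSchurMultiplier Q 1 ↔ mult Q = ⊥ := by
  rw [Cfsg.HasCyclicSchurMultiplier, hasSchurMultiplier_iff]
  constructor
  · rintro ⟨e⟩
    rw [Subgroup.eq_bot_iff_forall]
    intro x hx
    have := e.symm.injective (Subsingleton.elim (e.symm ⟨x, hx⟩) (e.symm 1))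
    exact congrArg Subtype.val this
  · intro h
    have : Subsingleton (mult Q) := ⟨fun a b => Subtype.ext (by
      rw [Subgroup.eq_bot_iff_forall] at h; rw [h _ a.2, h _ b.2])⟩
    exact ⟨{ toFun := fun _ => 1, invFun := fun _ => 1,
             left_inv := fun _ => Subsingleton.elim _ _, right_inv := fun _ => Subsingleton.elim _ _,
             map_mul' := fun _ _ => Subsingleton.elim _ _ }⟩

theorem card_mult_le_of_forall (n : ℕ)
    (h : ∀ (Γ : Type u) [Group Γ] [Finite Γ] (σ : Γ →* Q), Cfsg.IsStemExtension σ →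
      Nat.card σ.ker ≤ n) : Nat.card (mult Q) ≤ n := by
  obtain ⟨C⟩ := exists_compl (Q := Q)
  have := C.finite_cover
  rw [Nat.card_congr C.kerEquiv.toEquiv]
  exact h C.Cover C.coverMap C.isStem

theorem hasCyclicSchurMultiplier_one_of_forall
    (h : ∀ (Γ : Type u) [Group Γ] [Finite Γ] (σ : Γ →* Q), Cfsg.IsStemExtension σ → σ.ker = ⊥) :
    Cfsg.HasCyclicSchurMultiplier Q 1 := by
  rw [hasCyclicSchurMultiplier_one_iff, ← Subgroup.card_le_one_iff_eq_bot]
  exact card_mult_le_of_forall 1 fun Γ _ _ σ hσ => Subgroup.card_le_one_iff_eq_bot _ |>.2 (h Γ σ hσ)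

/-- Identify the multiplier from one stem extension of the largest possible kernel. -/
theorem hasSchurMultiplier_of_witness {A : Type v} [CommGroup A] {Δ : Type w} [Group Δ]
    (τ : Δ →* Q) (hτ : Cfsg.IsStemExtension τ) (e : τ.ker ≃* A)
    (h : ∀ (Γ : Type u) [Group Γ] [Finite Γ] (σ : Γ →* Q), Cfsg.IsStemExtension σ →
      Nat.card σ.ker ≤ Nat.card A) : Cfsg.HasSchurMultiplier Q A := by
  obtain ⟨π, hπ⟩ := exists_mult_surj_ker τ hτ
  let f : mult Q →* A := (e : τ.ker →* A).comp π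
  have hf : Function.Surjective f := e.surjective.comp hπ
  rw [hasSchurMultiplier_iff]
  exact ⟨(MulEquiv.ofBijective f ((Nat.bijective_iff_surjective_and_card f).2
    ⟨hf, le_antisymm (card_mult_le_of_forall _ h) (Nat.card_le_card_of_surjective f hf)⟩)).symm⟩

end CfsgLib.Schur
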