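import Mathlib
import Cfsg.Prelude.Def_KGroupFacts

/-! The fibre product of two stem extensions with kernels of coprime order is a stem extension. -/

set_option autoImplicit false

namespace CfsgLib.Schur

universe u v w

variable {G : Type u} [Group G] {Γ₁ : Type v} [Group Γ₁] {Γ₂ : Type w} [Group Γ₂]
  (σ₁ : Γ₁ →* G) (σ₂ : Γ₂ →* G)

/-- The fibre product. -/
def fibreProduct : Subgroup (Γ₁ × Γ₂) where
  carrier := {p | σ₁ p.1 = σ₂ p.2}
  one_mem' := by simp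
  mul_mem' ha hb := by simp only [Set.mem_ofPred_eq, Prod.fst_mul, Prod.snd_mul, map_mul] at *; rw [ha, hb]
  inv_mem' ha := by simp only [Set.mem_ofPred_eq, Prod.fst_inv, Prod.snd_inv, map_inv] at *; rw [ha]

/-- The projection of the fibre product to the base. -/
def fibreMap : fibreProduct σ₁ σ₂ →* G := σ₁.comp ((MonoidHom.fst _ _).comp (fibreProduct σ₁ σ₂).subtype)

theorem mem_fibreMap_ker (x : fibreProduct σ₁ σ₂) :
    x ∈ (fibreMap σ₁ σ₂).ker ↔ x.1.1 ∈ σ₁.ker ∧ x.1.2 ∈ σ₂.ker :=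
  ⟨fun h => ⟨h, (show σ₁ x.1.1 = σ₂ x.1.2 from x.2).symm.trans h⟩, fun h => h.1⟩

/-- The kernel of the fibre product is the product of the kernels. -/
def fibreKerEquiv : (fibreMap σ₁ σ₂).ker ≃* σ₁.ker × σ₂.ker where
  toFun x := (⟨_, ((mem_fibreMap_ker σ₁ σ₂ x).1 x.2).1⟩, ⟨_, ((mem_fibreMap_ker σ₁ σ₂ x).1 x.2).2⟩)
  invFun p := ⟨⟨(p.1, p.2), (show σ₁ p.1 = 1 from p.1.2).trans (show σ₂ p.2 = 1 from p.2.2).symm⟩, p.1.2⟩
  left_inv _ := rfl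
  right_inv _ := rfl
  map_mul' _ _ := rfl

theorem isStemExtension_fibreProduct (h₁ : Cfsg.IsStemExtension σ₁) (h₂ : Cfsg.IsStemExtension σ₂)
    (hcop : Nat.Coprime (Nat.card σ₁.ker) (Nat.card σ₂.ker)) :
    Cfsg.IsStemExtension (fibreMap σ₁ σ₂) := by
  obtain ⟨s₁, c₁, d₁⟩ := h₁
  obtain ⟨s₂, c₂, d₂⟩ := h₂
  set F := fibreProduct σ₁ σ₂
  have hs : Function.Surjective (fibreMap σ₁ σ₂) := fun g => by
    obtain ⟨a, rfl⟩ := s₁ g
    obtain ⟨b, hb⟩ := s₂ (σ₁ a)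
    exact ⟨⟨(a, b), hb.symm⟩, rfl⟩
  let p₁ : F →* Γ₁ := (MonoidHom.fst _ _).comp F.subtype
  let p₂ : F →* Γ₂ := (MonoidHom.snd _ _).comp F.subtype
  have hp₁ : Function.Surjective p₁ := fun a => by
    obtain ⟨b, hb⟩ := s₂ (σ₁ a)
    exact ⟨⟨(a, b), hb.symm⟩, rfl⟩
  have hp₂ : Function.Surjective p₂ := fun b => by
    obtain ⟨a, ha⟩ := s₁ (σ₂ b)
    exact ⟨⟨(a, b), ha⟩, rfl⟩
  have hmap₁ : (commutator F).map p₁ = commutator Γ₁ := by
    rw [commutator_def, Subgroup.map_commutator, Subgroup.map_top_of_surjective _ hp₁, ← commutator_def]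
  have hmap₂ : (commutator F).map p₂ = commutator Γ₂ := by
    rw [commutator_def, Subgroup.map_commutator, Subgroup.map_top_of_surjective _ hp₂, ← commutator_def]
  refine ⟨hs, fun x hx => Subgroup.mem_center_iff.2 fun y => Subtype.ext (Prod.ext
    (Subgroup.mem_center_iff.1 (c₁ ((mem_fibreMap_ker σ₁ σ₂ x).1 hx).1) _)
    (Subgroup.mem_center_iff.1 (c₂ ((mem_fibreMap_ker σ₁ σ₂ x).1 hx).2) _)), ?_⟩
  have L : ∀ (a : Γ₁) (ha : a ∈ σ₁.ker),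
      (⟨(a, 1), (show σ₁ a = 1 from ha).trans (map_one σ₂).symm⟩ : F) ∈ commutator F := by
    intro a ha
    obtain ⟨w, hw, hwa⟩ := hmap₁.ge (d₁ ha)
    have hw2 : p₂ w ∈ σ₂.ker := ((mem_fibreMap_ker σ₁ σ₂ w).1 (show σ₁ (p₁ w) = 1 by rw [hwa]; exact ha)).2
    obtain ⟨k, hk⟩ : ∃ k : ℕ, (⟨a, ha⟩ : σ₁.ker) = (⟨a, ha⟩ : σ₁.ker) ^ (Nat.card σ₂.ker * k) := by
      obtain ⟨b, hb⟩ := exists_pow_eq_self_of_coprime (x := (⟨a, ha⟩ : σ₁.ker)) (n := Nat.card σ₂.ker)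
        (Nat.Coprime.coprime_dvd_right (orderOf_dvd_natCard _) hcop.symm)
      exact ⟨b, by rw [pow_mul, hb]⟩
    have he : w ^ (Nat.card σ₂.ker * k) =
        (⟨(a, 1), (show σ₁ a = 1 from ha).trans (map_one σ₂).symm⟩ : F) := by
      refine Subtype.ext (Prod.ext ?_ ?_)
      · show (p₁ w) ^ _ = a
        rw [hwa]; exact (congrArg Subtype.val hk).symm
      · show (p₂ w) ^ _ = 1
        rw [pow_mul, show p₂ w ^ Nat.card σ₂.ker = 1 from congrArg Subtype.val (pow_card_eq_one' (x := (⟨_, hw2⟩ : σ₂.ker))),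
          one_pow]
    rw [← he]
    exact pow_mem hw _
  have R : ∀ (b : Γ₂) (hb : b ∈ σ₂.ker),
      (⟨(1, b), (map_one σ₁).trans (show σ₂ b = 1 from hb).symm⟩ : F) ∈ commutator F := by
    intro b hb
    obtain ⟨w, hw, hwb⟩ := hmap₂.ge (d₂ hb)
    have hw1 : p₁ w ∈ σ₁.ker := by
      show σ₁ (p₁ w) = 1
      rw [show σ₁ (p₁ w) = σ₂ (p₂ w) from w.2, hwb]; exact hb
    obtain ⟨k, hk⟩ : ∃ k : ℕ, (⟨b, hb⟩ : σ₂.ker) = (⟨b, hb⟩ : σ₂.ker) ^ (Nat.card σ₁.ker * k) := by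
      obtain ⟨c, hc⟩ := exists_pow_eq_self_of_coprime (x := (⟨b, hb⟩ : σ₂.ker)) (n := Nat.card σ₁.ker)
        (Nat.Coprime.coprime_dvd_right (orderOf_dvd_natCard _) hcop)
      exact ⟨c, by rw [pow_mul, hc]⟩
    have he : w ^ (Nat.card σ₁.ker * k) =
        (⟨(1, b), (map_one σ₁).trans (show σ₂ b = 1 from hb).symm⟩ : F) := by
      refine Subtype.ext (Prod.ext ?_ ?_)
      · show (p₁ w) ^ _ = 1
        rw [pow_mul, show p₁ w ^ Nat.card σ₁.ker = 1 from congrArg Subtype.val (pow_card_eq_one' (x := (⟨_, hw1⟩ : σ₁.ker))),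
          one_pow]
      · show (p₂ w) ^ _ = b
        rw [hwb]; exact (congrArg Subtype.val hk).symm
    rw [← he]
    exact pow_mem hw _
  intro x hx
  obtain ⟨ha, hb⟩ := (mem_fibreMap_ker σ₁ σ₂ x).1 hx
  have := (commutator F).mul_mem (L _ ha) (R _ hb)
  convert this using 1
  exact Subtype.ext (Prod.ext (mul_one _).symm (one_mul _).symm)

end CfsgLib.Schur
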