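import Cfsg.Agent.Lib.Schur.Functor
import Mathlib

/-!
# The multiplier of a subgroup of index `m` bounds the `m`-th powers of the multiplier
-/

set_option autoImplicit false

open scoped commutatorElement

namespace CfsgLib.Schur

universe u v w

/-- A quotient of a finite abelian group is isomorphic to a subgroup of it. -/
theorem exists_injective_of_surjective {B : Type u} {R : Type v} [CommGroup B] [CommGroup R] [Finite B]
    (f : B →* R) (hf : Function.Surjective f) : ∃ j : R →* B, Function.Injective j := by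
  haveI : Finite R := Finite.of_surjective f hf
  haveI : NeZero (Monoid.exponent B) := ⟨Monoid.exponent_ne_zero_of_finite⟩
  haveI : NeZero (Monoid.exponent R) := ⟨Monoid.exponent_ne_zero_of_finite⟩
  obtain ⟨eB⟩ := CommGroup.monoidHom_mulEquiv_of_hasEnoughRootsOfUnity B ℂ
  obtain ⟨eR⟩ := CommGroup.monoidHom_mulEquiv_of_hasEnoughRootsOfUnity R ℂ
  let F : (R →* ℂˣ) →* (B →* ℂˣ) :=
    MonoidHom.mk' (fun χ => χ.comp f) fun χ ψ => MonoidHom.ext fun b => rfl
  have hF : Function.Injective F := fun χ ψ h => MonoidHom.ext fun r => by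
    obtain ⟨b, rfl⟩ := hf r
    exact DFunLike.congr_fun h b
  exact ⟨(eB.toMonoidHom.comp F).comp eR.symm.toMonoidHom, eB.injective.comp (hF.comp eR.symm.injective)⟩

theorem pow_index_mem_commutator {Γ : Type u} [Group Γ] [Finite Γ] (H : Subgroup Γ) {z : Γ}
    (hz : z ∈ Subgroup.center Γ) (hz' : z ∈ commutator Γ) :
    ∃ h : z ^ H.index ∈ H, (⟨z ^ H.index, h⟩ : H) ∈ commutator H := by
  have key : ∀ (k : ℕ) (g₀ : Γ), g₀⁻¹ * z ^ k * g₀ ∈ H → g₀⁻¹ * z ^ k * g₀ = z ^ k := fun k g₀ _ => by
    rw [mul_assoc, ← Subgroup.mem_center_iff.1 (pow_mem hz k) g₀, inv_mul_cancel_left]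
  refine ⟨MonoidHom.transfer_eq_pow_aux z key, ?_⟩
  have h1 : MonoidHom.transfer (Abelianization.of : H →* Abelianization H) z = 1 :=
    Abelianization.commutator_subset_ker _ hz'
  rw [MonoidHom.transfer_eq_pow _ z key] at h1
  exact (QuotientGroup.eq_one_iff _).1 h1

theorem exists_powers_embedding {G : Type u} [Group G] [Finite G] (U : Subgroup G) :
    ∃ j : (powMonoidHom U.index : mult G →* mult G).range →* mult U, Function.Injective j := by
  obtain ⟨C⟩ := exists_compl (Q := G)
  haveI := C.finite_cover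
  let σ : C.Cover →* G := C.coverMap
  obtain ⟨hsurj, hcen, hder⟩ := C.isStem
  let H : Subgroup C.Cover := U.comap σ
  let ξ : H →* U := (σ.comp H.subtype).codRestrict U fun x => x.2
  have hξs : Function.Surjective ξ := fun q => by
    obtain ⟨x, hx⟩ := hsurj (q : G)
    exact ⟨⟨x, show σ x ∈ U by rw [hx]; exact q.2⟩, Subtype.ext hx⟩
  have hξc : ξ.ker ≤ Subgroup.center H := fun x hx => Subgroup.mem_center_iff.2 fun y =>
    Subtype.ext (Subgroup.mem_center_iff.1 (hcen (show σ x = 1 from congrArg Subtype.val hx)) y)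
  have hindex : H.index = U.index := Subgroup.index_comap_of_surjective U hsurj
  let e : mult G ≃* σ.ker := C.kerEquiv
  have hmem : ∀ a : (powMonoidHom U.index : mult G →* mult G).range,
      ∃ h : (e (a : mult G) : C.Cover) ∈ H, (⟨_, h⟩ : H) ∈ ξ.ker ⊓ commutator H := by
    rintro ⟨_, a, rfl⟩
    obtain ⟨h, h'⟩ := pow_index_mem_commutator H (hcen (e a).2) (hder (e a).2)
    have he : (e (powMonoidHom U.index a) : C.Cover) = (e a : C.Cover) ^ H.index := by
      rw [powMonoidHom_apply, map_pow, SubmonoidClass.coe_pow, hindex]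
    refine ⟨he ▸ h, ?_, ?_⟩
    · exact Subtype.ext (show σ (e (powMonoidHom U.index a) : C.Cover) = 1 from (e _).2)
    · show (⟨(e (powMonoidHom U.index a) : C.Cover), he ▸ h⟩ : H) ∈ commutator H
      rw [show (⟨(e (powMonoidHom U.index a) : C.Cover), he ▸ h⟩ : H) = ⟨(e a : C.Cover) ^ H.index, h⟩
        from Subtype.ext he]
      exact h'
  let i : (powMonoidHom U.index : mult G →* mult G).range →* (ξ.ker ⊓ commutator H : Subgroup H) :=
    MonoidHom.mk' (fun a => ⟨⟨_, (hmem a).1⟩, (hmem a).2⟩) fun a b => by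
      refine Subtype.ext (Subtype.ext ?_)
      show ((e ((a * b : (powMonoidHom U.index : mult G →* mult G).range) : mult G) : σ.ker) : C.Cover) = _
      rw [Subgroup.coe_mul, map_mul, Subgroup.coe_mul]; rfl
  have hi : Function.Injective i := fun a b h => by
    have h1 : (e (a : mult G) : C.Cover) = (e (b : mult G) : C.Cover) :=
      congrArg (fun x : (ξ.ker ⊓ commutator H : Subgroup H) => ((x : H) : C.Cover)) h
    exact Subtype.ext (e.injective (Subtype.ext h1))
  obtain ⟨f, hf⟩ := exists_mult_surj_inf hξs hξc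
  letI : CommGroup (ξ.ker ⊓ commutator H : Subgroup H) :=
    { (inferInstance : Group (ξ.ker ⊓ commutator H : Subgroup H)) with
      mul_comm := fun a b => Subtype.ext (Subgroup.mem_center_iff.1 (hξc b.2.1) a) }
  obtain ⟨j, hj⟩ := exists_injective_of_surjective f hf
  exact ⟨j.comp i, hj.comp hi⟩

theorem exists_powers_subgroup {G : Type u} [Group G] [Finite G] (U : Subgroup G) {A : Type v} {B : Type w}
    [CommGroup A] [CommGroup B] (hA : Cfsg.HasSchurMultiplier G A) (hB : Cfsg.HasSchurMultiplier U B) :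
    ∃ C : Subgroup B, Nonempty ((powMonoidHom U.index : A →* A).range ≃* C) := by
  obtain ⟨eA⟩ := nonempty_equiv_of_hasSchurMultiplier hA
  obtain ⟨eB⟩ := nonempty_equiv_of_hasSchurMultiplier hB
  obtain ⟨j, hj⟩ := exists_powers_embedding U
  let k : (powMonoidHom U.index : A →* A).range →* (powMonoidHom U.index : mult G →* mult G).range :=
    (eA.toMonoidHom.comp (powMonoidHom U.index : A →* A).range.subtype).codRestrict _ (by
      rintro ⟨_, a, rfl⟩
      exact ⟨eA a, (map_pow eA a U.index).symm⟩)
  have hk : Function.Injective k := fun a b h =>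
    Subtype.ext (eA.injective (congrArg (fun x : (powMonoidHom U.index : mult G →* mult G).range => (x : mult G)) h))
  exact ⟨_, ⟨MonoidHom.ofInjective (f := (eB.symm.toMonoidHom.comp j).comp k)
    (eB.symm.injective.comp (hj.comp hk))⟩⟩

end CfsgLib.Schur
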