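import Cfsg.Agent.Lib.Schur.TwoGen

/-!
# Presentation facts for dihedral and dicyclic groups, and the dicyclic cover of the dihedral group
-/

set_option autoImplicit false

open scoped commutatorElement

namespace CfsgLib.Schur

universe u

theorem dihedral_gen (n : ℕ) :
    Subgroup.closure ({DihedralGroup.r 1, DihedralGroup.sr 0} : Set (DihedralGroup n)) = ⊤ := by
  have hr : ∀ i : ZMod n, DihedralGroup.r i ∈
      Subgroup.closure ({DihedralGroup.r 1, DihedralGroup.sr 0} : Set (DihedralGroup n)) := fun i => by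
    obtain ⟨k, rfl⟩ := ZMod.intCast_surjective i
    rw [← DihedralGroup.r_one_zpow]
    exact Subgroup.zpow_mem _ (Subgroup.subset_closure (Set.mem_insert _ _)) k
  rw [eq_top_iff]
  rintro (i | i) -
  · exact hr i
  · rw [← zero_add i, ← DihedralGroup.sr_mul_r]
    exact mul_mem (Subgroup.subset_closure (Or.inr rfl)) (hr i)

theorem dihedral_rel (n : ℕ) :
    DihedralGroup.sr 0 * DihedralGroup.r 1 * (DihedralGroup.sr 0)⁻¹ =
      (DihedralGroup.r 1 : DihedralGroup n)⁻¹ := by
  simp

theorem dihedral_central {n : ℕ} {Γ : Type u} [Group Γ] {σ : Γ →* DihedralGroup n}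
    (hσ : Cfsg.IsStemExtension σ) (a b : Γ) (ha : σ a = DihedralGroup.r 1)
    (_hb : σ b = DihedralGroup.sr 0) : b * a ^ n * b⁻¹ = a ^ n := by
  have : a ^ n ∈ Subgroup.center Γ := hσ.2.1 (by
    rw [MonoidHom.mem_ker, map_pow, ha, DihedralGroup.r_one_pow_n])
  rw [Subgroup.mem_center_iff.1 this b, mul_inv_cancel_right]

theorem dihedral_dvd (n d : ℕ) (h : ∀ k : ℤ, (n : ℤ) ∣ 2 * k → (d : ℤ) ∣ k) (k : ℤ)
    (hk : (DihedralGroup.r 1 : DihedralGroup n) ^ (-2 * k) = 1) : (d : ℤ) ∣ k := by
  have := orderOf_dvd_iff_zpow_eq_one.2 hk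
  rw [DihedralGroup.orderOf_r_one, neg_mul, dvd_neg] at this
  exact h k this

theorem quaternion_gen (n : ℕ) :
    Subgroup.closure ({QuaternionGroup.a 1, QuaternionGroup.xa 0} : Set (QuaternionGroup n)) = ⊤ := by
  have hr : ∀ i : ZMod (2 * n), QuaternionGroup.a i ∈
      Subgroup.closure ({QuaternionGroup.a 1, QuaternionGroup.xa 0} : Set (QuaternionGroup n)) := fun i => by
    obtain ⟨k, rfl⟩ := ZMod.intCast_surjective i
    have : (QuaternionGroup.a 1 : QuaternionGroup n) ^ k = QuaternionGroup.a (k : ZMod (2 * n)) := by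
      induction k using Int.induction_on with
      | zero => simp [QuaternionGroup.a_zero]
      | succ j _ => exact_mod_cast QuaternionGroup.a_one_pow (j + 1)
      | pred j _ =>
        rw [show (-(j : ℤ) - 1) = -((j + 1 : ℕ) : ℤ) by push_cast; ring, zpow_neg, zpow_natCast,
          QuaternionGroup.a_one_pow, inv_eq_iff_mul_eq_one, QuaternionGroup.a_mul_a]
        push_cast
        rw [add_neg_cancel, QuaternionGroup.a_zero]
    rw [← this]
    exact Subgroup.zpow_mem _ (Subgroup.subset_closure (Set.mem_insert _ _)) k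
  rw [eq_top_iff]
  rintro (i | i) -
  · exact hr i
  · rw [← zero_add i, ← QuaternionGroup.xa_mul_a]
    exact mul_mem (Subgroup.subset_closure (Or.inr rfl)) (hr i)

theorem quaternion_rel (n : ℕ) :
    QuaternionGroup.xa 0 * QuaternionGroup.a 1 * (QuaternionGroup.xa 0)⁻¹ =
      (QuaternionGroup.a 1 : QuaternionGroup n)⁻¹ := by
  rw [mul_inv_eq_iff_eq_mul, eq_inv_mul_iff_mul_eq]
  simp

theorem quaternion_central {n : ℕ} {Γ : Type u} [Group Γ] {σ : Γ →* QuaternionGroup n}
    (hσ : Cfsg.IsStemExtension σ) (a b : Γ) (ha : σ a = QuaternionGroup.a 1)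
    (hb : σ b = QuaternionGroup.xa 0) : b * a ^ n * b⁻¹ = a ^ n := by
  have hz : (a ^ n)⁻¹ * b ^ 2 ∈ Subgroup.center Γ := hσ.2.1 (by
    rw [MonoidHom.mem_ker, map_mul, map_inv, map_pow, map_pow, ha, hb, QuaternionGroup.xa_sq,
      QuaternionGroup.a_one_pow, inv_mul_cancel])
  have hz' := Subgroup.mem_center_iff.1 hz b
  have h2 : (a ^ n)⁻¹ * b = b * (a ^ n)⁻¹ := by
    have h3 : (a ^ n)⁻¹ * b * b ^ 2 = b * (a ^ n)⁻¹ * b ^ 2 := by
      calc (a ^ n)⁻¹ * b * b ^ 2 = (a ^ n)⁻¹ * b ^ 2 * b := by group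
        _ = b * ((a ^ n)⁻¹ * b ^ 2) := hz'.symm
        _ = b * (a ^ n)⁻¹ * b ^ 2 := by group
    exact mul_right_cancel h3
  have h4 : Commute b (a ^ n) := by
    have : Commute b (a ^ n)⁻¹ := h2.symm
    simpa using this.inv_right
  rw [h4.eq, mul_inv_cancel_right]

theorem quaternion_dvd (n : ℕ) (k : ℤ)
    (hk : (QuaternionGroup.a 1 : QuaternionGroup n) ^ (-2 * k) = 1) : (n : ℤ) ∣ k := by
  have := orderOf_dvd_iff_zpow_eq_one.2 hk
  rw [QuaternionGroup.orderOf_a_one, neg_mul, dvd_neg, Nat.cast_mul, Nat.cast_two] at this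
  exact Int.dvd_of_mul_dvd_mul_left two_ne_zero this

/-- The dicyclic group maps onto the dihedral group. -/
def quaternionToDihedral (n : ℕ) : QuaternionGroup n →* DihedralGroup n :=
  MonoidHom.mk'
    (fun g => match g with
      | QuaternionGroup.a i => DihedralGroup.r (ZMod.castHom (dvd_mul_left n 2) (ZMod n) i)
      | QuaternionGroup.xa i => DihedralGroup.sr (ZMod.castHom (dvd_mul_left n 2) (ZMod n) i))
    (by
      rintro (i | i) (j | j) <;>
        simp [map_add, map_sub, map_natCast])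

theorem quaternionToDihedral_surjective (n : ℕ) :
    Function.Surjective (quaternionToDihedral n) := by
  rintro (i | i) <;> obtain ⟨k, rfl⟩ := ZMod.intCast_surjective i
  · exact ⟨QuaternionGroup.a k, congrArg DihedralGroup.r (map_intCast _ k)⟩
  · exact ⟨QuaternionGroup.xa k, congrArg DihedralGroup.sr (map_intCast _ k)⟩

theorem mem_ker_quaternionToDihedral (n : ℕ) {g : QuaternionGroup n}
    (hg : g ∈ (quaternionToDihedral n).ker) :
    ∃ k : ℤ, g = QuaternionGroup.a ((k : ZMod (2 * n)) * (n : ZMod (2 * n))) := by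
  rcases g with i | i
  · obtain ⟨k, rfl⟩ := ZMod.intCast_surjective i
    have h : DihedralGroup.r ((k : ℤ) : ZMod n) = DihedralGroup.r 0 := by
      rw [DihedralGroup.r_zero, ← MonoidHom.mem_ker.1 hg]
      exact congrArg DihedralGroup.r (map_intCast _ k).symm
    injection h with h
    obtain ⟨j, rfl⟩ := (ZMod.intCast_zmod_eq_zero_iff_dvd _ _).1 h
    exact ⟨j, by push_cast; rw [mul_comm]⟩
  · exact absurd (MonoidHom.mem_ker.1 hg) (by rw [DihedralGroup.one_def]; intro h; cases h)

theorem quaternionToDihedral_isStem (n : ℕ) (hn : Even n) :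
    Cfsg.IsStemExtension (quaternionToDihedral n) := by
  have hneg : (n : ZMod (2 * n)) = -(n : ZMod (2 * n)) := by
    rw [eq_neg_iff_add_eq_zero, ← Nat.cast_add, ← two_mul, ZMod.natCast_self]
  refine ⟨quaternionToDihedral_surjective n, fun g hg => ?_, fun g hg => ?_⟩
  · obtain ⟨k, rfl⟩ := mem_ker_quaternionToDihedral n hg
    have hk : (k : ZMod (2 * n)) * n = -((k : ZMod (2 * n)) * n) := by rw [← mul_neg, ← hneg]
    rw [Subgroup.mem_center_iff]
    rintro (i | i)
    · rw [QuaternionGroup.a_mul_a, QuaternionGroup.a_mul_a, add_comm]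
    · rw [QuaternionGroup.xa_mul_a, QuaternionGroup.a_mul_xa]
      congr 1
      rw [sub_eq_add_neg, ← hk]
  · obtain ⟨k, rfl⟩ := mem_ker_quaternionToDihedral n hg
    obtain ⟨m, hm⟩ := hn
    have : (QuaternionGroup.a ((k : ZMod (2 * n)) * n) : QuaternionGroup n) =
        ⁅QuaternionGroup.xa (0 : ZMod (2 * n)), QuaternionGroup.a ((k : ZMod (2 * n)) * (m : ZMod (2 * n)))⁆ := by
      rw [commutatorElement_def, eq_mul_inv_iff_mul_eq, eq_mul_inv_iff_mul_eq]
      simp only [QuaternionGroup.a_mul_a, QuaternionGroup.a_mul_xa, QuaternionGroup.xa_mul_a]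
      congr 1
      have h2 : (n : ZMod (2 * n)) = (m : ZMod (2 * n)) + m := by rw [← Nat.cast_add, ← hm]
      have h3 : (k : ZMod (2 * n)) * ((m : ZMod (2 * n)) + m) =
          -((k : ZMod (2 * n)) * ((m : ZMod (2 * n)) + m)) := by
        rw [← h2, ← mul_neg, ← hneg]
      rw [h2]
      linear_combination -h3
    rw [this]
    exact Subgroup.commutator_mem_commutator (Subgroup.mem_top _) (Subgroup.mem_top _)

theorem card_ker_quaternionToDihedral (n : ℕ) [NeZero n] :
    Nat.card (quaternionToDihedral n).ker = 2 := by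
  have h := Subgroup.card_mul_index (quaternionToDihedral n).ker
  rw [Subgroup.index_ker, MonoidHom.range_eq_top_of_surjective _ (quaternionToDihedral_surjective n),
    Subgroup.card_top, DihedralGroup.nat_card, Nat.card_eq_fintype_card (α := QuaternionGroup n),
    QuaternionGroup.card] at h
  exact Nat.eq_of_mul_eq_mul_right (Nat.mul_pos two_pos (NeZero.pos n)) (h.trans (by ring))

end CfsgLib.Schur
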