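import Cfsg.Agent.Lib.Schur.Multiplier
import Mathlib

/-!
# Uniqueness of the cover over the group
-/

set_option autoImplicit false

open scoped commutatorElement

namespace CfsgLib.Schur

universe u v

variable {Q : Type u} [Group Q]

theorem mem_sup_commutator_of_proj {e : Ext Q} (S : Subgroup (Ext Q)) (hS : mult Q ⊔ S = (proj Q).ker)
    (he : proj Q e ∈ commutator Q) : e ∈ S ⊔ commutator (Ext Q) := by
  have hmap : (commutator (Ext Q)).map (proj Q) = commutator Q := by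
    rw [commutator_def, commutator_def, Subgroup.map_commutator,
      Subgroup.map_top_of_surjective _ (proj_surjective Q)]
  rw [← hmap] at he
  obtain ⟨c, hc, hce⟩ := he
  have hk : e * c⁻¹ ∈ (proj Q).ker := by
    show proj Q _ = 1
    rw [map_mul, map_inv, hce, mul_inv_cancel]
  rw [← hS] at hk
  have h2 : e * c⁻¹ ∈ S ⊔ commutator (Ext Q) :=
    (sup_le (inf_le_right.trans le_sup_right) le_sup_left : mult Q ⊔ S ≤ _) hk
  have h3 := mul_mem h2 ((le_sup_right : commutator (Ext Q) ≤ S ⊔ commutator (Ext Q)) hc)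
  rwa [inv_mul_cancel_right] at h3

theorem exists_toFree_eq (S : Subgroup (Ext Q)) (hS : mult Q ⊔ S = (proj Q).ker) {e : Ext Q}
    (he : proj Q e ∈ commutator Q) : ∃ s ∈ S, toFree Q s = toFree Q e := by
  have h := Subgroup.mem_map_of_mem (toFree Q) (mem_sup_commutator_of_proj S hS he)
  have hb : (commutator (Ext Q)).map (toFree Q) = ⊥ := by
    rw [Subgroup.map_eq_bot_iff, ker_toFree]
  rw [Subgroup.map_sup, hb, sup_bot_eq] at h
  exact h

theorem toFree_injOn {S : Subgroup (Ext Q)} (hS : S ⊓ commutator (Ext Q) = ⊥) {s : Ext Q} (hs : s ∈ S)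
    (h : toFree Q s = 1) : s = 1 :=
  (Subgroup.eq_bot_iff_forall _).1 hS s ⟨hs, by rw [← ker_toFree]; exact h⟩

variable [Finite Q]

theorem pow_card_abelianization_mem (q : Q) : q ^ Nat.card (Abelianization Q) ∈ commutator Q := by
  rw [← QuotientGroup.eq_one_iff, QuotientGroup.mk_pow]
  exact pow_card_eq_one'

omit [Finite Q] in
/-- A cover is the quotient of `Ext Q` by a complement. -/
theorem lift_bijective_mult {Γ : Type v} [Group Γ] {σ : Γ →* Q} (hσ : Cfsg.IsStemExtension σ)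
    {φ : Ext Q →* Γ} (h : σ.comp φ = proj Q) [Finite (mult Q)] (hcard : Nat.card σ.ker = Nat.card (mult Q)) :
    φ.ker ≤ (proj Q).ker ∧ φ.ker ⊓ commutator (Ext Q) = ⊥ ∧ mult Q ⊔ φ.ker = (proj Q).ker := by
  have hle : φ.ker ≤ (proj Q).ker := fun x hx => by
    show proj Q x = 1
    rw [← h, MonoidHom.comp_apply, show φ x = 1 from hx, map_one]
  have hsurj := multMap_surjective h hσ.2.1 hσ.2.2
  have hinj : Function.Injective (multMap h) :=
    ((Nat.bijective_iff_surjective_and_card (multMap h)).2 ⟨hsurj, hcard.symm⟩).1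
  refine ⟨hle, ?_, le_antisymm (sup_le (mult_le_ker Q) hle) fun x hx => ?_⟩
  · rw [Subgroup.eq_bot_iff_forall]
    intro x hx
    have h1 : (⟨x, hle hx.1, hx.2⟩ : mult Q) = 1 := hinj (by
      rw [map_one]; exact Subtype.ext hx.1)
    exact congrArg Subtype.val h1
  · have hz : φ x ∈ σ.ker := by
      show σ (φ x) = 1
      rw [← MonoidHom.comp_apply, h]; exact hx
    obtain ⟨m, hm⟩ := hsurj ⟨φ x, hz⟩
    have e : x = (m : Ext Q) * ((m : Ext Q)⁻¹ * x) := (mul_inv_cancel_left _ _).symm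
    rw [e]
    refine Subgroup.mul_mem_sup m.2 ?_
    show φ _ = 1
    rw [map_mul, map_inv, show φ (m : Ext Q) = φ x from congrArg Subtype.val hm, inv_mul_cancel]

theorem exists_equiv_of_coprime {Γ₁ Γ₂ : Type v} [Group Γ₁] [Finite Γ₁] [Group Γ₂] [Finite Γ₂]
    {σ₁ : Γ₁ →* Q} {σ₂ : Γ₂ →* Q} (h₁ : Cfsg.IsStemExtension σ₁) (h₂ : Cfsg.IsStemExtension σ₂)
    (hc₁ : Nat.card σ₁.ker = Nat.card (mult Q)) (hc₂ : Nat.card σ₂.ker = Nat.card (mult Q))
    (hcop : Nat.Coprime (Nat.card (Abelianization Q)) (Nat.card (mult Q))) :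
    ∃ e : Γ₁ ≃* Γ₂, σ₂.comp e.toMonoidHom = σ₁ := by
  classical
  obtain ⟨φ₁, hφ₁⟩ := exists_lift σ₁ h₁.1 h₁.2.1
  obtain ⟨φ₂, hφ₂⟩ := exists_lift σ₂ h₂.1 h₂.2.1
  obtain ⟨hle, hinf, hsup⟩ := lift_bijective_mult h₁ hφ₁ hc₁
  letI : CommGroup σ₂.ker :=
    { (inferInstance : Group σ₂.ker) with
      mul_comm := fun a b => Subtype.ext (Subgroup.mem_center_iff.1 (h₂.2.1 b.2) a) }
  set S := φ₁.ker with hSdef
  set N := Nat.card (Abelianization Q)
  have hN : ∀ e : Ext Q, ∃ s : S, toFree Q s = toFree Q e ^ N := fun e => by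
    obtain ⟨s, hs, hs'⟩ := exists_toFree_eq S hsup (e := e ^ N)
      (by rw [map_pow]; exact pow_card_abelianization_mem _)
    exact ⟨⟨s, hs⟩, by rw [hs', map_pow]⟩
  choose sec hsec using hN
  have huniq : ∀ s t : S, toFree Q s = toFree Q t → s = t := fun s t h => by
    have h1 := toFree_injOn hinf (s⁻¹ * t).2 (by
      rw [Subgroup.coe_mul, Subgroup.coe_inv, map_mul, map_inv, h, inv_mul_cancel])
    exact inv_mul_eq_one.1 (Subtype.ext h1)
  let secHom : Ext Q →* S := MonoidHom.mk' sec fun a b => huniq _ _ (by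
    rw [Subgroup.coe_mul, map_mul, hsec, hsec, hsec, map_mul, mul_pow])
  let r : S →* σ₂.ker := (φ₂.comp S.subtype).codRestrict _ fun s => by
    show σ₂ (φ₂ s) = 1
    rw [← MonoidHom.comp_apply, hφ₂]
    exact hle s.2
  have hpc : Function.Bijective (powMonoidHom N : σ₂.ker →* σ₂.ker) :=
    (powCoprime (G := σ₂.ker) (by rw [hc₂]; exact hcop.symm)).bijective
  let root : σ₂.ker ≃* σ₂.ker := MulEquiv.ofBijective _ hpc
  let ψ : Ext Q →* σ₂.ker := (root.symm.toMonoidHom.comp (r.comp secHom))⁻¹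
  have hψS : ∀ s ∈ S, φ₂ s * (ψ s : Γ₂) = 1 := by
    intro s hs
    have e : sec s = (⟨s, hs⟩ : S) ^ N := huniq _ _ (by rw [hsec, SubmonoidClass.coe_pow, map_pow])
    have e2 : ψ s = (r ⟨s, hs⟩)⁻¹ := by
      show (root.symm (r (sec s)))⁻¹ = _
      rw [e, map_pow]
      exact congrArg Inv.inv (root.symm_apply_apply (r ⟨s, hs⟩))
    rw [e2, Subgroup.coe_inv]
    exact mul_inv_cancel (φ₂ s)
  let φ : Ext Q →* Γ₂ := MonoidHom.mk' (fun x => φ₂ x * (ψ x : Γ₂)) fun a b => by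
    rw [map_mul, map_mul, Subgroup.coe_mul, mul_assoc, mul_assoc, ← mul_assoc (φ₂ b),
      Subgroup.mem_center_iff.1 (h₂.2.1 (ψ a).2) (φ₂ b), mul_assoc]
  have hφ : σ₂.comp φ = proj Q := MonoidHom.ext fun x => by
    show σ₂ (φ₂ x * (ψ x : Γ₂)) = _
    rw [map_mul, show σ₂ (ψ x : Γ₂) = 1 from (ψ x).2, mul_one, ← MonoidHom.comp_apply, hφ₂]
  have hs₁ := lift_surjective hφ₁ h₁.2.1 h₁.2.2
  have hs₂ := lift_surjective hφ h₂.2.1 h₂.2.2
  let g : Γ₁ →* Γ₂ := φ₁.liftOfSurjective hs₁ ⟨φ, fun x hx => hψS x hx⟩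
  have hg : ∀ x, g (φ₁ x) = φ x := fun x => MonoidHom.liftOfRightInverse_comp_apply _ _ _ _ x
  have hcard : Nat.card Γ₁ = Nat.card Γ₂ := by
    rw [← Subgroup.card_mul_index σ₁.ker, ← Subgroup.card_mul_index σ₂.ker, hc₁, hc₂, Subgroup.index_ker,
      Subgroup.index_ker, MonoidHom.range_eq_top.2 h₁.1, MonoidHom.range_eq_top.2 h₂.1]
  have hgs : Function.Surjective g := fun y => by
    obtain ⟨x, rfl⟩ := hs₂ y
    exact ⟨φ₁ x, hg x⟩
  refine ⟨MulEquiv.ofBijective g ((Nat.bijective_iff_surjective_and_card g).2 ⟨hgs, hcard⟩),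
    MonoidHom.ext fun y => ?_⟩
  obtain ⟨x, rfl⟩ := hs₁ y
  show σ₂ (g (φ₁ x)) = σ₁ (φ₁ x)
  rw [hg, ← MonoidHom.comp_apply σ₁, hφ₁, ← hφ]
  rfl

theorem exists_two_covers_of_not_coprime
    (hcop : ¬ Nat.Coprime (Nat.card (Abelianization Q)) (Nat.card (mult Q))) :
    ∃ C C' : Compl Q, ¬ ∃ e : C.Cover ≃* C'.Cover, C'.coverMap.comp e.toMonoidHom = C.coverMap := by
  classical
  obtain ⟨p, hp, hpQ, hpA⟩ := Nat.Prime.not_coprime_iff_dvd.1 hcop
  haveI := Fact.mk hp
  obtain ⟨a, ha⟩ : ∃ a : mult Q, ∀ y, y ^ p ≠ a := by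
    by_contra hc
    push Not at hc
    have hs : Function.Surjective (fun y : mult Q => y ^ p) := hc
    obtain ⟨z, hz⟩ := exists_prime_orderOf_dvd_card' p hpA
    have h1 : z = 1 := (Finite.injective_iff_surjective.2 hs) (by
      show z ^ p = 1 ^ p
      rw [one_pow, ← hz, pow_orderOf_eq_one])
    rw [h1, orderOf_one] at hz
    exact hp.one_lt.ne' hz.symm
  obtain ⟨q, hq⟩ := exists_prime_orderOf_dvd_card' (G := Abelianization Q) p hpQ
  obtain ⟨q, rfl⟩ := QuotientGroup.mk_surjective q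
  obtain ⟨e₀, rfl⟩ := proj_surjective Q q
  obtain ⟨C⟩ := exists_compl (Q := Q)
  letI : CommGroup C.S :=
    { (inferInstance : Group C.S) with
      mul_comm := fun a b => Subtype.ext
        (Subgroup.mem_center_iff.1 (ker_proj_le_center Q (C.le_ker b.2)) a) }
  have : Module.Finite ℤ (Additive (Abelianization (FreeGroup Q))) :=
    Module.Finite.of_basis (FreeAbelianGroup.basis Q)
  have : Module.Free ℤ (Additive (Abelianization (FreeGroup Q))) :=
    Module.Free.of_basis (FreeAbelianGroup.basis Q)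
  let T : Additive C.S →ₗ[ℤ] Additive (Abelianization (FreeGroup Q)) :=
    (MonoidHom.toAdditive ((toFree Q).comp C.S.subtype)).toIntLinearMap
  let B := Module.Free.chooseBasis ℤ (LinearMap.range T)
  have hp0 : proj Q (e₀ ^ p) ∈ commutator Q := by
    rw [map_pow, ← QuotientGroup.eq_one_iff, QuotientGroup.mk_pow]
    exact hq ▸ pow_orderOf_eq_one (G := Abelianization Q) _
  obtain ⟨s₀, hs₀, hs₀'⟩ := exists_toFree_eq C.S C.sup_eq hp0
  let y : LinearMap.range T := ⟨_, Additive.ofMul (⟨s₀, hs₀⟩ : C.S), rfl⟩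
  obtain ⟨i, hi⟩ : ∃ i, ¬ (p : ℤ) ∣ B.repr y i := by
    by_contra hc
    push Not at hc
    choose d hd using hc
    let w : LinearMap.range T := ∑ i, d i • B i
    have hy : y = (p : ℤ) • w := by
      rw [← B.sum_repr y, Finset.smul_sum]
      exact Finset.sum_congr rfl fun i _ => by rw [smul_smul, ← hd i]
    obtain ⟨w', hw'⟩ := w.2
    have h1 : (p : ℤ) • Additive.ofMul (toFree Q e₀) = (p : ℤ) • (w : Additive (Abelianization (FreeGroup Q))) := by
      rw [← Submodule.coe_smul, ← hy, natCast_zsmul, ← ofMul_pow, ← map_pow, ← hs₀']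
      rfl
    have h2 := smul_right_injective _ (Int.natCast_ne_zero.2 hp.ne_zero) h1
    rw [← hw'] at h2
    have h3 : toFree Q ((Additive.toMul w' : C.S) : Ext Q) = toFree Q e₀ := congrArg Additive.toMul h2.symm
    have h4 : (((Additive.toMul w' : C.S) : Ext Q))⁻¹ * e₀ ∈ commutator (Ext Q) := by
      rw [← ker_toFree]
      show toFree Q _ = 1
      rw [map_mul, map_inv, h3, inv_mul_cancel]
    have h5 := Subgroup.mem_map_of_mem (proj Q) h4
    rw [commutator_def, Subgroup.map_commutator] at h5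
    have h6 : proj Q e₀ ∈ commutator Q := by
      have h7 : proj Q ((Additive.toMul w' : C.S) : Ext Q) = 1 := C.le_ker (Additive.toMul w').2
      rw [map_mul, map_inv, h7, inv_one, one_mul] at h5
      exact Subgroup.commutator_mono le_top le_top h5
    rw [(QuotientGroup.eq_one_iff _).2 h6] at hq
    exact hp.one_lt.ne' (hq.symm.trans (orderOf_one (G := Abelianization Q)))
  let h : C.S →* mult Q :=
    (zpowersHom (mult Q) a).comp
      (AddMonoidHom.toMultiplicativeRight (((B.coord i).comp T.rangeRestrict).toAddMonoidHom))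
  let k : C.S →* Ext Q := MonoidHom.mk' (fun s => (s : Ext Q) * (h s : Ext Q)) fun s t => by
    rw [map_mul, Subgroup.coe_mul, Subgroup.coe_mul, mul_assoc, mul_assoc, ← mul_assoc (t : Ext Q),
      Subgroup.mem_center_iff.1 (mult_le_center Q (h s).2) (t : Ext Q), mul_assoc]
  let C' : Compl Q :=
    { S := k.range
      le_ker := by
        rintro _ ⟨s, rfl⟩
        exact mul_mem (C.le_ker s.2) (h s).2.1
      inf_eq := by
        rw [Subgroup.eq_bot_iff_forall]
        rintro _ ⟨⟨s, rfl⟩, hs⟩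
        have h1 : (s : Ext Q) ∈ commutator (Ext Q) := (Subgroup.mul_mem_cancel_right _ (h s).2.2).1 hs
        have h2 : s = 1 := Subtype.ext ((Subgroup.eq_bot_iff_forall _).1 C.inf_eq _ ⟨s.2, h1⟩)
        rw [h2, map_one]
      sup_eq := by
        refine le_antisymm (sup_le (mult_le_ker Q) (by
          rintro _ ⟨s, rfl⟩
          exact mul_mem (C.le_ker s.2) (h s).2.1)) ?_
        rw [← C.sup_eq]
        refine sup_le le_sup_left fun s hs => ?_
        have e : s = ((h ⟨s, hs⟩ : Ext Q))⁻¹ * k ⟨s, hs⟩ := by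
          show s = _ * (s * _)
          rw [Subgroup.mem_center_iff.1 (mult_le_center Q (h ⟨s, hs⟩).2) s, inv_mul_cancel_left]
        rw [e]
        exact Subgroup.mul_mem_sup (inv_mem (h ⟨s, hs⟩).2) ⟨⟨s, hs⟩, rfl⟩ }
  refine ⟨C, C', fun ⟨e, he⟩ => ?_⟩
  haveI : C'.S.Normal := C'.normal
  have hd : ∀ x : Ext Q, (QuotientGroup.mk' C'.S x)⁻¹ * e (QuotientGroup.mk' C.S x) ∈ C'.coverMap.ker := fun x => by
    show C'.coverMap _ = 1
    rw [map_mul, map_inv]
    show (proj Q x)⁻¹ * (C'.coverMap.comp e.toMonoidHom) (QuotientGroup.mk' C.S x) = 1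
    rw [he]
    exact inv_mul_cancel (proj Q x)
  let d : Ext Q →* C'.coverMap.ker := MonoidHom.mk' (fun x => ⟨_, hd x⟩) fun x x' => Subtype.ext (by
    show (QuotientGroup.mk' C'.S (x * x'))⁻¹ * e (QuotientGroup.mk' C.S (x * x')) = _ * _
    have hz := Subgroup.mem_center_iff.1 (C'.isStem.2.1 (hd x)) (QuotientGroup.mk' C'.S x')⁻¹
    rw [map_mul, map_mul, map_mul, mul_inv_rev, mul_assoc (QuotientGroup.mk' C'.S x')⁻¹,
      ← mul_assoc (QuotientGroup.mk' C'.S x)⁻¹, ← mul_assoc (QuotientGroup.mk' C'.S x')⁻¹, hz, mul_assoc])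
  let δ : Ext Q →* mult Q := C'.kerEquiv.symm.toMonoidHom.comp d
  have hδ : ∀ s : C.S, δ s = h s := fun s => by
    show C'.kerEquiv.symm (d s) = h s
    rw [MulEquiv.symm_apply_eq]
    refine Subtype.ext ?_
    show (QuotientGroup.mk' C'.S (s : Ext Q))⁻¹ * e (QuotientGroup.mk' C.S (s : Ext Q)) =
      QuotientGroup.mk' C'.S (h s : Ext Q)
    have h1 : QuotientGroup.mk' C.S (s : Ext Q) = 1 := (QuotientGroup.eq_one_iff _).2 s.2
    rw [h1, map_one, mul_one]
    refine inv_eq_of_mul_eq_one_right ?_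
    rw [← map_mul]
    exact (QuotientGroup.eq_one_iff _).2 ⟨s, rfl⟩
  have hker : commutator (Ext Q) ≤ δ.ker := Abelianization.commutator_subset_ker δ
  have hval : δ s₀ = δ e₀ ^ p := by
    rw [← map_pow, ← inv_mul_eq_one, ← map_inv, ← map_mul]
    refine hker ?_
    rw [← ker_toFree]
    show toFree Q _ = 1
    rw [map_mul, map_inv, hs₀', inv_mul_cancel]
  have hh : h ⟨s₀, hs₀⟩ = a ^ B.repr y i := rfl
  rw [← Subtype.coe_mk s₀ hs₀, hδ, hh] at hval
  obtain ⟨u, v, huv⟩ : IsCoprime (p : ℤ) (B.repr y i) :=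
    (Nat.prime_iff_prime_int.1 hp).coprime_iff_not_dvd.2 hi
  refine ha (a ^ u * δ e₀ ^ v) ?_
  rw [mul_pow, ← zpow_natCast, ← zpow_natCast, ← zpow_mul, ← zpow_mul, mul_comm v, zpow_mul (δ e₀),
    zpow_natCast (δ e₀), ← hval, ← zpow_mul, ← zpow_add, mul_comm _ v, huv, zpow_one]

theorem unique_cover_iff_coprime {A : Type v} [CommGroup A] (hA : Cfsg.HasSchurMultiplier Q A) :
    (∀ (Γ₁ Γ₂ : Type u) [Group Γ₁] [Finite Γ₁] [Group Γ₂] [Finite Γ₂] (σ₁ : Γ₁ →* Q) (σ₂ : Γ₂ →* Q),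
        Cfsg.IsStemExtension σ₁ → Cfsg.IsStemExtension σ₂ → Nonempty (σ₁.ker ≃* A) → Nonempty (σ₂.ker ≃* A) →
        ∃ e : Γ₁ ≃* Γ₂, σ₂.comp e.toMonoidHom = σ₁) ↔
      Nat.Coprime (Nat.card (Abelianization Q)) (Nat.card A) := by
  obtain ⟨eA⟩ := nonempty_equiv_of_hasSchurMultiplier hA
  have hc : Nat.card A = Nat.card (mult Q) := Nat.card_congr eA.toEquiv
  constructor
  · intro h
    rw [hc]
    by_contra hcop
    obtain ⟨C, C', hne⟩ := exists_two_covers_of_not_coprime hcop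
    haveI := C.finite_cover
    haveI := C'.finite_cover
    exact hne (h _ _ C.coverMap C'.coverMap C.isStem C'.isStem ⟨C.kerEquiv.symm.trans eA.symm⟩
      ⟨C'.kerEquiv.symm.trans eA.symm⟩)
  · intro hcop Γ₁ Γ₂ _ _ _ _ σ₁ σ₂ h₁ h₂ ⟨e₁⟩ ⟨e₂⟩
    exact exists_equiv_of_coprime h₁ h₂ ((Nat.card_congr e₁.toEquiv).trans hc)
      ((Nat.card_congr e₂.toEquiv).trans hc) (hc ▸ hcop)

end CfsgLib.Schur
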