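import Cfsg.Agent.Lib.Schur.Multiplier

/-!
# The multiplier seen in arbitrary central extensions; extensions twisted by a bilinear map
-/

set_option autoImplicit false

open scoped commutatorElement

namespace CfsgLib.Schur

universe u v w

variable {Q : Type u} [Group Q] {X : Type v} [Group X] {ξ : X →* Q}

theorem map_mult_eq_inf {φ : Ext Q →* X} (h : ξ.comp φ = proj Q) (hc : ξ.ker ≤ Subgroup.center X) :
    (mult Q).map φ = ξ.ker ⊓ commutator X := by
  have hcomm := commutator_eq_map_of_range_sup φ ξ.ker hc (range_sup_ker_eq_top h)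
  refine le_antisymm ?_ ?_
  · rintro _ ⟨m, hm, rfl⟩
    refine ⟨?_, ?_⟩
    · show ξ (φ m) = 1
      rw [← MonoidHom.comp_apply, h]; exact hm.1
    · rw [hcomm]; exact ⟨m, hm.2, rfl⟩
  · rintro z ⟨hz, hz'⟩
    rw [hcomm] at hz'
    obtain ⟨c, hc', rfl⟩ := hz'
    refine ⟨c, ⟨?_, hc'⟩, rfl⟩
    show proj Q c = 1
    rw [← h]; exact hz

theorem exists_mult_surj_inf (hξ : Function.Surjective ξ) (hc : ξ.ker ≤ Subgroup.center X) :
    ∃ f : mult Q →* (ξ.ker ⊓ commutator X : Subgroup X), Function.Surjective f := by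
  obtain ⟨φ, h⟩ := exists_lift ξ hξ hc
  exact ⟨(MulEquiv.subgroupCongr (map_mult_eq_inf h hc)).toMonoidHom.comp (φ.subgroupMap (mult Q)),
    (MulEquiv.subgroupCongr (map_mult_eq_inf h hc)).surjective.comp (φ.subgroupMap_surjective _)⟩

theorem card_inf_le [Finite Q] (hξ : Function.Surjective ξ) (hc : ξ.ker ≤ Subgroup.center X) :
    Nat.card (ξ.ker ⊓ commutator X : Subgroup X) ≤ Nat.card (mult Q) := by
  obtain ⟨f, hf⟩ := exists_mult_surj_inf hξ hc
  exact Nat.card_le_card_of_surjective f hf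

theorem mult_ne_bot_of_inf (hξ : Function.Surjective ξ) (hc : ξ.ker ≤ Subgroup.center X)
    (h : ξ.ker ⊓ commutator X ≠ ⊥) : mult Q ≠ ⊥ := by
  intro hb
  obtain ⟨φ, hφ⟩ := exists_lift ξ hξ hc
  rw [← map_mult_eq_inf hφ hc, hb, Subgroup.map_bot] at h
  exact h rfl

/-! ### Twisted extensions -/

/-- The extension of `G` by `A` with cocycle the bilinear map `B`. -/
@[ext]
structure Twist {G : Type u} [Group G] {A : Type v} [CommGroup A] (B : G →* G →* A) where
  /-- coordinate in the kernel -/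
  fst : A
  /-- coordinate in the quotient -/
  snd : G

namespace Twist

variable {G : Type u} [Group G] {A : Type v} [CommGroup A] {B : G →* G →* A}

instance instMul : Mul (Twist B) := ⟨fun x y => ⟨x.fst * y.fst * B x.snd y.snd, x.snd * y.snd⟩⟩

instance instOne : One (Twist B) := ⟨⟨1, 1⟩⟩

instance instInv : Inv (Twist B) := ⟨fun x => ⟨x.fst⁻¹ * B x.snd x.snd, x.snd⁻¹⟩⟩

@[simp] theorem mul_fst (x y : Twist B) : (x * y).fst = x.fst * y.fst * B x.snd y.snd := rfl
@[simp] theorem mul_snd (x y : Twist B) : (x * y).snd = x.snd * y.snd := rfl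
@[simp] theorem one_fst : (1 : Twist B).fst = 1 := rfl
@[simp] theorem one_snd : (1 : Twist B).snd = 1 := rfl
@[simp] theorem inv_fst (x : Twist B) : x⁻¹.fst = x.fst⁻¹ * B x.snd x.snd := rfl
@[simp] theorem inv_snd (x : Twist B) : x⁻¹.snd = x.snd⁻¹ := rfl

instance instGroup : Group (Twist B) :=
  Group.ofLeftAxioms
    (fun x y z => by
      refine Twist.ext ?_ (mul_assoc _ _ _)
      simp only [mul_fst, mul_snd, map_mul, MonoidHom.mul_apply]
      simp only [mul_comm, mul_left_comm, mul_assoc])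
    (fun x => by refine Twist.ext ?_ (one_mul _); simp)
    (fun x => by
      refine Twist.ext ?_ (inv_mul_cancel _)
      simp only [mul_fst, inv_fst, inv_snd, one_fst, map_inv, MonoidHom.inv_apply]
      rw [mul_comm x.fst⁻¹, mul_assoc, mul_assoc, inv_mul_cancel_left, mul_inv_cancel])

/-- the projection -/
def proj (B : G →* G →* A) : Twist B →* G where
  toFun x := x.snd
  map_one' := rfl
  map_mul' _ _ := rfl

@[simp] theorem proj_apply (x : Twist B) : proj B x = x.snd := rfl

instance instFinite [Finite G] [Finite A] : Finite (Twist B) :=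
  Finite.of_injective (fun x : Twist B => (x.fst, x.snd)) fun x y h => by
    obtain ⟨h1, h2⟩ := Prod.mk.injEq .. ▸ h
    exact Twist.ext h1 h2

theorem commute_iff {x y : Twist B} :
    Commute x y ↔ Commute x.snd y.snd ∧ B x.snd y.snd = B y.snd x.snd := by
  constructor
  · intro h
    refine ⟨congrArg Twist.snd h.eq, ?_⟩
    have := congrArg Twist.fst h.eq
    simp only [mul_fst] at this
    rw [mul_comm y.fst] at this
    exact mul_left_cancel this
  · rintro ⟨h1, h2⟩
    refine Twist.ext ?_ h1.eq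
    simp only [mul_fst, h2]
    rw [mul_comm x.fst]

theorem commutator_eq {g h : G} (hgh : Commute g h) :
    ⁅(⟨1, g⟩ : Twist B), (⟨1, h⟩ : Twist B)⁆ = ⟨B g h / B h g, 1⟩ := by
  have e : (⟨1, g⟩ : Twist B) * ⟨1, h⟩ = ⟨B g h / B h g, 1⟩ * (⟨1, h⟩ * ⟨1, g⟩) := by
    refine Twist.ext ?_ ?_
    · simp [hgh.eq]
    · simp [hgh.eq]
  rw [commutatorElement_def, e]; group

theorem mem_center {x : Twist B} (hx : x.snd ∈ Subgroup.center G)
    (hB : ∀ g, B x.snd g = B g x.snd) : x ∈ Subgroup.center (Twist B) :=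
  Subgroup.mem_center_iff.2 fun y =>
    (commute_iff.2 ⟨(Subgroup.mem_center_iff.1 hx y.snd).symm, hB y.snd⟩).eq.symm

end Twist

end CfsgLib.Schur
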