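import Mathlib

/-!
# Integer vectors for certificates about central extensions
-/

set_option autoImplicit false

namespace CfsgLib.Schur.Cert

/-- a vector, padded by zeros -/
abbrev Vec := List ℤ

/-- a binary trie for data -/
inductive Trie (α : Type) where
  | leaf (a : α)
  | node (l r : Trie α)

/-- lookup in a trie, along the binary digits of the index -/
def Trie.get {α : Type} : Trie α → ℕ → α
  | .leaf a, _ => a
  | .node l r, i => bif i % 2 == 0 then l.get (i / 2) else r.get (i / 2)

/-- pass on a number in normal form -/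
def forceN {α : Type} (n : ℕ) (f : ℕ → α) : α :=
  match n with
  | 0 => f 0
  | m + 1 => f (m + 1)

/-- pass on an integer in normal form -/
def forceI {α : Type} (n : ℤ) (f : ℤ → α) : α :=
  match n with
  | .ofNat m => forceN m fun m => f (Int.ofNat m)
  | .negSucc m => forceN m fun m => f (Int.negSucc m)

/-- pass on a vector in normal form -/
def forceV {α : Type} : Vec → (Vec → α) → α
  | [], f => f []
  | a :: v, f => forceI a fun a => forceV v fun v => f (a :: v)

theorem forceN_eq {α : Type} (n : ℕ) (f : ℕ → α) : forceN n f = f n := by cases n <;> rfl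

theorem forceI_eq {α : Type} (n : ℤ) (f : ℤ → α) : forceI n f = f n := by
  cases n <;> simp [forceI, forceN_eq]

theorem forceV_eq {α : Type} : ∀ (v : Vec) (f : Vec → α), forceV v f = f v
  | [], _ => rfl
  | a :: v, f => by simp [forceV, forceI_eq, forceV_eq v]

/-- sum of vectors -/
def vadd : Vec → Vec → Vec
  | [], w => w
  | a :: v, [] => a :: v
  | a :: v, b :: w => (a + b) :: vadd v w

/-- multiple of a vector -/
def vsmul (n : ℤ) (v : Vec) : Vec := v.map (n * ·)

/-- negative of a vector -/
def vneg (v : Vec) : Vec := v.map fun a => -a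

/-- the coefficient at an index -/
def cf (v : Vec) (i : ℕ) : ℤ := v.getD i 0

/-- a vector is zero -/
def vzero (v : Vec) : Bool := v.all (· == 0)

/-- two vectors agree -/
def veq (v w : Vec) : Bool := vzero (vadd v (vneg w))

/-- a unit vector -/
def vunit (i : ℕ) : Vec := List.replicate i 0 ++ [1]

/-- combination of rows -/
def comb : List Vec → Vec → Vec
  | r :: rs, a :: v => vadd (vsmul a r) (comb rs v)
  | _, _ => []

/-- the pairing with a vector -/
def dot : Vec → Vec → ℤ
  | c, a :: v => c.headD 0 * a + dot c.tail v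
  | _, [] => 0

theorem cf_nil (i : ℕ) : cf [] i = 0 := rfl

theorem cf_cons_succ (a : ℤ) (v : Vec) (i : ℕ) : cf (a :: v) (i + 1) = cf v i := rfl

theorem cf_vadd : ∀ (v w : Vec) (i : ℕ), cf (vadd v w) i = cf v i + cf w i
  | [], w, i => by simp [vadd, cf_nil]
  | a :: v, [], i => by simp [vadd, cf_nil]
  | a :: v, b :: w, 0 => rfl
  | a :: v, b :: w, i + 1 => by simp only [vadd, cf_cons_succ]; exact cf_vadd v w i

theorem cf_vsmul (n : ℤ) : ∀ (v : Vec) (i : ℕ), cf (vsmul n v) i = n * cf v i
  | [], i => by simp [vsmul, cf_nil]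
  | a :: v, 0 => rfl
  | a :: v, i + 1 => cf_vsmul n v i

theorem cf_vneg : ∀ (v : Vec) (i : ℕ), cf (vneg v) i = -cf v i
  | [], i => by simp [vneg, cf_nil]
  | a :: v, 0 => rfl
  | a :: v, i + 1 => cf_vneg v i

theorem cf_of_vzero : ∀ {v : Vec}, vzero v = true → ∀ i, cf v i = 0
  | [], _, i => rfl
  | a :: v, h, i => by
    simp only [vzero, List.all_cons, Bool.and_eq_true, beq_iff_eq] at h
    cases i with
    | zero => exact h.1
    | succ i => exact cf_of_vzero h.2 i

theorem cf_eq_of_veq {v w : Vec} (h : veq v w = true) (i : ℕ) : cf v i = cf w i := by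
  have := cf_of_vzero h i
  rw [cf_vadd, cf_vneg] at this
  omega

theorem cf_comb_vadd : ∀ (rs : List Vec) (v w : Vec) (i : ℕ),
    cf (comb rs (vadd v w)) i = cf (comb rs v) i + cf (comb rs w) i
  | [], v, w, i => by simp [comb, cf_nil]
  | r :: rs, [], w, i => by simp [comb, vadd, cf_nil]
  | r :: rs, a :: v, [], i => by simp [comb, vadd, cf_nil]
  | r :: rs, a :: v, b :: w, i => by
    simp only [comb, vadd, cf_vadd, cf_vsmul, cf_comb_vadd rs v w i]
    ring

theorem cf_comb_vneg : ∀ (rs : List Vec) (v : Vec) (i : ℕ), cf (comb rs (vneg v)) i = -cf (comb rs v) i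
  | [], v, i => by simp [comb, cf_nil]
  | r :: rs, [], i => by simp [comb, vneg, cf_nil]
  | r :: rs, a :: v, i => by
    simp only [vneg, List.map_cons, comb, cf_vadd, cf_vsmul]
    rw [show v.map (fun a => -a) = vneg v from rfl, cf_comb_vneg rs v i]
    ring

section Ev

variable {M : Type*} [CommGroup M]

/-- a vector evaluated on a sequence of elements -/
def ev : (ℕ → M) → Vec → M
  | _, [] => 1
  | R, a :: v => R 0 ^ a * ev (fun i => R (i + 1)) v

theorem ev_vadd : ∀ (R : ℕ → M) (v w : Vec), ev R (vadd v w) = ev R v * ev R w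
  | R, [], w => by simp [vadd, ev]
  | R, a :: v, [] => by simp [vadd, ev]
  | R, a :: v, b :: w => by
    simp only [vadd, ev, ev_vadd, zpow_add]
    ac_rfl

theorem ev_vsmul : ∀ (R : ℕ → M) (n : ℤ) (v : Vec), ev R (vsmul n v) = ev R v ^ n
  | R, n, [] => by simp [vsmul, ev]
  | R, n, a :: v => by
    simp only [vsmul, List.map_cons, ev, mul_zpow, ← zpow_mul, mul_comm n]
    congr 1
    exact (congrArg (ev _) (List.map_congr_left fun b _ => mul_comm b n)).trans (ev_vsmul _ n v)

theorem ev_vneg : ∀ (R : ℕ → M) (v : Vec), ev R (vneg v) = (ev R v)⁻¹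
  | R, [] => by simp [vneg, ev]
  | R, a :: v => by
    simp only [vneg, List.map_cons, ev, zpow_neg, mul_inv]
    exact congrArg _ (ev_vneg _ v)

theorem ev_of_vzero : ∀ (R : ℕ → M) {v : Vec}, vzero v = true → ev R v = 1
  | R, [], _ => rfl
  | R, a :: v, h => by
    simp only [vzero, List.all_cons, Bool.and_eq_true, beq_iff_eq] at h
    simp [ev, h.1, ev_of_vzero _ (v := v) h.2]

theorem ev_eq_of_veq {R : ℕ → M} {v w : Vec} (h : veq v w = true) : ev R v = ev R w := by
  have := ev_of_vzero R h
  rwa [ev_vadd, ev_vneg, mul_inv_eq_one] at this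

theorem ev_vunit : ∀ (R : ℕ → M) (i : ℕ), ev R (vunit i) = R i
  | R, 0 => by simp [vunit, ev]
  | R, i + 1 => by
    show R 0 ^ (0 : ℤ) * ev (fun j => R (j + 1)) (vunit i) = R (i + 1)
    rw [ev_vunit, zpow_zero, one_mul]

/-- a change of generators -/
theorem ev_eq_prod {ι : Type*} (s : Finset ι) (f : ι → M) : ∀ (v : Vec) (R : ℕ → M) (P : ι → Vec),
    (∀ i, R i = ∏ t ∈ s, f t ^ cf (P t) i) → ev R v = ∏ t ∈ s, f t ^ dot (P t) v
  | [], R, P, _ => by simp [ev, dot]
  | a :: v, R, P, h => by
    rw [ev, ev_eq_prod s f v _ (fun t => (P t).tail) fun i => by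
      rw [h]
      refine Finset.prod_congr rfl fun t _ => ?_
      cases P t <;> rfl]
    rw [h 0, ← Finset.prod_zpow, ← Finset.prod_mul_distrib]
    refine Finset.prod_congr rfl fun t _ => ?_
    rw [← zpow_mul, ← zpow_add, dot]
    congr 1
    cases P t <;> simp [cf]

end Ev

/-- a word in numbered generators -/
abbrev Word := List (ℕ × Bool)

/-- the exponent sum of a word -/
def wexp (gexp : ℕ → Vec) : Word → Vec
  | [] => []
  | l :: w => vadd (bif l.2 then gexp l.1 else vneg (gexp l.1)) (wexp gexp w)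

/-- the inverse word -/
def winv (w : Word) : Word := w.reverse.map fun l => (l.1, !l.2)

theorem cf_wexp_append (gexp : ℕ → Vec) (i : ℕ) : ∀ w w' : Word,
    cf (wexp gexp (w ++ w')) i = cf (wexp gexp w) i + cf (wexp gexp w') i
  | [], w' => by simp [wexp, cf_nil]
  | l :: w, w' => by
    simp only [List.cons_append, wexp, cf_vadd, cf_wexp_append gexp i w w']
    ring

theorem cf_wexp_winv (gexp : ℕ → Vec) (i : ℕ) : ∀ w : Word, cf (wexp gexp (winv w)) i = -cf (wexp gexp w) i
  | [] => by simp [winv, wexp, cf_nil]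
  | l :: w => by
    have e : winv (l :: w) = winv w ++ [(l.1, !l.2)] := by simp [winv]
    rw [e, cf_wexp_append, cf_wexp_winv gexp i w, show l :: w = [l] ++ w from rfl, cf_wexp_append]
    obtain ⟨x, s⟩ := l
    cases s <;> simp [wexp, cf_vadd, cf_vneg, cf_nil] <;> ring

/-- substitution of words for generators -/
def wsub (g : ℕ → Word) (w : Word) : Word := w.flatMap fun l => bif l.2 then g l.1 else winv (g l.1)

section Word

variable {G : Type*} [Group G]

/-- a letter in a group -/
def lett (a : ℕ → G) (l : ℕ × Bool) : G := bif l.2 then a l.1 else (a l.1)⁻¹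

/-- a word in a group -/
def wval (a : ℕ → G) (w : Word) : G := (w.map (lett a)).prod

theorem wval_nil (a : ℕ → G) : wval a [] = 1 := rfl

theorem wval_cons (a : ℕ → G) (l : ℕ × Bool) (w : Word) : wval a (l :: w) = lett a l * wval a w := by
  simp [wval]

theorem wval_append (a : ℕ → G) (w w' : Word) : wval a (w ++ w') = wval a w * wval a w' := by
  simp [wval]

theorem wval_winv (a : ℕ → G) : ∀ w : Word, wval a (winv w) = (wval a w)⁻¹
  | [] => by simp [winv, wval]
  | l :: w => by
    have e : winv (l :: w) = winv w ++ [(l.1, !l.2)] := by simp [winv]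
    rw [e, wval_append, wval_winv a w, wval_cons a l w, mul_inv_rev]
    congr 1
    obtain ⟨x, s⟩ := l
    cases s <;> simp [wval, lett]

theorem map_wval {H : Type*} [Group H] (f : G →* H) (a : ℕ → G) : ∀ w : Word,
    f (wval a w) = wval (f ∘ a) w
  | [] => by simp [wval]
  | l :: w => by
    rw [wval_cons, wval_cons, map_mul, map_wval f a w]
    obtain ⟨x, s⟩ := l
    cases s <;> simp [lett]

theorem wval_wsub (a : ℕ → G) (g : ℕ → Word) : ∀ w : Word, wval a (wsub g w) = wval (fun j => wval a (g j)) w
  | [] => rfl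
  | l :: w => by
    rw [show wsub g (l :: w) = (bif l.2 then g l.1 else winv (g l.1)) ++ wsub g w from rfl, wval_append,
      wval_wsub a g w, wval_cons]
    congr 1
    obtain ⟨x, s⟩ := l
    cases s <;> simp [lett, wval_winv]

end Word

end CfsgLib.Schur.Cert
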