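import Mathlib
import Cfsg.Agent.Lib.Schur.CertVectors

/-!
# Coset tables that certify bounds on central extensions
-/

set_option autoImplicit false

namespace CfsgLib.Schur.Cert

open scoped commutatorElement

/-- an automaton on normal forms: a state and a letter give a state and an exponent vector -/
abbrev Machine := ℕ → ℕ × Bool → ℕ × Vec

/-- running a machine along a word -/
def mrun (f : Machine) : Word → ℕ → ℕ × Vec
  | [], i => (i, [])
  | l :: w, i =>
    forceN (f i l).1 fun j =>
      let q := mrun f w j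
      forceN q.1 fun k => forceV (vadd (f i l).2 q.2) fun v => (k, v)

/-- a defining relation at some vertex -/
structure Rel where
  /-- the word -/
  word : Word
  /-- its value in the subgroup, nonempty only at the base vertex -/
  rhs : Word
  /-- its exponent vector -/
  vec : Vec

/-- a coset table with labels in the subgroup -/
structure Table where
  /-- number of cosets -/
  size : ℕ
  /-- number of generators -/
  ngen : ℕ
  /-- the table -/
  next : ℕ → ℕ → ℕ
  /-- the inverse table -/
  prev : ℕ → ℕ → ℕ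
  /-- labels of edges -/
  lab : ℕ → ℕ → Word
  /-- vectors of edges -/
  val : ℕ → ℕ → Vec
  /-- number of the deduction of an edge, or zero in the tree -/
  rank : ℕ → ℕ → ℕ
  /-- the tree -/
  tree : ℕ → ℕ × ℕ
  /-- deductions: relation, vertex, position -/
  cert : ℕ → ℕ × ℕ × ℕ
  /-- number of deductions -/
  nded : ℕ
  /-- relations -/
  rels : List Rel
  /-- potentials -/
  pot : ℕ → Vec
  /-- number of states of the subgroup -/
  innerSize : ℕ
  /-- number of generators of the subgroup -/
  innerGen : ℕ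

namespace Table

variable (T : Table) (f : Machine)

/-- the end of an edge -/
def stepV (g : ℕ) (l : ℕ × Bool) : ℕ := bif l.2 then T.next g l.1 else T.prev g l.1

/-- the edge of a letter -/
def edgeV (g : ℕ) (l : ℕ × Bool) : ℕ := bif l.2 then g else T.prev g l.1

/-- the label of a letter -/
def labV (g : ℕ) (l : ℕ × Bool) : Word := bif l.2 then T.lab g l.1 else winv (T.lab (T.prev g l.1) l.1)

/-- the vector of a letter -/
def valV (g : ℕ) (l : ℕ × Bool) : Vec := bif l.2 then T.val g l.1 else vneg (T.val (T.prev g l.1) l.1)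

/-- tracing a word -/
def trace : Word → ℕ → ℕ × Word × Vec
  | [], g => (g, [], [])
  | l :: w, g =>
    forceN (T.stepV g l) fun g' =>
      let r := trace w g'
      forceN r.1 fun e => forceV (vadd (T.valV g l) r.2.2) fun v => (e, T.labV g l ++ r.2.1, v)

/-- all edges on a path are known -/
def known (r : ℕ) : Word → ℕ → Bool
  | [], _ => true
  | l :: w, g => decide (T.rank (T.edgeV g l) l.1 < r) && known r w (T.stepV g l)

/-- the machine of a table -/
def machine : Machine := fun idx l =>
  forceN (idx / T.innerSize) fun g => forceN (idx % T.innerSize) fun i =>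
    let p := mrun f (T.labV g l) i
    forceN (T.stepV g l * T.innerSize + p.1) fun k => forceV (vadd p.2 (T.valV g l)) fun v => (k, v)

/-- a relation -/
def relAt (k : ℕ) : Rel := T.rels.getD k ⟨[], [], []⟩

/-- a relation can be used at a vertex -/
def relOK (k c : ℕ) : Bool :=
  decide (k < T.rels.length) && decide (c < T.size) && ((T.relAt k).rhs.isEmpty || c == 0) &&
    (T.relAt k).word.all fun l => decide (l.1 < T.ngen)

/-- an edge is valid; `gexp`, `gexp'` are exponents of the generators, `rows` of the central elements -/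
def edgeOK (gexp gexp' : ℕ → Vec) (rows : List Vec) (g x : ℕ) : Bool :=
  decide (T.next g x < T.size) && decide (T.prev g x < T.size) && T.prev (T.next g x) x == g &&
    T.next (T.prev g x) x == g && ((T.lab g x).all fun l => decide (l.1 < T.innerGen)) &&
    veq (vadd (T.pot g) (gexp x))
      (vadd (vadd (wexp gexp' (T.lab g x)) (T.pot (T.next g x))) (comb rows (T.val g x))) &&
    bif T.rank g x == 0 then
      T.tree (T.next g x) == (g, x) && !(T.next g x == 0) && decide (g < T.next g x) && (T.lab g x).isEmpty &&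
        vzero (T.val g x)
    else
      decide (T.rank g x ≤ T.nded) &&
        (let c := T.cert (T.rank g x - 1)
         let w := (T.relAt c.1).word
         let l := w.getD c.2.2 (0, false)
         l.1 == x && T.edgeV (T.trace (w.take c.2.2) c.2.1).1 l == g)

/-- a deduction is valid -/
def dedOK (i : ℕ) : Bool :=
  let c := T.cert i
  let r := T.relAt c.1
  let pre := T.trace (r.word.take c.2.2) c.2.1
  let l := r.word.getD c.2.2 (0, false)
  let g' := T.stepV pre.1 l
  let suf := T.trace (r.word.drop (c.2.2 + 1)) g'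
  let q := mrun f (pre.2.1 ++ (T.labV pre.1 l ++ (suf.2.1 ++ winv r.rhs))) 0
  T.relOK c.1 c.2.1 && decide (c.2.2 < r.word.length) && (r.rhs.all fun m => decide (m.1 < T.innerGen)) &&
    T.rank (T.edgeV pre.1 l) l.1 == i + 1 && T.known (i + 1) (r.word.take c.2.2) c.2.1 &&
    T.known (i + 1) (r.word.drop (c.2.2 + 1)) g' && suf.1 == c.2.1 && q.1 == 0 &&
    veq (vadd q.2 (vadd (vadd pre.2.2 (T.valV pre.1 l)) suf.2.2)) r.vec

/-- the equation of a relation at a vertex -/
def eqn (k c : ℕ) : Vec :=
  let r := T.relAt k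
  let t := T.trace r.word c
  vadd (vadd (mrun f (t.2.1 ++ winv r.rhs) 0).2 t.2.2) (vneg r.vec)

/-- a relation closes at a vertex -/
def eqOK (k c : ℕ) : Bool :=
  let r := T.relAt k
  let t := T.trace r.word c
  T.relOK k c && (r.rhs.all fun m => decide (m.1 < T.innerGen)) && t.1 == c && (mrun f (t.2.1 ++ winv r.rhs) 0).1 == 0

/-- the basic side conditions -/
def baseOK : Bool := decide (0 < T.size) && decide (0 < T.innerSize) && vzero (T.pot 0)

end Table

section Semantics

variable {Γ : Type*} [Group Γ] (E : Vec → Γ)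

/-- a machine computes normal forms in a group -/
def Sound (rows : List Vec) (b : ℕ → Γ) (m : ℕ) (gexp : ℕ → Vec) (N : ℕ) (f : Machine) : Prop :=
  ∃ (elt : ℕ → Γ) (pot : ℕ → ℕ → ℤ), 0 < N ∧ elt 0 = 1 ∧ (∀ j, pot 0 j = 0) ∧ ∀ i < N, ∀ l : ℕ × Bool, l.1 < m →
    (f i l).1 < N ∧ elt i * lett b l = elt (f i l).1 * E (f i l).2 ∧
      ∀ j, pot i j + cf (wexp gexp [l]) j = pot (f i l).1 j + cf (comb rows (f i l).2) j

/-- the axioms of a central evaluation -/
structure IsCentralEval : Prop where
  nil : E [] = 1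
  vadd : ∀ v w, E (vadd v w) = E v * E w
  vneg : ∀ v, E (vneg v) = (E v)⁻¹
  veq : ∀ v w, veq v w = true → E v = E w
  zero : ∀ v, vzero v = true → E v = 1
  comm : ∀ v (y : Γ), y * E v = E v * y

/-- the trivial machine -/
theorem sound_trivial (rows : List Vec) (b : ℕ → Γ) (gexp : ℕ → Vec) :
    Sound E rows b 0 gexp 1 fun _ _ => (0, []) :=
  ⟨fun _ => 1, fun _ _ => 0, Nat.one_pos, rfl, fun _ => rfl, fun _ _ _ hl => absurd hl (Nat.not_lt_zero _)⟩

variable {E}

/-- a word is followed by the machine -/
theorem Sound.run (hE : IsCentralEval E) {rows : List Vec} {b : ℕ → Γ} {m : ℕ} {gexp : ℕ → Vec} {N : ℕ} {f : Machine}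
    {elt : ℕ → Γ} {pot : ℕ → ℕ → ℤ}
    (h : ∀ i < N, ∀ l : ℕ × Bool, l.1 < m → (f i l).1 < N ∧ elt i * lett b l = elt (f i l).1 * E (f i l).2 ∧
      ∀ j, pot i j + cf (wexp gexp [l]) j = pot (f i l).1 j + cf (comb rows (f i l).2) j) :
    ∀ (w : Word) (i : ℕ), i < N → (∀ l ∈ w, l.1 < m) →
      (mrun f w i).1 < N ∧ elt i * wval b w = elt (mrun f w i).1 * E (mrun f w i).2 ∧
        ∀ j, pot i j + cf (wexp gexp w) j = pot (mrun f w i).1 j + cf (comb rows (mrun f w i).2) j
  | [], i, hi, _ => ⟨hi, by simp [mrun, wval, hE.nil], fun j => by cases rows <;> simp [mrun, wexp, comb, cf_nil]⟩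
  | l :: w, i, hi, hw => by
    obtain ⟨h1, h2, h3⟩ := h i hi l (hw l List.mem_cons_self)
    obtain ⟨k1, k2, k3⟩ := Sound.run hE h w _ h1 fun x hx => hw x (List.mem_cons_of_mem _ hx)
    refine ⟨by simp only [mrun, forceN_eq, forceV_eq]; exact k1, ?_, fun j => ?_⟩
    · simp only [mrun, forceN_eq, forceV_eq]
      rw [wval_cons, ← mul_assoc, h2, mul_assoc, ← hE.comm, ← mul_assoc, k2, hE.vadd, mul_assoc, hE.comm]
    · simp only [mrun, forceN_eq, forceV_eq]
      rw [cf_comb_vadd, show l :: w = [l] ++ w from rfl, cf_wexp_append]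
      have := h3 j
      have := k3 j
      omega

theorem flip_edge {u u' X L V : Γ} (hV : ∀ y : Γ, y * V = V * y) (h : u * X = L * u' * V) :
    u' * X⁻¹ = L⁻¹ * u * V⁻¹ := by
  have e : u = L * (u' * V) * X⁻¹ := eq_mul_inv_of_mul_eq (h.trans (mul_assoc _ _ _))
  rw [e]
  calc u' * X⁻¹ = u' * (X⁻¹ * V) * V⁻¹ := by group
    _ = u' * (V * X⁻¹) * V⁻¹ := by rw [hV]
    _ = L⁻¹ * (L * (u' * V) * X⁻¹) * V⁻¹ := by group

theorem solve_edge {P L S R Wp X Ws sc sg sg' Ep El Es Eq Ev : Γ}
    (hp : ∀ y : Γ, y * Ep = Ep * y) (hl : ∀ y : Γ, y * El = El * y) (hq : ∀ y : Γ, y * Eq = Eq * y)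
    (h1 : sc * Wp = P * sg * Ep) (h2 : sg' * Ws = S * sc * Es) (h3 : P * (L * (S * R⁻¹)) = Eq)
    (h4 : sc * (Wp * (X * Ws)) = R * sc * Ev) (h5 : Eq * (Ep * El * Es) = Ev) : sg * X = L * sg' * El := by
  have h3' : P * L * S = Eq * R := by
    rw [← h3]; group
  apply mul_left_cancel (a := P)
  apply mul_right_cancel (b := Ws)
  apply mul_right_cancel (b := Ep)
  calc P * (sg * X) * Ws * Ep = P * sg * (X * Ws * Ep) := by simp only [mul_assoc]
    _ = P * sg * Ep * (X * Ws) := by rw [hp (X * Ws)]; simp only [mul_assoc]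
    _ = sc * Wp * (X * Ws) := by rw [h1]
    _ = R * sc * Ev := by rw [← h4]; simp only [mul_assoc]
    _ = R * sc * Eq * (Ep * El * Es) := by rw [← h5]; simp only [mul_assoc]
    _ = Eq * R * sc * (Ep * El * Es) := by rw [hq (R * sc)]; simp only [mul_assoc]
    _ = P * L * (S * sc) * (Ep * El * Es) := by rw [← h3']; simp only [mul_assoc]
    _ = P * L * (S * sc) * (Es * (El * Ep)) := by
      have e : Ep * El * Es = Es * (El * Ep) := by
        rw [← mul_assoc Es El Ep, hl Es, mul_assoc El Es Ep, hp Es, ← mul_assoc, hl Ep]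
      rw [e]
    _ = P * L * (sg' * Ws) * (El * Ep) := by rw [h2]; simp only [mul_assoc]
    _ = P * (L * sg' * El) * Ws * Ep := by
      rw [show P * L * (sg' * Ws) * (El * Ep) = P * L * sg' * (Ws * El) * Ep by simp only [mul_assoc], hl Ws]
      simp only [mul_assoc]

namespace Table

variable {T : Table} {f : Machine}

theorem step_spec {gexp gexp' : ℕ → Vec} {rows : List Vec}
    (hedge : ∀ g < T.size, ∀ x < T.ngen, T.edgeOK gexp gexp' rows g x = true) {g : ℕ} (hg : g < T.size)
    {l : ℕ × Bool} (hl : l.1 < T.ngen) :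
    T.stepV g l < T.size ∧ T.edgeV g l < T.size ∧ T.next (T.prev g l.1) l.1 = g ∧
      ∀ m ∈ T.labV g l, m.1 < T.innerGen := by
  have h := hedge g hg l.1 hl
  simp only [edgeOK, Bool.and_eq_true, decide_eq_true_eq, beq_iff_eq, List.all_eq_true] at h
  obtain ⟨⟨⟨⟨⟨⟨h1, h2⟩, -⟩, h4⟩, h5⟩, -⟩, -⟩ := h
  have h5' := hedge (T.prev g l.1) h2 l.1 hl
  simp only [edgeOK, Bool.and_eq_true, decide_eq_true_eq, beq_iff_eq, List.all_eq_true] at h5'
  obtain ⟨⟨⟨-, k5⟩, -⟩, -⟩ := h5'
  obtain ⟨x, s⟩ := l
  cases s
  · refine ⟨h2, h2, h4, fun m hm => ?_⟩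
    simp only [labV, cond_false, winv, List.mem_map, List.mem_reverse] at hm
    obtain ⟨m', hm', rfl⟩ := hm
    exact k5 m' hm'
  · exact ⟨h1, hg, h4, h5⟩

/-- the machine of a valid table is sound -/
theorem sound (hE : IsCentralEval E) {rows : List Vec} {b b' : ℕ → Γ} {gexp gexp' : ℕ → Vec}
    (hf : Sound E rows b' T.innerGen gexp' T.innerSize f) (hbase : T.baseOK = true)
    (hrel : ∀ r ∈ T.rels, wval b r.word = wval b' r.rhs * E r.vec)
    (hedge : ∀ g < T.size, ∀ x < T.ngen, T.edgeOK gexp gexp' rows g x = true)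
    (hded : ∀ i < T.nded, T.dedOK f i = true) :
    Sound E rows b T.ngen gexp (T.size * T.innerSize) (T.machine f) ∧
      ∀ k c, T.eqOK f k c = true → E (T.eqn f k c) = 1 := by
  obtain ⟨elt, pot, hN, he0, hp0, hstep⟩ := hf
  simp only [baseOK, Bool.and_eq_true, decide_eq_true_eq] at hbase
  obtain ⟨⟨hsize, -⟩, hpot0⟩ := hbase
  have hrun := Sound.run hE hstep
  have hclosed : ∀ w : Word, (∀ l ∈ w, l.1 < T.innerGen) → (mrun f w 0).1 = 0 →
      wval b' w = E (mrun f w 0).2 := fun w hw h0 => by
    have := (hrun w 0 hN hw).2.1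
    rwa [h0, he0, one_mul, one_mul] at this
  have hstep' := fun {g : ℕ} (hg : g < T.size) {l : ℕ × Bool} (hl : l.1 < T.ngen) => step_spec hedge hg hl
  let s : ℕ → Γ := fun n => Nat.strongRecOn (motive := fun _ => Γ) n fun n ih =>
    if h : n ≠ 0 ∧ (T.tree n).1 < n then ih _ h.2 * b (T.tree n).2 else 1
  have hs0 : s 0 = 1 := by
    show Nat.strongRecOn (motive := fun _ => Γ) 0 _ = _
    rw [Nat.strongRecOn_eq, dif_neg (fun h => h.1 rfl)]
  let Edge : ℕ → ℕ → Prop := fun g x => s g * b x = wval b' (T.lab g x) * s (T.next g x) * E (T.val g x)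
  have hletter : ∀ (g : ℕ) (l : ℕ × Bool), g < T.size → l.1 < T.ngen → Edge (T.edgeV g l) l.1 →
      s g * lett b l = wval b' (T.labV g l) * s (T.stepV g l) * E (T.valV g l) := by
    intro g l hg hl he
    obtain ⟨-, -, hs3, -⟩ := hstep' hg hl
    obtain ⟨x, t⟩ := l
    cases t
    · simp only [Edge, edgeV, cond_false] at he
      rw [hs3] at he
      simp only [lett, cond_false, labV, valV, stepV, wval_winv, hE.vneg]
      exact flip_edge (hE.comm _) he
    · exact he
  have hpath : ∀ r, (∀ g < T.size, ∀ x < T.ngen, T.rank g x < r → Edge g x) → ∀ (w : Word) (g : ℕ), g < T.size →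
      (∀ l ∈ w, l.1 < T.ngen) → T.known r w g = true →
      (T.trace w g).1 < T.size ∧ (∀ m ∈ (T.trace w g).2.1, m.1 < T.innerGen) ∧
      s g * wval b w = wval b' (T.trace w g).2.1 * s (T.trace w g).1 * E (T.trace w g).2.2 := by
    intro r H w
    induction w with
    | nil => intro g hg _ _; exact ⟨hg, by simp [trace], by simp [trace, wval, hE.nil]⟩
    | cons l w ih =>
      intro g hg hw hk
      simp only [known, Bool.and_eq_true, decide_eq_true_eq] at hk
      obtain ⟨hs1, hs2, -, hs4⟩ := hstep' hg (hw l List.mem_cons_self)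
      obtain ⟨i1, i2, i3⟩ := ih _ hs1 (fun x hx => hw x (List.mem_cons_of_mem _ hx)) hk.2
      have hl := hletter g l hg (hw l List.mem_cons_self) (H _ hs2 _ (hw l List.mem_cons_self) hk.1)
      refine ⟨by simp only [trace, forceN_eq, forceV_eq]; exact i1, fun m hm => ?_, ?_⟩
      · simp only [trace, forceN_eq, forceV_eq, List.mem_append] at hm
        exact hm.elim (hs4 m) (i2 m)
      · simp only [trace, forceN_eq, forceV_eq, wval_append, hE.vadd]
        rw [wval_cons, ← mul_assoc, hl, mul_assoc _ (E (T.valV g l)), ← hE.comm, ← mul_assoc,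
          mul_assoc (wval b' (T.labV g l)) (s _), i3, ← hE.comm (T.valV g l)]
        simp only [mul_assoc]
  have hat : ∀ k c, T.relOK k c = true → (∀ l ∈ (T.relAt k).word, l.1 < T.ngen) ∧ c < T.size ∧
      s c * wval b (T.relAt k).word = wval b' (T.relAt k).rhs * s c * E (T.relAt k).vec := by
    intro k c h
    simp only [relOK, Bool.and_eq_true, decide_eq_true_eq, Bool.or_eq_true, List.isEmpty_iff, beq_iff_eq,
      List.all_eq_true] at h
    obtain ⟨⟨⟨hk, hc⟩, hb⟩, hw⟩ := h
    have hm : T.relAt k ∈ T.rels := by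
      rw [relAt, List.getD_eq_getElem _ _ hk]; exact List.getElem_mem _
    refine ⟨hw, hc, ?_⟩
    rw [hrel _ hm]
    rcases hb with hb | rfl
    · rw [hb, wval_nil, one_mul, one_mul]
    · rw [hs0, one_mul, mul_one]
  have hedge' : ∀ r, ∀ g < T.size, ∀ x < T.ngen, T.rank g x = r → Edge g x := by
    intro r
    induction r using Nat.strong_induction_on with
    | _ r ih =>
      intro g hg x hx hr
      have H : ∀ g < T.size, ∀ x < T.ngen, T.rank g x < r → Edge g x := fun g hg x hx h => ih _ h g hg x hx rfl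
      have h := hedge g hg x hx
      simp only [edgeOK, Bool.and_eq_true] at h
      have h2 := h.2
      by_cases h0 : T.rank g x = 0
      · rw [h0, beq_self_eq_true] at h2
        simp only [cond_true, Bool.and_eq_true, beq_iff_eq, Bool.not_eq_true', beq_eq_false_iff_ne,
          decide_eq_true_eq, List.isEmpty_iff] at h2
        obtain ⟨⟨⟨⟨ht, hne⟩, hlt⟩, hlab⟩, hv⟩ := h2
        show s g * b x = wval b' (T.lab g x) * s (T.next g x) * E (T.val g x)
        rw [hlab, hE.zero _ hv, wval_nil, one_mul, mul_one]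
        show _ = Nat.strongRecOn (motive := fun _ => Γ) (T.next g x) _
        rw [Nat.strongRecOn_eq, dif_pos ⟨hne, by rw [ht]; exact hlt⟩]
        show _ = s (T.tree (T.next g x)).1 * b (T.tree (T.next g x)).2
        rw [ht]
      · rw [beq_false_of_ne h0] at h2
        simp only [cond_false, Bool.and_eq_true, decide_eq_true_eq, beq_iff_eq] at h2
        obtain ⟨hle, hlx, hlg⟩ := h2
        have hd := hded (T.rank g x - 1) (by omega)
        simp only [dedOK, Bool.and_eq_true, decide_eq_true_eq, beq_iff_eq, List.all_eq_true] at hd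
        obtain ⟨⟨⟨⟨⟨⟨⟨⟨hok, hp⟩, hrhs⟩, hrk⟩, hk1⟩, hk2⟩, hend⟩, hq0⟩, hv⟩ := hd
        rw [show T.rank g x - 1 + 1 = r by omega] at hrk hk1 hk2
        obtain ⟨hw, hc, hrel'⟩ := hat _ _ hok
        generalize (T.cert (T.rank g x - 1)).1 = k at *
        generalize (T.cert (T.rank g x - 1)).2.1 = c at *
        generalize (T.cert (T.rank g x - 1)).2.2 = p at *
        generalize T.relAt k = R at *
        have hsplit : wval b R.word =
            wval b (R.word.take p) * (lett b (R.word.getD p (0, false)) * wval b (R.word.drop (p + 1))) := by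
          conv_lhs => rw [← List.take_append_drop p R.word, List.drop_eq_getElem_cons hp, wval_append, wval_cons]
          rw [List.getD_eq_getElem _ _ hp]
        have hlm : R.word.getD p (0, false) ∈ R.word := by
          rw [List.getD_eq_getElem _ _ hp]; exact List.getElem_mem _
        obtain ⟨hgg, hLp, h1⟩ := hpath r H _ _ hc (fun l hl => hw l (List.mem_of_mem_take hl)) hk1
        generalize R.word.getD p (0, false) = l at *
        generalize T.trace (R.word.take p) c = pre at *
        obtain ⟨hg', -, hnext, hLl⟩ := hstep' hgg (hw l hlm)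
        obtain ⟨-, hLs, h2⟩ := hpath r H _ _ hg' (fun l hl => hw l (List.mem_of_mem_drop hl)) hk2
        rw [hend] at h2
        have h3 := hclosed _ (fun m hm => by
          simp only [List.mem_append, winv, List.mem_map, List.mem_reverse] at hm
          rcases hm with h' | h' | h' | ⟨m', h', rfl⟩
          exacts [hLp m h', hLl m h', hLs m h', hrhs m' h']) hq0
        rw [wval_append, wval_append, wval_append, wval_winv] at h3
        have key : s pre.1 * lett b l = wval b' (T.labV pre.1 l) * s (T.stepV pre.1 l) * E (T.valV pre.1 l) :=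
          solve_edge (hE.comm _) (hE.comm _) (hE.comm _) h1 h2 h3 (by rw [← hsplit]; exact hrel')
            (by rw [← hE.vadd, ← hE.vadd, ← hE.vadd]; exact hE.veq _ _ hv)
        obtain ⟨lx, t⟩ := l
        obtain rfl : lx = x := hlx
        cases t
        · simp only [edgeV, cond_false] at hlg
          simp only [lett, cond_false, labV, valV, stepV, wval_winv, hE.vneg, hlg] at key
          rw [hlg] at hnext
          show s g * b lx = wval b' (T.lab g lx) * s (T.next g lx) * E (T.val g lx)
          rw [hnext]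
          have := flip_edge (V := (E (T.val g lx))⁻¹) (fun y => by rw [← hE.vneg]; exact hE.comm _ y) key
          simpa only [inv_inv] using this
        · simp only [edgeV, cond_true] at hlg
          subst hlg
          exact key
  have hall : ∀ g < T.size, ∀ x < T.ngen, Edge g x := fun g hg x hx => hedge' _ g hg x hx rfl
  refine ⟨⟨fun idx => elt (idx % T.innerSize) * s (idx / T.innerSize),
    fun idx j => pot (idx % T.innerSize) j + cf (T.pot (idx / T.innerSize)) j, Nat.mul_pos hsize hN,
    by simp [he0, hs0], fun j => by simp [hp0, cf_of_vzero hpot0], ?_⟩, ?_⟩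
  · intro idx hidx l hl
    have hg : idx / T.innerSize < T.size := (Nat.div_lt_iff_lt_mul hN).mpr hidx
    have hi : idx % T.innerSize < T.innerSize := Nat.mod_lt _ hN
    simp only [machine, forceN_eq, forceV_eq]
    generalize idx / T.innerSize = g at *
    generalize idx % T.innerSize = i at *
    obtain ⟨hs1, hs2, hs3, hs4⟩ := hstep' hg hl
    obtain ⟨r1, r2, r3⟩ := hrun _ i hi hs4
    refine ⟨?_, ?_, fun j => ?_⟩
    · calc T.stepV g l * T.innerSize + (mrun f (T.labV g l) i).1 < (T.stepV g l + 1) * T.innerSize := by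
            rw [add_mul, one_mul]; omega
        _ ≤ T.size * T.innerSize := Nat.mul_le_mul_right _ hs1
    · rw [Nat.mul_add_mod_self_right, Nat.mod_eq_of_lt r1, Nat.mul_add_div hN |> fun _ => (by
          rw [Nat.mul_comm, Nat.mul_add_div hN, Nat.div_eq_of_lt r1, Nat.add_zero] :
          (T.stepV g l * T.innerSize + (mrun f (T.labV g l) i).1) / T.innerSize = T.stepV g l),
        mul_assoc, hletter g l hg hl (hall _ hs2 _ hl), ← mul_assoc, ← mul_assoc, r2, hE.vadd,
        mul_assoc (elt _) (E _), ← hE.comm]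
      simp only [mul_assoc]
    · rw [Nat.mul_add_mod_self_right, Nat.mod_eq_of_lt r1, Nat.mul_comm (T.stepV g l), Nat.mul_add_div hN,
        Nat.div_eq_of_lt r1, Nat.add_zero, cf_comb_vadd]
      have h3 := r3 j
      have he := hedge (T.edgeV g l) hs2 l.1 hl
      simp only [edgeOK, Bool.and_eq_true] at he
      have hp := cf_eq_of_veq he.1.2 j
      obtain ⟨x, t⟩ := l
      cases t
      · simp only [edgeV, cond_false] at hp
        simp only [] at hs3
        rw [hs3] at hp
        simp only [wexp, cond_false, cf_vadd, cf_vneg, cf_nil, labV, valV, stepV, cf_wexp_winv, cf_comb_vneg] at hp h3 ⊢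
        omega
      · simp only [edgeV, cond_true] at hp
        simp only [wexp, cond_true, cf_vadd, cf_nil, labV, valV, stepV] at hp h3 ⊢
        omega
  · intro k c h
    simp only [eqOK, Bool.and_eq_true, beq_iff_eq, List.all_eq_true, decide_eq_true_eq] at h
    obtain ⟨⟨⟨hok, hrhs⟩, hend⟩, hq⟩ := h
    obtain ⟨hw, hc, hrel'⟩ := hat _ _ hok
    have hknown : ∀ (w : Word) (g : ℕ), g < T.size → (∀ l ∈ w, l.1 < T.ngen) → T.known (T.nded + 1) w g = true := by
      intro w
      induction w with
      | nil => intros; rfl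
      | cons l w ih =>
        intro g hg hw'
        simp only [known, Bool.and_eq_true, decide_eq_true_eq]
        obtain ⟨hs1, hs2, -, -⟩ := hstep' hg (hw' l List.mem_cons_self)
        have h2 := hedge _ hs2 l.1 (hw' l List.mem_cons_self)
        simp only [edgeOK, Bool.and_eq_true] at h2
        refine ⟨?_, ih _ hs1 fun m hm => hw' m (List.mem_cons_of_mem _ hm)⟩
        by_cases h0 : T.rank (T.edgeV g l) l.1 = 0
        · omega
        · have h3 := h2.2
          rw [beq_false_of_ne h0] at h3
          simp only [cond_false, Bool.and_eq_true, decide_eq_true_eq] at h3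
          omega
    obtain ⟨-, hL, hpth⟩ := hpath _ (fun g hg x hx _ => hall g hg x hx) _ _ hc hw (hknown _ _ hc hw)
    rw [hend, hrel'] at hpth
    have hcl := hclosed _ (fun m hm => by
      simp only [List.mem_append, winv, List.mem_map, List.mem_reverse] at hm
      rcases hm with h' | ⟨m', h', rfl⟩
      exacts [hL m h', hrhs m' h']) hq
    rw [wval_append, wval_winv, mul_inv_eq_iff_eq_mul] at hcl
    rw [hcl, ← hE.comm (mrun f _ 0).2, mul_assoc (wval b' _) (E _), ← hE.comm _ (s c), ← mul_assoc, mul_assoc _ (E _) (E _),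
      ← hE.vadd, mul_right_inj] at hpth
    simp only [eqn]
    rw [hE.vadd, hE.vneg, ← hpth, mul_inv_cancel]

end Table

end Semantics

end CfsgLib.Schur.Cert
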