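import Mathlib
import Cfsg.Agent.Lib.Schur.CosetCertificate

/-!
# Bounds on central extensions from coset tables
-/

set_option autoImplicit false

namespace CfsgLib.Schur.Cert

open scoped commutatorElement

theorem dot_vadd_left : ∀ (c c' v : Vec), dot (vadd c c') v = dot c v + dot c' v
  | c, c', [] => by simp [dot]
  | c, c', a :: v => by
    have h : ∀ u : Vec, u.headD 0 = cf u 0 := fun u => by cases u <;> rfl
    have ht : (vadd c c').tail = vadd c.tail c'.tail := by
      cases c with
      | nil => cases c' <;> rfl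
      | cons x c =>
        cases c' with
        | nil => cases c <;> rfl
        | cons y c' => rfl
    simp only [dot, ht, h, cf_vadd, dot_vadd_left _ _ v]
    ring

theorem dot_congr : ∀ {c c' : Vec} (v : Vec), (∀ i, cf c i = cf c' i) → dot c v = dot c' v
  | _, _, [], _ => rfl
  | c, c', a :: v, h => by
    have h0 : c.headD 0 = c'.headD 0 := by
      have := h 0
      cases c <;> cases c' <;> simp [cf] at this ⊢ <;> exact this
    have h1 : ∀ i, cf c.tail i = cf c'.tail i := fun i => by
      have := h (i + 1)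
      cases c <;> cases c' <;> simp [cf] at this ⊢ <;> exact this
    simp only [dot, h0, dot_congr v h1]

theorem dot_vsmul (n : ℤ) : ∀ (c v : Vec), dot (vsmul n c) v = n * dot c v
  | c, [] => by simp [dot]
  | c, a :: v => by
    have ht : (vsmul n c).tail = vsmul n c.tail := by cases c <;> rfl
    have h0 : (vsmul n c).headD 0 = n * c.headD 0 := by cases c <;> simp [vsmul]
    simp only [dot, ht, h0, dot_vsmul n _ v]
    ring

theorem dot_nil : ∀ v : Vec, dot [] v = 0
  | [] => rfl
  | a :: v => by simp [dot, dot_nil v]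

theorem dot_comb : ∀ (cols : List Vec) (cs v : Vec), (∀ c ∈ cols, dot c v = 0) → dot (comb cols cs) v = 0
  | [], cs, v, _ => by simp [comb, dot_nil]
  | c :: cols, [], v, _ => by simp [comb, dot_nil]
  | c :: cols, a :: cs, v, h => by
    rw [comb, dot_vadd_left, dot_vsmul, h c List.mem_cons_self,
      dot_comb cols cs v fun x hx => h x (List.mem_cons_of_mem _ hx)]
    ring

/-- a column of a list of rows -/
def column (rows : List Vec) (j : ℕ) : Vec := rows.map fun r => cf r j

theorem dot_column (j : ℕ) : ∀ (rows : List Vec) (v : Vec), dot (column rows j) v = cf (comb rows v) j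
  | [], v => by simp [column, dot_nil, comb, cf_nil]
  | r :: rows, [] => by simp [dot, comb, cf_nil]
  | r :: rows, a :: v => by
    have ih := dot_column j rows v
    simp only [column] at ih
    simp only [column, List.map_cons, dot, List.headD_cons, List.tail_cons, comb, cf_vadd, cf_vsmul, ih]
    ring

theorem ev_comb_one {M : Type*} [CommGroup M] (R : ℕ → M) : ∀ (L : List Vec) (cs : Vec),
    (∀ e ∈ L, ev R e = 1) → ev R (comb L cs) = 1
  | [], cs, _ => by simp [comb, ev]
  | e :: L, [], _ => by simp [comb, ev]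
  | e :: L, a :: cs, h => by
    rw [comb, ev_vadd, ev_vsmul, h e List.mem_cons_self, one_zpow, one_mul,
      ev_comb_one R L cs fun x hx => h x (List.mem_cons_of_mem _ hx)]

theorem ev_comb_prod {M : Type*} [CommGroup M] (R : ℕ → M) : ∀ (Q : List Vec) (cs : Vec),
    ev R (comb Q cs) = ∏ t ∈ Finset.range Q.length, ev R (Q.getD t []) ^ cf cs t
  | [], cs => by simp [comb, ev]
  | q :: Q, [] => by simp [comb, ev, cf_nil]
  | q :: Q, a :: cs => by
    rw [comb, ev_vadd, ev_vsmul, ev_comb_prod R Q cs, List.length_cons, Finset.prod_range_succ']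
    rw [mul_comm]
    rfl

/-- linear algebra showing that the kernel part of the commutator subgroup has at most `n` elements -/
structure LinCert where
  /-- a basis -/
  basis : List Vec
  /-- its dual -/
  dual : List Vec
  /-- per basis vector: a flag for vanishing coordinate, a denominator, coefficients -/
  kind : List (Bool × ℤ × Vec)
  /-- the torsion index -/
  tor : ℕ
  /-- the bound -/
  bound : ℕ

/-- validity of the linear algebra -/
def LinCert.ok (C : LinCert) (rows : List Vec) (m : ℕ) (L : List Vec) : Bool :=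
  decide (0 < C.bound) && decide (C.dual.length = C.basis.length) && decide (C.tor < C.basis.length) &&
    (C.dual.all fun p => decide (p.length ≤ rows.length)) &&
    ((List.range rows.length).all fun i => veq (vunit i) (comb C.basis (C.dual.map fun p => cf p i))) &&
    (List.range C.basis.length).all fun t =>
      let k := C.kind.getD t (false, 0, [])
      bif t == C.tor then veq (vsmul C.bound (C.basis.getD t [])) (comb L k.2.2)
      else bif k.1 then
        !(k.2.1 == 0) && veq (vsmul k.2.1 (C.dual.getD t [])) (comb ((List.range m).map (column rows)) k.2.2)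
      else veq (C.basis.getD t []) (comb L k.2.2)

/-- the elements of exponent zero lie in a cyclic group of bounded order -/
theorem LinCert.exists_pow {M : Type*} [CommGroup M] {C : LinCert} {rows : List Vec} {m : ℕ} {L : List Vec}
    (hok : C.ok rows m L = true) (R : ℕ → M) (hR : ∀ i, rows.length ≤ i → R i = 1) (hL : ∀ e ∈ L, ev R e = 1)
    (v : Vec) (hv : ∀ j, cf (comb rows v) j = 0) :
    ∃ j < C.bound, ev R v = ev R (C.basis.getD C.tor []) ^ j := by
  simp only [LinCert.ok, Bool.and_eq_true, decide_eq_true_eq, List.all_eq_true, List.mem_range] at hok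
  obtain ⟨⟨⟨⟨⟨hn, hlen⟩, htor⟩, hdual⟩, hid⟩, hkind⟩ := hok
  let f : ℕ → M := fun t => ev R (C.basis.getD t [])
  have hRi : ∀ i, R i = ∏ t ∈ Finset.range C.basis.length, f t ^ cf (C.dual.getD t []) i := by
    intro i
    by_cases hi : i < rows.length
    · rw [← ev_vunit R i, ev_eq_of_veq (hid i hi), ev_comb_prod]
      refine Finset.prod_congr rfl fun t ht => ?_
      have htd : t < C.dual.length := by rw [hlen]; exact Finset.mem_range.mp ht
      simp only [cf, f]
      simp [List.getD_eq_getElem?_getD, List.getElem?_map, List.getElem?_eq_getElem htd]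
    · rw [hR i (not_lt.mp hi)]
      refine (Finset.prod_eq_one fun t ht => ?_).symm
      have htd : t < C.dual.length := by rw [hlen]; exact Finset.mem_range.mp ht
      have := hdual _ (List.getElem_mem htd)
      rw [List.getD_eq_getElem _ _ htd]
      unfold cf
      rw [List.getD_eq_default _ _ (by omega), zpow_zero]
  have hprod := ev_eq_prod (Finset.range C.basis.length) f v R (fun t => C.dual.getD t []) hRi
  have hone : ∀ t ∈ Finset.range C.basis.length, t ≠ C.tor → f t ^ dot (C.dual.getD t []) v = 1 := by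
    intro t ht hne
    have h := hkind t (Finset.mem_range.mp ht)
    rw [beq_false_of_ne hne] at h
    simp only [cond_false] at h
    cases hk : (C.kind.getD t (false, 0, [])).1
    · rw [hk] at h
      simp only [cond_false] at h
      simp only [f, ev_eq_of_veq h, ev_comb_one R L _ hL, one_zpow]
    · rw [hk] at h
      simp only [cond_true, Bool.and_eq_true, Bool.not_eq_true', beq_eq_false_iff_ne] at h
      have h0 := dot_congr v (cf_eq_of_veq h.2)
      rw [dot_vsmul, dot_comb _ _ _ fun c hc => by
        obtain ⟨j, -, rfl⟩ := List.mem_map.mp hc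
        rw [dot_column, hv]] at h0
      rw [(mul_eq_zero.mp h0).resolve_left h.1, zpow_zero]
  have htr : f C.tor ^ (C.bound : ℤ) = 1 := by
    have h := hkind C.tor htor
    rw [beq_self_eq_true] at h
    simp only [cond_true] at h
    simp only [f, ← ev_vsmul, ev_eq_of_veq h, ev_comb_one R L _ hL]
  rw [Finset.prod_eq_single C.tor hone fun h => absurd (Finset.mem_range.mpr htor) h] at hprod
  set d := dot (C.dual.getD C.tor []) v
  refine ⟨(d % C.bound).toNat, ?_, ?_⟩
  · have := Int.emod_lt_of_pos d (show (0 : ℤ) < C.bound by exact_mod_cast hn)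
    omega
  · show ev R v = f C.tor ^ (d % C.bound).toNat
    rw [hprod, ← zpow_natCast, Int.toNat_of_nonneg (Int.emod_nonneg _ (by omega))]
    conv_lhs => rw [← Int.emod_add_mul_ediv d C.bound, zpow_add, zpow_mul, htr, one_zpow, mul_one]

/-- relations of a table are sub-words of the global relations, or define a generator -/
def relTop (rels : List Word) (h g : ℕ → Word) (r : Rel) : Bool :=
  match r.rhs with
  | [] => (List.range rels.length).any fun i => veq r.vec (vunit i) && wsub h r.word == rels.getD i []
  | [(j, true)] => wsub h r.word == g j && vzero r.vec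
  | _ => false

/-- exponent rows of the relations -/
def relRows (rels : List Word) : List Vec := rels.map (wexp vunit)

variable {Γ : Type*} [Group Γ] {G : Type*} [Group G]

/-- what a bound needs from the extension -/
structure Frame (σ : Γ →* G) (a : ℕ → G) (rels : List Word) where
  /-- the lifts -/
  b : ℕ → Γ
  /-- the evaluation -/
  E : Vec → Γ
  lift : ∀ j, σ (b j) = a j
  central : IsCentralEval E
  ker : ∀ v, σ (E v) = 1
  rel : ∀ i, i < rels.length → wval b (rels.getD i []) = E (vunit i)
  bound : ∀ (C : LinCert) (m : ℕ) (L : List Vec), C.ok (relRows rels) m L = true → (∀ e ∈ L, E e = 1) →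
    ∀ v, (∀ j, cf (comb (relRows rels) v) j = 0) → ∃ j < C.bound, E v = E (C.basis.getD C.tor []) ^ j

theorem exists_frame (σ : Γ →* G) (hs : Function.Surjective σ) (hc : σ.ker ≤ Subgroup.center Γ) (a : ℕ → G)
    (rels : List Word) (hrels : ∀ w ∈ rels, wval a w = 1) : Nonempty (Frame σ a rels) := by
  classical
  let _ : CommGroup (Subgroup.center Γ) :=
    { (inferInstance : Group (Subgroup.center Γ)) with
      mul_comm := fun u v => Subtype.ext (Subgroup.mem_center_iff.mp v.2 u) }
  let b : ℕ → Γ := fun j => Function.surjInv hs (a j)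
  have hb : ∀ j, σ (b j) = a j := fun j => Function.surjInv_eq hs _
  have hval : ∀ i, i < rels.length → σ (wval b (rels.getD i [])) = 1 := fun i hi => by
    rw [map_wval, show σ ∘ b = a from funext hb, List.getD_eq_getElem _ _ hi]
    exact hrels _ (List.getElem_mem hi)
  let R : ℕ → Subgroup.center Γ := fun i =>
    if h : i < rels.length then ⟨wval b (rels.getD i []), hc (MonoidHom.mem_ker.mpr (hval i h))⟩ else 1
  let E : Vec → Γ := fun v => ((ev R v : Subgroup.center Γ) : Γ)
  refine ⟨{ b := b, E := E, lift := hb, central := ?_, ker := ?_, rel := ?_, bound := ?_ }⟩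
  · exact
      { nil := rfl
        vadd := fun v w => by simp only [E, ev_vadd, Subgroup.coe_mul]
        vneg := fun v => by simp only [E, ev_vneg, Subgroup.coe_inv]
        veq := fun v w h => by simp only [E, ev_eq_of_veq h]
        zero := fun v h => by simp only [E, ev_of_vzero R h, Subgroup.coe_one]
        comm := fun v y => Subgroup.mem_center_iff.mp (ev R v).2 y }
  · intro v
    have key : ∀ (v : Vec) (R' : ℕ → Subgroup.center Γ), (∀ i, σ (R' i : Γ) = 1) → σ ((ev R' v : Subgroup.center Γ) : Γ) = 1 := by
      intro v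
      induction v with
      | nil => intros; exact map_one σ
      | cons x v ih =>
        intro R' h
        simp only [ev, Subgroup.coe_mul, Subgroup.coe_zpow, map_mul, map_zpow, h, one_zpow, one_mul]
        exact ih _ fun i => h _
    refine key v R fun i => ?_
    simp only [R]
    split_ifs with h
    · exact hval i h
    · exact map_one σ
  · intro i hi
    simp only [E, ev_vunit, R, dif_pos hi]
  · intro C m L hok hL v hv
    obtain ⟨j, hj, e⟩ := LinCert.exists_pow hok R (fun i hi => by
        simp only [R]; rw [dif_neg]; simpa [relRows] using hi)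
      (fun e he => Subtype.ext (hL e he)) v hv
    exact ⟨j, hj, by simp only [E, e, Subgroup.coe_pow]⟩

theorem relTop_spec {σ : Γ →* G} {a : ℕ → G} {rels : List Word} (F : Frame σ a rels) {h g : ℕ → Word} {r : Rel}
    (hr : relTop rels h g r = true) :
    wval (fun j => wval F.b (h j)) r.word = wval (fun j => wval F.b (g j)) r.rhs * F.E r.vec := by
  obtain ⟨w, rhs, v⟩ := r
  simp only [relTop] at hr
  rw [← wval_wsub]
  match rhs, hr with
  | [], hr =>
    simp only [List.any_eq_true, List.mem_range, Bool.and_eq_true, beq_iff_eq] at hr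
    obtain ⟨i, hi, hv, hw⟩ := hr
    rw [hw, F.rel i hi, wval_nil, one_mul, F.central.veq _ _ hv]
  | [(j, true)], hr =>
    simp only [Bool.and_eq_true, beq_iff_eq] at hr
    rw [hr.1, F.central.zero _ hr.2, mul_one]
    simp [wval, lett]

/-- the commutator part of a central kernel is small -/
theorem card_ker_inf_le [Finite Γ] {σ : Γ →* G} (hs : Function.Surjective σ) (hc : σ.ker ≤ Subgroup.center Γ)
    {a : ℕ → G} {rels : List Word} (F : Frame σ a rels) {m : ℕ}
    (hgen : Subgroup.closure (a '' Set.Iio m) = ⊤) {N : ℕ} (hcard : Nat.card G = N) {f : Machine}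
    (hsound : Sound F.E (relRows rels) F.b m vunit N f) (C : LinCert) (L : List Vec)
    (hok : C.ok (relRows rels) m L = true) (hL : ∀ e ∈ L, F.E e = 1) :
    Nat.card (σ.ker ⊓ commutator Γ : Subgroup Γ) ≤ C.bound := by
  classical
  obtain ⟨elt, pot, hN, he0, hp0, hstep⟩ := hsound
  have hrun := Sound.run F.central hstep
  have hσw : ∀ w, σ (wval F.b w) = wval a w := fun w => by rw [map_wval, show σ ∘ F.b = a from funext F.lift]
  have hpres : ∀ x : G, ∃ w : Word, (∀ l ∈ w, l.1 < m) ∧ wval a w = x := by
    intro x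
    have hm : x ∈ Subgroup.closure (a '' Set.Iio m) := hgen ▸ Subgroup.mem_top x
    induction hm using Subgroup.closure_induction with
    | mem y hy =>
      obtain ⟨j, hj, rfl⟩ := hy
      exact ⟨[(j, true)], by simpa using hj, by simp [wval, lett]⟩
    | one => exact ⟨[], by simp, rfl⟩
    | mul y z _ _ ihy ihz =>
      obtain ⟨w, hw, rfl⟩ := ihy; obtain ⟨w', hw', rfl⟩ := ihz
      exact ⟨w ++ w', fun l hl => (List.mem_append.mp hl).elim (hw l) (hw' l), wval_append _ _ _⟩
    | inv y _ ih =>
      obtain ⟨w, hw, rfl⟩ := ih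
      refine ⟨winv w, fun l hl => ?_, wval_winv _ _⟩
      simp only [winv, List.mem_map, List.mem_reverse] at hl
      obtain ⟨l', hl', rfl⟩ := hl
      exact hw l' hl'
  have hinj : Function.Injective fun i : Fin N => σ (elt i.1) := by
    have : Finite G := Finite.of_surjective σ hs
    refine ((Nat.bijective_iff_surjective_and_card _).2 ⟨fun x => ?_, by rw [Nat.card_fin, hcard]⟩).1
    obtain ⟨w, hw, rfl⟩ := hpres x
    obtain ⟨k1, k2, -⟩ := hrun w 0 hN hw
    refine ⟨⟨_, k1⟩, ?_⟩
    have := congrArg σ k2
    rw [he0, one_mul, map_mul, F.ker, mul_one, hσw] at this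
    exact this.symm
  let S : Subgroup Γ :=
    { carrier := {γ | ∃ w, (∀ l ∈ w, l.1 < m) ∧ (∀ j, cf (wexp vunit w) j = 0) ∧ wval F.b w = γ}
      one_mem' := ⟨[], by simp, fun _ => rfl, rfl⟩
      mul_mem' := by
        rintro _ _ ⟨w, hw, he, rfl⟩ ⟨w', hw', he', rfl⟩
        exact ⟨w ++ w', fun l hl => (List.mem_append.mp hl).elim (hw l) (hw' l),
          fun j => by rw [cf_wexp_append, he, he', add_zero], wval_append _ _ _⟩
      inv_mem' := by
        rintro _ ⟨w, hw, he, rfl⟩
        refine ⟨winv w, fun l hl => ?_, fun j => by rw [cf_wexp_winv, he, neg_zero], wval_winv _ _⟩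
        simp only [winv, List.mem_map, List.mem_reverse] at hl
        obtain ⟨l', hl', rfl⟩ := hl
        exact hw l' hl' }
  have hcom : commutator Γ ≤ S := by
    rw [commutator_def, Subgroup.commutator_le]
    intro g₁ _ g₂ _
    obtain ⟨w, hwv, hw⟩ := hpres (σ g₁)
    obtain ⟨w', hwv', hw'⟩ := hpres (σ g₂)
    obtain ⟨k, hk, rfl⟩ : ∃ k ∈ σ.ker, g₁ = wval F.b w * k :=
      ⟨(wval F.b w)⁻¹ * g₁, by simp [hσw, hw], by group⟩
    obtain ⟨k', hk', rfl⟩ : ∃ k ∈ σ.ker, g₂ = wval F.b w' * k :=
      ⟨(wval F.b w')⁻¹ * g₂, by simp [hσw, hw'], by group⟩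
    refine ⟨w ++ w' ++ winv w ++ winv w', ?_, fun j => by simp only [cf_wexp_append, cf_wexp_winv]; ring, ?_⟩
    · intro l hl
      simp only [List.mem_append, winv, List.mem_map, List.mem_reverse] at hl
      rcases hl with ((h | h) | ⟨l', h, rfl⟩) | ⟨l', h, rfl⟩
      exacts [hwv l h, hwv' l h, hwv l' h, hwv' l' h]
    have c1 := Subgroup.mem_center_iff.mp (hc hk)
    have c2 := Subgroup.mem_center_iff.mp (hc hk')
    simp only [wval_append, wval_winv, commutatorElement_def, mul_inv_rev]
    generalize wval F.b w = u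
    generalize wval F.b w' = u'
    calc u * u' * u⁻¹ * u'⁻¹ = u * u' * (k * k⁻¹) * u⁻¹ * (k' * k'⁻¹) * u'⁻¹ := by group
      _ = u * (u' * k) * k⁻¹ * (u⁻¹ * k') * k'⁻¹ * u'⁻¹ := by group
      _ = u * (k * u') * k⁻¹ * (k' * u⁻¹) * k'⁻¹ * u'⁻¹ := by rw [c1, c2]
      _ = u * k * u' * (k⁻¹ * k') * u⁻¹ * k'⁻¹ * u'⁻¹ := by group
      _ = u * k * u' * (k' * k⁻¹) * u⁻¹ * k'⁻¹ * u'⁻¹ := by rw [c2]
      _ = _ := by group
  have hset : ((σ.ker ⊓ commutator Γ : Subgroup Γ) : Set Γ) ⊆
      (fun j => F.E (C.basis.getD C.tor []) ^ j) '' Set.Iio C.bound := by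
    rintro z ⟨hz, hz'⟩
    obtain ⟨w, hw, he, rfl⟩ := hcom hz'
    obtain ⟨k1, k2, k3⟩ := hrun w 0 hN hw
    rw [he0, one_mul] at k2
    have h0 : (mrun f w 0).1 = 0 := by
      have h2 := congrArg σ k2
      rw [MonoidHom.mem_ker.mp hz, map_mul, F.ker, mul_one] at h2
      have := @hinj ⟨_, k1⟩ ⟨0, hN⟩ (by show σ (elt _) = σ (elt 0); rw [← h2, he0, map_one])
      exact congrArg Fin.val this
    rw [h0, he0, one_mul] at k2
    obtain ⟨j, hj, e⟩ := F.bound C m L hok hL _ fun j => by
      have := k3 j
      rw [h0, hp0, he, zero_add, zero_add] at this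
      exact this.symm
    exact ⟨j, hj, by rw [k2]; exact e.symm⟩
  rw [← SetLike.coe_sort_coe, Nat.card_coe_set_eq]
  refine (Set.ncard_le_ncard hset).trans ((Set.ncard_image_le (Set.finite_Iio _)).trans ?_)
  simp

/-- a bound for stem extensions -/
theorem card_ker_le [Finite Γ] {σ : Γ →* G} (hs : Function.Surjective σ) (hc : σ.ker ≤ Subgroup.center Γ)
    (hd : σ.ker ≤ commutator Γ) {a : ℕ → G} {rels : List Word} (F : Frame σ a rels) {m : ℕ}
    (hgen : Subgroup.closure (a '' Set.Iio m) = ⊤) {N : ℕ} (hcard : Nat.card G = N) {f : Machine}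
    (hsound : Sound F.E (relRows rels) F.b m vunit N f) (C : LinCert) (L : List Vec)
    (hok : C.ok (relRows rels) m L = true) (hL : ∀ e ∈ L, F.E e = 1) : Nat.card σ.ker ≤ C.bound := by
  have h := card_ker_inf_le hs hc F hgen hcard hsound C L hok hL
  rwa [inf_eq_left.2 hd] at h

end CfsgLib.Schur.Cert
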