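import Mathlib
import Cfsg.Agent.Lib.Sporadic.ChainCertificate

/-!
# Multiplier bounds from chains of coset tables for permutation groups of any degree
-/

set_option autoImplicit false

namespace CfsgLib.Schur.Cert

open CfsgLib.Sporadic

/-- read a packed permutation, ten bits a point -/
noncomputable def pgetN (p i : ℕ) : ℕ := Nat.land (Nat.shiftRight p (Nat.mul 10 i)) 1023

/-- the packed number holds the images -/
def RepN {n : ℕ} (σ : Equiv.Perm (Fin n)) (p : ℕ) : Prop := ∀ x : Fin n, pgetN p x = (σ x : ℕ)

/-- the image of a point under a word in packed permutations -/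
noncomputable def wordImgN (P Pi : List ℕ) (w : Word) (x : ℕ) : ℕ :=
  w.foldr (fun l y => pgetN (bif l.2 then P.getD l.1 0 else Pi.getD l.1 0) y) x

/-- a word from the root to a vertex -/
def treePath (T : Table) : ℕ → ℕ → Word
  | 0, _ => []
  | n + 1, v => bif v == 0 then [] else treePath T n (T.tree v).1 ++ [((T.tree v).2, true)]

/-- a search tree of numbers -/
inductive KeyTree where
  | leaf : KeyTree
  | node : KeyTree → ℕ → KeyTree → KeyTree

/-- membership -/
def KeyTree.Has : KeyTree → ℕ → Prop
  | .leaf, _ => False
  | .node l k r, x => l.Has x ∨ x = k ∨ r.Has x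

/-- insertion, failing at a key already met on the way -/
noncomputable def KeyTree.ins : KeyTree → ℕ → Option KeyTree
  | .leaf, x => some (.node .leaf x .leaf)
  | .node l k r, x => cond (Nat.beq x k) none
      (cond (Nat.blt x k) (match l.ins x with | none => none | some l' => some (.node l' k r))
        (match r.ins x with | none => none | some r' => some (.node l k r')))

/-- the keys increase from left to right -/
def KeyTree.Ordered : KeyTree → Prop
  | .leaf => True
  | .node l k r => l.Ordered ∧ r.Ordered ∧ (∀ x, l.Has x → x < k) ∧ ∀ x, r.Has x → k < x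

theorem KeyTree.ins_spec : ∀ {T T' : KeyTree} {x : ℕ}, T.Ordered → T.ins x = some T' →
    T'.Ordered ∧ ¬ T.Has x ∧ ∀ y, T'.Has y ↔ y = x ∨ T.Has y
  | .leaf, T', x, _, h => by
    simp only [KeyTree.ins, Option.some.injEq] at h
    subst h
    simp [KeyTree.Ordered, KeyTree.Has]
  | .node l k r, T', x, ho, h => by
    obtain ⟨hl, hr, h1, h2⟩ := ho
    rw [KeyTree.ins] at h
    cases hb : Nat.beq x k <;> rw [hb] at h
    swap
    · simp at h
    have hne : x ≠ k := fun e => by
      rw [e, Nat.beq_refl] at hb
      exact absurd hb (by simp)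
    rw [cond_false] at h
    cases hlt : Nat.blt x k <;> rw [hlt] at h
    · have hgt : k < x := by
        rcases Nat.lt_or_ge x k with h' | h'
        · rw [← Nat.blt_eq] at h'; rw [h'] at hlt; exact absurd hlt (by simp)
        · omega
      rw [cond_false] at h
      cases hi : r.ins x with
      | none => rw [hi] at h; simp at h
      | some r' =>
        rw [hi, Option.some.injEq] at h
        subst h
        obtain ⟨o', n', m'⟩ := KeyTree.ins_spec hr hi
        refine ⟨⟨hl, o', h1, fun y hy => ?_⟩, ?_, fun y => ?_⟩
        · rcases (m' y).1 hy with rfl | hy'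
          exacts [hgt, h2 y hy']
        · rintro (h' | h' | h')
          exacts [absurd (h1 x h') (by omega), hne h', n' h']
        · show _ ∨ _ ∨ r'.Has y ↔ _ ∨ _ ∨ _ ∨ r.Has y
          rw [m']; tauto
    · have hlt' : x < k := by rwa [Nat.blt_eq] at hlt
      rw [cond_true] at h
      cases hi : l.ins x with
      | none => rw [hi] at h; simp at h
      | some l' =>
        rw [hi, Option.some.injEq] at h
        subst h
        obtain ⟨o', n', m'⟩ := KeyTree.ins_spec hl hi
        refine ⟨⟨o', hr, fun y hy => ?_, h2⟩, ?_, fun y => ?_⟩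
        · rcases (m' y).1 hy with rfl | hy'
          exacts [hlt', h1 y hy']
        · rintro (h' | h' | h')
          exacts [n' h', hne h', absurd (h2 x h') (by omega)]
        · show l'.Has y ∨ _ ∨ _ ↔ _ ∨ l.Has y ∨ _ ∨ _
          rw [m']; tauto

/-- the numbers are distinct -/
noncomputable def distinctOK : List ℕ → KeyTree → Bool
  | [], _ => true
  | x :: l, T => match T.ins x with
    | none => false
    | some T' => distinctOK l T'

theorem distinctOK_spec : ∀ {l : List ℕ} {T : KeyTree}, T.Ordered → distinctOK l T = true →
    l.Nodup ∧ ∀ x ∈ l, ¬ T.Has x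
  | [], _, _, _ => ⟨List.nodup_nil, by simp⟩
  | x :: l, T, ho, h => by
    rw [distinctOK] at h
    cases hi : T.ins x with
    | none => rw [hi] at h; simp at h
    | some T' =>
      rw [hi] at h
      obtain ⟨o', n', m'⟩ := KeyTree.ins_spec ho hi
      obtain ⟨hn, hh⟩ := distinctOK_spec o' h
      refine ⟨List.nodup_cons.2 ⟨fun hx => hh x hx ((m' x).2 (Or.inl rfl)), hn⟩, fun y hy => ?_⟩
      rcases List.mem_cons.1 hy with rfl | hy
      exacts [n', fun h' => hh y hy ((m' y).2 (Or.inr h'))]

/-- the images of the separating points under the representative of a coset -/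
noncomputable def cosetImageN (l : ChainLevel) (v : ℕ) : List ℕ :=
  let w := winv (treePath l.table l.table.size v)
  l.pts.map fun p => wordImgN l.perm l.pinv w p

/-- the images as one number -/
noncomputable def cosetKey (l : ChainLevel) (v : ℕ) : ℕ :=
  (cosetImageN l v).foldl (fun a x => Nat.add (Nat.mul a 1024) x) 0

/-- the permutations are valid -/
noncomputable def permsOKN (n : ℕ) : List ChainLevel → Bool
  | [] => true
  | l :: ls =>
    decide (l.perm.length = l.table.ngen) && decide (l.pinv.length = l.table.ngen) &&
      decide (l.defs.length = (chainPerm ls).length) &&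
      (l.pts.all fun p => decide (p < n)) &&
      ((List.range l.table.ngen).all fun j =>
        forallLt n fun x => Nat.beq (pgetN (l.pinv.getD j 0) (pgetN (l.perm.getD j 0) x)) x) &&
      ((List.range l.defs.length).all fun j => ((l.defs.getD j []).all fun m => decide (m.1 < l.table.ngen)) &&
        forallLt n fun x => Nat.beq (wordImgN l.perm l.pinv (l.defs.getD j []) x) (pgetN ((chainPerm ls).getD j 0) x)) &&
      (l.table.rels.all fun r => !r.rhs.isEmpty || ((r.word.all fun m => decide (m.1 < l.table.ngen)) &&
        forallLt n fun x => Nat.beq (wordImgN l.perm l.pinv r.word x) x)) &&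
      ((List.range l.table.size).all fun v => (treePath l.table l.table.size v).all fun m => decide (m.1 < l.table.ngen)) &&
      distinctOK ((List.range l.table.size).map (cosetKey l)) KeyTree.leaf &&
      ((chainPerm ls).all fun p => l.pts.all fun x => Nat.beq (pgetN p x) x) && permsOKN n ls

section Perms

variable {G : Type*} [Group G] [Finite G] {n : ℕ} (φ : G →* Equiv.Perm (Fin n))

theorem RepN.inv {σ : Equiv.Perm (Fin n)} {p q : ℕ} (h : RepN σ p)
    (hq : forallLt n (fun x => Nat.beq (pgetN q (pgetN p x)) x) = true) : RepN σ⁻¹ q := fun x => by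
  have := Nat.eq_of_beq_eq_true (forallLt_elim hq (σ⁻¹ x).isLt)
  rw [h] at this
  simpa using this

omit [Finite G] in
theorem wordImgN_spec {b : ℕ → G} {P Pi : List ℕ} {m : ℕ}
    (hb : ∀ j < m, RepN (φ (b j)) (P.getD j 0))
    (hbi : ∀ j < m, RepN (φ (b j))⁻¹ (Pi.getD j 0)) :
    ∀ (w : Word), (∀ l ∈ w, l.1 < m) → ∀ x : Fin n,
      wordImgN P Pi w x = (φ (wval b w) x : ℕ)
  | [], _, x => by simp [wordImgN, wval]
  | l :: w, hw, x => by
    have ih := wordImgN_spec hb hbi w (fun y hy => hw y (List.mem_cons_of_mem _ hy)) x
    show pgetN _ (wordImgN P Pi w (x : ℕ)) = _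
    rw [ih, wval_cons, map_mul, Equiv.Perm.mul_apply]
    have hl := hw l List.mem_cons_self
    obtain ⟨j, s⟩ := l
    cases s
    · simp only [cond_false, lett, map_inv]; exact hbi j hl _
    · simp only [cond_true, lett]; exact hb j hl _

theorem chain_permsN (hφ : Function.Injective φ) (a : ℕ → G) : ∀ (ls : List ChainLevel) (h : List Word),
    permsOKN n ls = true → (chainPerm ls).length = h.length →
    (∀ j < h.length, RepN (φ (wval a (h.getD j []))) ((chainPerm ls).getD j 0)) →
    (∀ w ∈ chainRels ls h, wval a w = 1) ∧
      chainSize ls ≤ Nat.card (Subgroup.closure ((fun j => wval a (h.getD j [])) '' Set.Iio h.length))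
  | [], h, _, _, _ => ⟨by simp [chainRels], by
      rw [chainSize]; exact Nat.one_le_iff_ne_zero.mpr Nat.card_pos.ne'⟩
  | l :: ls, h, hok, hlen, hrep => by
    classical
    simp only [permsOKN, Bool.and_eq_true, decide_eq_true_eq, List.all_eq_true, List.mem_range, Bool.or_eq_true,
      Bool.not_eq_true', Nat.beq_eq] at hok
    obtain ⟨⟨⟨⟨⟨⟨⟨⟨⟨⟨hpl, -⟩, hdl⟩, hpts⟩, hinv⟩, hdefs⟩, hrels⟩, hpath⟩, hnd0⟩, hfix⟩, hnext⟩ := hok
    have hnd : ((List.range l.table.size).map (cosetImageN l)).Nodup := by
      have h := (distinctOK_spec (T := KeyTree.leaf) trivial hnd0).1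
      rw [show cosetKey l = (fun L : List ℕ => L.foldl (fun a x => Nat.add (Nat.mul a 1024) x) 0) ∘ cosetImageN l
        from rfl, ← List.map_map] at h
      exact h.of_map _
    simp only [chainPerm] at hlen hrep
    rw [← hlen, hpl] at hrep
    let b : ℕ → G := fun j => wval a (h.getD j [])
    have hbi : ∀ j < l.table.ngen, RepN (φ (b j))⁻¹ (l.pinv.getD j 0) :=
      fun j hj => RepN.inv (hrep j hj) (hinv j hj)
    have hspec := wordImgN_spec φ (b := b) hrep hbi
    have hnl : (nextWords h l).length = (chainPerm ls).length := by rw [nextWords, List.length_map, hdl]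
    have hword : ∀ j < (nextWords h l).length,
        wval a ((nextWords h l).getD j []) = wval b (l.defs.getD j []) := fun j hj => by
      rw [nextWords, List.length_map] at hj
      rw [nextWords, List.getD_eq_getElem _ _ (by simpa using hj), List.getElem_map, wval_wsub,
        List.getD_eq_getElem _ _ hj]
    have hrep' : ∀ j < (nextWords h l).length,
        RepN (φ (wval a ((nextWords h l).getD j []))) ((chainPerm ls).getD j 0) := fun j hj x => by
      have hj' : j < l.defs.length := by rw [hdl, ← hnl]; exact hj
      have hd := hdefs j hj'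
      have := Nat.eq_of_beq_eq_true (forallLt_elim hd.2 x.isLt)
      rw [hspec _ (fun y hy => hd.1 y hy) x] at this
      rw [hword j hj]
      exact this.symm
    obtain ⟨ih1, ih2⟩ := chain_permsN hφ a ls (nextWords h l) hnext hnl.symm hrep'
    refine ⟨fun w hw => ?_, ?_⟩
    · simp only [chainRels, List.mem_append, List.mem_map, List.mem_filter, List.isEmpty_iff] at hw
      rcases hw with hw | ⟨r, ⟨hr, hre⟩, rfl⟩
      · exact ih1 w hw
      · rw [wval_wsub]
        rcases hrels r hr with hne | ⟨hv, hx⟩
        · rw [hre] at hne; simp at hne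
        refine hφ (Equiv.ext fun x => Fin.ext ?_)
        rw [← hspec r.word hv x, Nat.eq_of_beq_eq_true (forallLt_elim hx x.isLt), map_one]
        rfl
    · let K := Subgroup.closure ((fun j => wval a (h.getD j [])) '' Set.Iio h.length)
      let K' := Subgroup.closure ((fun j => wval a ((nextWords h l).getD j [])) '' Set.Iio (nextWords h l).length)
      have hmemW : ∀ w : Word, (∀ y ∈ w, y.1 < l.table.ngen) → wval b w ∈ K := by
        intro w
        induction w with
        | nil => intro _; exact one_mem _
        | cons y w ih =>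
          intro hw
          rw [wval_cons]
          refine mul_mem ?_ (ih fun z hz => hw z (List.mem_cons_of_mem _ hz))
          have hy : b y.1 ∈ K := Subgroup.subset_closure ⟨y.1, by
            show y.1 < h.length; rw [← hlen, hpl]; exact hw y List.mem_cons_self, rfl⟩
          obtain ⟨j, s⟩ := y
          cases s
          · exact inv_mem hy
          · exact hy
      have hK' : K' ≤ K := by
        rw [Subgroup.closure_le]
        rintro _ ⟨j, hj, rfl⟩
        show wval a _ ∈ K
        rw [hword j hj]
        exact hmemW _ fun y hy => (hdefs j (by rw [hdl, ← hnl]; exact hj)).1 y hy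
      have hKfix : ∀ k ∈ K', ∀ p ∈ l.pts, ∀ hpn : p < n, φ (k : G) ⟨p, hpn⟩ = ⟨p, hpn⟩ := by
        intro k hk p hp hpn
        induction hk using Subgroup.closure_induction with
        | mem y hy =>
          obtain ⟨j, hj, rfl⟩ := hy
          have hj' : j < (chainPerm ls).length := by rw [← hnl]; exact hj
          apply Fin.ext
          rw [← hrep' j hj, List.getD_eq_getElem _ _ hj']
          exact hfix _ (List.getElem_mem hj') p hp
        | one => simp
        | mul y z _ _ hy hz => rw [map_mul, Equiv.Perm.mul_apply, hz, hy]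
        | inv y _ hy => rw [map_inv, Equiv.Perm.inv_eq_iff_eq, hy]
      let W : ℕ → Word := fun v => winv (treePath l.table l.table.size v)
      have hW : ∀ v < l.table.size, ∀ y ∈ W v, y.1 < l.table.ngen := fun v hv y hy => by
        simp only [W, winv, List.mem_map, List.mem_reverse] at hy
        obtain ⟨y', hy', rfl⟩ := hy
        exact hpath v hv y' hy'
      let ψ : Fin l.table.size × K' → K := fun e =>
        ⟨wval b (W e.1.1) * (e.2 : G), mul_mem (hmemW _ (hW _ e.1.2)) (hK' e.2.2)⟩
      have hinj : Function.Injective ψ := by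
        rintro ⟨v, k⟩ ⟨v', k'⟩ e
        have e' : wval b (W v.1) * (k : G) = wval b (W v'.1) * (k' : G) := congrArg Subtype.val e
        have himg : cosetImageN l v.1 = cosetImageN l v'.1 := by
          simp only [cosetImageN]
          refine List.map_congr_left fun p hp => ?_
          have hpn := hpts p hp
          rw [show p = ((⟨p, hpn⟩ : Fin n) : ℕ) from rfl, hspec _ (hW _ v.2), hspec _ (hW _ v'.2)]
          have := congrArg (fun g : G => φ g ⟨p, hpn⟩) e'
          simp only [map_mul, Equiv.Perm.mul_apply, hKfix _ k.2 p hp hpn, hKfix _ k'.2 p hp hpn] at this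
          rw [this]
        have hv : v = v' := Fin.ext ((List.inj_on_of_nodup_map hnd (List.mem_range.mpr v.2) (List.mem_range.mpr v'.2)) himg)
        subst hv
        exact Prod.ext rfl (Subtype.ext (mul_left_cancel e'))
      have hle := Nat.card_le_card_of_injective ψ hinj
      rw [Nat.card_prod, Nat.card_fin] at hle
      rw [chainSize]
      exact (Nat.mul_le_mul_left _ ih2).trans hle

/-- a stem extension of a group with a valid chain has small kernel -/
theorem card_ker_le_of_chainN (hφ : Function.Injective φ) (ls : List ChainLevel) (C : LinCert) (rows : List Vec)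
    (m : ℕ) (hgenMem : ∀ j < m, ∃ g : G, RepN (φ g) ((chainPerm ls).getD j 0))
    (hlen : (chainPerm ls).length = m) (hgenlen : chainGen ls = m) (hperm : permsOKN n ls = true)
    (hrows : rows = relRows (chainRels ls ((List.range m).map fun j => [(j, true)])))
    (htab : tablesOK (chainRels ls ((List.range m).map fun j => [(j, true)])) rows ls
      ((List.range m).map fun j => [(j, true)]) = true)
    (hexp : chainExp ls = (List.range m).map fun j => wexp vunit [(j, true)])
    (hcard : Nat.card G = chainSize ls) (hlin : C.ok rows m (chainEqns ls) = true)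
    {Γ : Type*} [Group Γ] [Finite Γ] (σ : Γ →* G) (hσ : Cfsg.IsStemExtension σ) : Nat.card σ.ker ≤ C.bound := by
  classical
  set top : List Word := (List.range m).map fun j => [(j, true)] with htop
  let a : ℕ → G := fun j => if h : j < m then (hgenMem j h).choose else 1
  have htopget : ∀ j < m, top.getD j [] = [(j, true)] := fun j hj => by
    rw [htop, List.getD_eq_getElem _ _ (by simpa using hj)]; simp
  have hb : ∀ (j : ℕ), j < m → wval a (top.getD j []) = a j := fun j hj => by
    rw [htopget j hj]; simp [wval, lett]
  have htl : top.length = m := by simp [htop]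
  obtain ⟨hrels, hsize⟩ := chain_permsN φ hφ a ls top hperm (by rw [hlen, htl]) fun j hj => by
    rw [htl] at hj
    rw [hb j hj]
    simp only [a, dif_pos hj]
    exact (hgenMem j hj).choose_spec
  have hgen : Subgroup.closure (a '' Set.Iio m) = ⊤ := by
    refine Subgroup.eq_top_of_le_card _ ?_
    rw [hcard]
    have : (fun j => wval a (top.getD j [])) '' Set.Iio top.length = a '' Set.Iio m := by
      rw [htl]; exact Set.image_congr fun j hj => hb j hj
    rwa [this] at hsize
  subst hrows
  obtain ⟨F⟩ := exists_frame σ hσ.1 hσ.2.1 a _ hrels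
  obtain ⟨hS, hE⟩ := chain_sound F ls top htab
  refine card_ker_le hσ.1 hσ.2.1 hσ.2.2 F hgen hcard (f := chainMachine ls) ?_ C _ hlin hE
  rw [hgenlen] at hS
  obtain ⟨elt, pot, hN, he, hp, hstep⟩ := hS
  refine ⟨elt, pot, hN, he, hp, fun i hi l hl => ?_⟩
  obtain ⟨h1, h2, h3⟩ := hstep i hi l hl
  have hwl : wval F.b (top.getD l.1 []) = F.b l.1 := by rw [htopget _ hl]; simp [wval, lett]
  refine ⟨h1, by simpa only [lett, hwl] using h2, fun j => ?_⟩
  have := h3 j
  simp only [hexp] at this
  obtain ⟨x, s⟩ := l
  rw [show cf (wexp (fun j => ((List.range m).map fun j => wexp vunit [(j, true)]).getD j []) [(x, s)]) j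
    = cf (wexp vunit [(x, s)]) j by
      simp only [wexp]
      rw [List.getD_eq_getElem _ _ (by simpa using hl)]
      cases s <;> simp [cf_vadd, cf_vneg, cf_nil]] at this
  exact this

end Perms

end CfsgLib.Schur.Cert
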