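import Mathlib
import Cfsg.Agent.Lib.Schur.PermChain

/-!
# Bounds on stem extensions with a noncyclic kernel

The linear algebra of `LinCert`, with one denominator per basis vector instead of a single torsion index: the
bound is the product of the denominators of the vectors that need not vanish.
-/

set_option autoImplicit false

namespace CfsgLib.Schur.Cert

open CfsgLib.Sporadic
open scoped commutatorElement

/-- linear algebra bounding an abelian group with any number of torsion factors -/
structure LinCertM where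
  /-- a basis -/
  basis : List Vec
  /-- its dual -/
  dual : List Vec
  /-- per basis vector: a flag for vanishing coordinate, a denominator, coefficients -/
  kind : List (Bool × ℕ × Vec)

/-- the order allowed to a basis vector -/
def LinCertM.den (C : LinCertM) (t : ℕ) : ℕ :=
  bif (C.kind.getD t (false, 0, [])).1 then 1 else (C.kind.getD t (false, 0, [])).2.1

/-- the bound -/
def LinCertM.bound (C : LinCertM) : ℕ := ((List.range C.basis.length).map C.den).prod

/-- validity of the linear algebra -/
def LinCertM.ok (C : LinCertM) (rows : List Vec) (m : ℕ) (L : List Vec) : Bool :=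
  decide (C.dual.length = C.basis.length) && (C.dual.all fun p => decide (p.length ≤ rows.length)) &&
    ((List.range rows.length).all fun i => veq (vunit i) (comb C.basis (C.dual.map fun p => cf p i))) &&
    (List.range C.basis.length).all fun t =>
      let k := C.kind.getD t (false, 0, [])
      !(k.2.1 == 0) && bif k.1 then
        veq (vsmul k.2.1 (C.dual.getD t [])) (comb ((List.range m).map (column rows)) k.2.2)
      else veq (vsmul k.2.1 (C.basis.getD t [])) (comb L k.2.2)

/-- the elements of exponent zero lie among boundedly many -/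
theorem LinCertM.card_le {M : Type*} [CommGroup M] {C : LinCertM} {rows : List Vec} {m : ℕ} {L : List Vec}
    (hok : C.ok rows m L = true) (R : ℕ → M) (hR : ∀ i, rows.length ≤ i → R i = 1) (hL : ∀ e ∈ L, ev R e = 1) :
    {x : M | ∃ v, (∀ j, cf (comb rows v) j = 0) ∧ ev R v = x}.Finite ∧
      {x : M | ∃ v, (∀ j, cf (comb rows v) j = 0) ∧ ev R v = x}.ncard ≤ C.bound := by
  classical
  simp only [LinCertM.ok, Bool.and_eq_true, decide_eq_true_eq, List.all_eq_true, List.mem_range,
    Bool.not_eq_true', beq_eq_false_iff_ne] at hok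
  obtain ⟨⟨⟨hlen, hdual⟩, hid⟩, hkind⟩ := hok
  let f : ℕ → M := fun t => ev R (C.basis.getD t [])
  have hRi : ∀ i, R i = ∏ t ∈ Finset.range C.basis.length, f t ^ cf (C.dual.getD t []) i := by
    intro i
    by_cases hi : i < rows.length
    · rw [← ev_vunit R i, ev_eq_of_veq (hid i hi), ev_comb_prod]
      refine Finset.prod_congr rfl fun t ht => ?_
      have htd : t < C.dual.length := by rw [hlen]; exact Finset.mem_range.mp ht
      simp only [cf, f]
      simp [List.getD_eq_getElem?_getD, List.getElem?_map, List.getElem?_eq_getElem htd]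
    · rw [hR i (not_lt.mp hi)]
      refine (Finset.prod_eq_one fun t ht => ?_).symm
      have htd : t < C.dual.length := by rw [hlen]; exact Finset.mem_range.mp ht
      have := hdual _ (List.getElem_mem htd)
      rw [List.getD_eq_getElem _ _ htd]
      unfold cf
      rw [List.getD_eq_default _ _ (by omega), zpow_zero]
  have hden : ∀ t < C.basis.length, 0 < C.den t := fun t ht => by
    have h := (hkind t ht).1
    simp only [LinCertM.den]
    cases (C.kind.getD t (false, 0, [])).1
    · exact Nat.pos_of_ne_zero h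
    · exact Nat.one_pos
  have hsub : {x : M | ∃ v, (∀ j, cf (comb rows v) j = 0) ∧ ev R v = x} ⊆
      Set.range fun j : ∀ t : Fin C.basis.length, Fin (C.den t) => ∏ t : Fin C.basis.length, f t ^ (j t : ℕ) := by
    rintro _ ⟨v, hv, rfl⟩
    set d : ℕ → ℤ := fun t => dot (C.dual.getD t []) v with hd
    have hprod := ev_eq_prod (Finset.range C.basis.length) f v R (fun t => C.dual.getD t []) hRi
    have hred : ∀ t < C.basis.length, f t ^ d t = f t ^ (d t % C.den t).toNat := by
      intro t ht
      obtain ⟨hn, h⟩ := hkind t ht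
      cases hk : (C.kind.getD t (false, 0, [])).1
      · rw [hk] at h
        simp only [cond_false] at h
        have htr : f t ^ (C.den t : ℤ) = 1 := by
          simp only [LinCertM.den, hk, cond_false, f, ← ev_vsmul, ev_eq_of_veq h, ev_comb_one R L _ hL]
        have hp := hden t ht
        rw [← zpow_natCast (f t) (d t % C.den t).toNat, Int.toNat_of_nonneg (Int.emod_nonneg _ (by omega))]
        conv_lhs => rw [← Int.emod_add_mul_ediv (d t) (C.den t), zpow_add, zpow_mul, htr, one_zpow, mul_one]
      · rw [hk] at h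
        simp only [cond_true] at h
        have h0 := dot_congr v (cf_eq_of_veq h)
        rw [dot_vsmul, dot_comb _ _ _ fun c hc => by
          obtain ⟨j, -, rfl⟩ := List.mem_map.mp hc
          rw [dot_column, hv]] at h0
        have h1 : d t = 0 := (mul_eq_zero.mp h0).resolve_left (by exact_mod_cast hn)
        simp [LinCertM.den, hk, h1]
    refine ⟨fun t => ⟨(d t % C.den t).toNat, ?_⟩, ?_⟩
    · have := Int.emod_lt_of_pos (d t) (show (0 : ℤ) < C.den t by exact_mod_cast hden t t.isLt)
      have := Int.emod_nonneg (d t) (show (C.den t : ℤ) ≠ 0 by have := hden t t.isLt; omega)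
      omega
    · show ∏ t : Fin C.basis.length, f t ^ (d t % C.den t).toNat = ev R v
      rw [hprod, ← Fin.prod_univ_eq_prod_range (fun t => f t ^ dot (C.dual.getD t []) v)]
      exact Finset.prod_congr rfl fun t _ => (hred t t.isLt).symm
  refine ⟨(Set.finite_range _).subset hsub, (Set.ncard_le_ncard hsub (Set.finite_range _)).trans ?_⟩
  rw [← Nat.card_coe_set_eq]
  refine (Finite.card_range_le _).trans ?_
  rw [Nat.card_pi, LinCertM.bound, ← List.ofFn_getElem (xs := (List.range C.basis.length).map C.den), List.prod_ofFn]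
  simp only [Nat.card_eq_fintype_card, Fintype.card_fin]
  exact le_of_eq (Fintype.prod_equiv (finCongr (by simp)) _ _ (fun t => by simp))

variable {Γ : Type*} [Group Γ] {G : Type*} [Group G]

/-- an element of the kernel in the commutator subgroup is an evaluation at exponent zero -/
theorem exists_vec_of_mem [Finite Γ] {σ : Γ →* G} (hs : Function.Surjective σ) (hc : σ.ker ≤ Subgroup.center Γ)
    {a : ℕ → G} {rels : List Word} (F : Frame σ a rels) {m : ℕ}
    (hgen : Subgroup.closure (a '' Set.Iio m) = ⊤) {N : ℕ} (hcard : Nat.card G = N) {f : Machine}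
    (hsound : Sound F.E (relRows rels) F.b m vunit N f) {z : Γ} (hz : z ∈ σ.ker) (hz' : z ∈ commutator Γ) :
    ∃ v, (∀ j, cf (comb (relRows rels) v) j = 0) ∧ F.E v = z := by
  classical
  obtain ⟨elt, pot, hN, he0, hp0, hstep⟩ := hsound
  have hrun := Sound.run F.central hstep
  have hσw : ∀ w, σ (wval F.b w) = wval a w := fun w => by rw [map_wval, show σ ∘ F.b = a from funext F.lift]
  have hpres : ∀ x : G, ∃ w : Word, (∀ l ∈ w, l.1 < m) ∧ wval a w = x := by
    intro x
    have hm : x ∈ Subgroup.closure (a '' Set.Iio m) := hgen ▸ Subgroup.mem_top x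
    induction hm using Subgroup.closure_induction with
    | mem y hy =>
      obtain ⟨j, hj, rfl⟩ := hy
      exact ⟨[(j, true)], by simpa using hj, by simp [wval, lett]⟩
    | one => exact ⟨[], by simp, rfl⟩
    | mul y z _ _ ihy ihz =>
      obtain ⟨w, hw, rfl⟩ := ihy; obtain ⟨w', hw', rfl⟩ := ihz
      exact ⟨w ++ w', fun l hl => (List.mem_append.mp hl).elim (hw l) (hw' l), wval_append _ _ _⟩
    | inv y _ ih =>
      obtain ⟨w, hw, rfl⟩ := ih
      refine ⟨winv w, fun l hl => ?_, wval_winv _ _⟩
      simp only [winv, List.mem_map, List.mem_reverse] at hl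
      obtain ⟨l', hl', rfl⟩ := hl
      exact hw l' hl'
  have hinj : Function.Injective fun i : Fin N => σ (elt i.1) := by
    have : Finite G := Finite.of_surjective σ hs
    refine ((Nat.bijective_iff_surjective_and_card _).2 ⟨fun x => ?_, by rw [Nat.card_fin, hcard]⟩).1
    obtain ⟨w, hw, rfl⟩ := hpres x
    obtain ⟨k1, k2, -⟩ := hrun w 0 hN hw
    refine ⟨⟨_, k1⟩, ?_⟩
    have := congrArg σ k2
    rw [he0, one_mul, map_mul, F.ker, mul_one, hσw] at this
    exact this.symm
  let S : Subgroup Γ :=
    { carrier := {γ | ∃ w, (∀ l ∈ w, l.1 < m) ∧ (∀ j, cf (wexp vunit w) j = 0) ∧ wval F.b w = γ}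
      one_mem' := ⟨[], by simp, fun _ => rfl, rfl⟩
      mul_mem' := by
        rintro _ _ ⟨w, hw, he, rfl⟩ ⟨w', hw', he', rfl⟩
        exact ⟨w ++ w', fun l hl => (List.mem_append.mp hl).elim (hw l) (hw' l),
          fun j => by rw [cf_wexp_append, he, he', add_zero], wval_append _ _ _⟩
      inv_mem' := by
        rintro _ ⟨w, hw, he, rfl⟩
        refine ⟨winv w, fun l hl => ?_, fun j => by rw [cf_wexp_winv, he, neg_zero], wval_winv _ _⟩
        simp only [winv, List.mem_map, List.mem_reverse] at hl
        obtain ⟨l', hl', rfl⟩ := hl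
        exact hw l' hl' }
  have hcom : commutator Γ ≤ S := by
    rw [commutator_def, Subgroup.commutator_le]
    intro g₁ _ g₂ _
    obtain ⟨w, hwv, hw⟩ := hpres (σ g₁)
    obtain ⟨w', hwv', hw'⟩ := hpres (σ g₂)
    obtain ⟨k, hk, rfl⟩ : ∃ k ∈ σ.ker, g₁ = wval F.b w * k :=
      ⟨(wval F.b w)⁻¹ * g₁, by simp [hσw, hw], by group⟩
    obtain ⟨k', hk', rfl⟩ : ∃ k ∈ σ.ker, g₂ = wval F.b w' * k :=
      ⟨(wval F.b w')⁻¹ * g₂, by simp [hσw, hw'], by group⟩
    refine ⟨w ++ w' ++ winv w ++ winv w', ?_, fun j => by simp only [cf_wexp_append, cf_wexp_winv]; ring, ?_⟩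
    · intro l hl
      simp only [List.mem_append, winv, List.mem_map, List.mem_reverse] at hl
      rcases hl with ((h | h) | ⟨l', h, rfl⟩) | ⟨l', h, rfl⟩
      exacts [hwv l h, hwv' l h, hwv l' h, hwv' l' h]
    have c1 := Subgroup.mem_center_iff.mp (hc hk)
    have c2 := Subgroup.mem_center_iff.mp (hc hk')
    simp only [wval_append, wval_winv, commutatorElement_def, mul_inv_rev]
    generalize wval F.b w = u
    generalize wval F.b w' = u'
    calc u * u' * u⁻¹ * u'⁻¹ = u * u' * (k * k⁻¹) * u⁻¹ * (k' * k'⁻¹) * u'⁻¹ := by group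
      _ = u * (u' * k) * k⁻¹ * (u⁻¹ * k') * k'⁻¹ * u'⁻¹ := by group
      _ = u * (k * u') * k⁻¹ * (k' * u⁻¹) * k'⁻¹ * u'⁻¹ := by rw [c1, c2]
      _ = u * k * u' * (k⁻¹ * k') * u⁻¹ * k'⁻¹ * u'⁻¹ := by group
      _ = u * k * u' * (k' * k⁻¹) * u⁻¹ * k'⁻¹ * u'⁻¹ := by rw [c2]
      _ = _ := by group
  obtain ⟨w, hw, he, rfl⟩ := hcom hz'
  obtain ⟨k1, k2, k3⟩ := hrun w 0 hN hw
  rw [he0, one_mul] at k2
  have h0 : (mrun f w 0).1 = 0 := by
    have h2 := congrArg σ k2
    rw [MonoidHom.mem_ker.mp hz, map_mul, F.ker, mul_one] at h2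
    have := @hinj ⟨_, k1⟩ ⟨0, hN⟩ (by show σ (elt _) = σ (elt 0); rw [← h2, he0, map_one])
    exact congrArg Fin.val this
  rw [h0, he0, one_mul] at k2
  refine ⟨_, fun j => ?_, k2.symm⟩
  have := k3 j
  rw [h0, hp0, he, zero_add, zero_add] at this
  exact this.symm

/-- a frame whose evaluation is the evaluation of a vector of central elements -/
theorem exists_frame_ev (σ : Γ →* G) (hs : Function.Surjective σ) (hc : σ.ker ≤ Subgroup.center Γ) (a : ℕ → G)
    (rels : List Word) (hrels : ∀ w ∈ rels, wval a w = 1) :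
    ∃ F : Frame σ a rels, ∀ (C : LinCertM) (m : ℕ) (L : List Vec), C.ok (relRows rels) m L = true →
      (∀ e ∈ L, F.E e = 1) → {x : Γ | ∃ v, (∀ j, cf (comb (relRows rels) v) j = 0) ∧ F.E v = x}.Finite ∧
        {x : Γ | ∃ v, (∀ j, cf (comb (relRows rels) v) j = 0) ∧ F.E v = x}.ncard ≤ C.bound := by
  classical
  let _ : CommGroup (Subgroup.center Γ) :=
    { (inferInstance : Group (Subgroup.center Γ)) with
      mul_comm := fun u v => Subtype.ext (Subgroup.mem_center_iff.mp v.2 u) }
  obtain ⟨F₀⟩ := exists_frame σ hs hc a rels hrels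
  let R : ℕ → Subgroup.center Γ := fun i => if i < rels.length then
    ⟨F₀.E (vunit i), Subgroup.mem_center_iff.2 (F₀.central.comm (vunit i))⟩ else 1
  have key : ∀ (v : Vec) (R' : ℕ → Subgroup.center Γ), (∀ i, σ (R' i : Γ) = 1) →
      σ ((ev R' v : Subgroup.center Γ) : Γ) = 1 := by
    intro v
    induction v with
    | nil => intros; exact map_one σ
    | cons x v ih =>
      intro R' h
      simp only [ev, Subgroup.coe_mul, Subgroup.coe_zpow, map_mul, map_zpow, h, one_zpow, one_mul]
      exact ih _ fun i => h _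
  have hR : ∀ i, (relRows rels).length ≤ i → R i = 1 := fun i hi => by
    simp only [R]; rw [if_neg]; simpa [relRows] using hi
  let E : Vec → Γ := fun v => ((ev R v : Subgroup.center Γ) : Γ)
  refine ⟨{ b := F₀.b, E := E, lift := F₀.lift, central := ?_, ker := ?_, rel := ?_, bound := ?_ }, ?_⟩
  · exact
      { nil := rfl
        vadd := fun v w => by simp only [E, ev_vadd, Subgroup.coe_mul]
        vneg := fun v => by simp only [E, ev_vneg, Subgroup.coe_inv]
        veq := fun v w h => by simp only [E, ev_eq_of_veq h]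
        zero := fun v h => by simp only [E, ev_of_vzero R h, Subgroup.coe_one]
        comm := fun v y => Subgroup.mem_center_iff.mp (ev R v).2 y }
  · refine fun v => key v R fun i => ?_
    simp only [R]
    split_ifs
    · exact F₀.ker _
    · exact map_one σ
  · intro i hi
    rw [F₀.rel i hi]
    simp only [E, ev_vunit, R, if_pos hi]
  · intro C m L hok hL v hv
    obtain ⟨j, hj, e⟩ := LinCert.exists_pow hok R hR (fun e he => Subtype.ext (hL e he)) v hv
    exact ⟨j, hj, by simp only [E, e, Subgroup.coe_pow]⟩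
  · intro C m L hok hL
    obtain ⟨hfin, hle⟩ := LinCertM.card_le hok R hR (fun e he => Subtype.ext (hL e he))
    have hS : {x : Γ | ∃ v, (∀ j, cf (comb (relRows rels) v) j = 0) ∧ E v = x} =
        (fun x : Subgroup.center Γ => (x : Γ)) ''
          {x : Subgroup.center Γ | ∃ v, (∀ j, cf (comb (relRows rels) v) j = 0) ∧ ev R v = x} := by
      ext x
      simp only [Set.mem_ofPred_eq, Set.mem_image]
      exact ⟨fun ⟨v, hv, h⟩ => ⟨_, ⟨v, hv, rfl⟩, h⟩, fun ⟨y, ⟨v, hv, h⟩, hy⟩ => ⟨v, hv, by rw [← hy, ← h]⟩⟩
    exact ⟨hS ▸ hfin.image _, hS ▸ (Set.ncard_image_le hfin).trans hle⟩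

section Perms

variable [Finite G] {n : ℕ} (φ : G →* Equiv.Perm (Fin n))

/-- a stem extension of a group with a valid chain has small kernel -/
theorem card_ker_le_of_chainM (hφ : Function.Injective φ) (ls : List ChainLevel) (C : LinCertM) (rows : List Vec)
    (m : ℕ) (hgenMem : ∀ j < m, ∃ g : G, RepN (φ g) ((chainPerm ls).getD j 0))
    (hlen : (chainPerm ls).length = m) (hgenlen : chainGen ls = m) (hperm : permsOKN n ls = true)
    (hrows : rows = relRows (chainRels ls ((List.range m).map fun j => [(j, true)])))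
    (htab : tablesOK (chainRels ls ((List.range m).map fun j => [(j, true)])) rows ls
      ((List.range m).map fun j => [(j, true)]) = true)
    (hexp : chainExp ls = (List.range m).map fun j => wexp vunit [(j, true)])
    (hcard : Nat.card G = chainSize ls) (hlin : C.ok rows m (chainEqns ls) = true)
    [Finite Γ] (σ : Γ →* G) (hσ : Cfsg.IsStemExtension σ) : Nat.card σ.ker ≤ C.bound := by
  classical
  set top : List Word := (List.range m).map fun j => [(j, true)] with htop
  let a : ℕ → G := fun j => if h : j < m then (hgenMem j h).choose else 1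
  have htopget : ∀ j < m, top.getD j [] = [(j, true)] := fun j hj => by
    rw [htop, List.getD_eq_getElem _ _ (by simpa using hj)]; simp
  have hb : ∀ (j : ℕ), j < m → wval a (top.getD j []) = a j := fun j hj => by
    rw [htopget j hj]; simp [wval, lett]
  have htl : top.length = m := by simp [htop]
  obtain ⟨hrels, hsize⟩ := chain_permsN φ hφ a ls top hperm (by rw [hlen, htl]) fun j hj => by
    rw [htl] at hj
    rw [hb j hj]
    simp only [a, dif_pos hj]
    exact (hgenMem j hj).choose_spec
  have hgen : Subgroup.closure (a '' Set.Iio m) = ⊤ := by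
    refine Subgroup.eq_top_of_le_card _ ?_
    rw [hcard]
    have : (fun j => wval a (top.getD j [])) '' Set.Iio top.length = a '' Set.Iio m := by
      rw [htl]; exact Set.image_congr fun j hj => hb j hj
    rwa [this] at hsize
  subst hrows
  obtain ⟨F, hF⟩ := exists_frame_ev σ hσ.1 hσ.2.1 a _ hrels
  obtain ⟨hS, hE⟩ := chain_sound F ls top htab
  obtain ⟨hfin, hle⟩ := hF C m _ hlin hE
  refine le_trans ?_ hle
  rw [← SetLike.coe_sort_coe, Nat.card_coe_set_eq]
  refine Set.ncard_le_ncard (fun z hz => ?_) hfin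
  refine exists_vec_of_mem hσ.1 hσ.2.1 F hgen hcard (f := chainMachine ls) ?_ hz (hσ.2.2 hz)
  rw [hgenlen] at hS
  obtain ⟨elt, pot, hN, he, hp, hstep⟩ := hS
  refine ⟨elt, pot, hN, he, hp, fun i hi l hl => ?_⟩
  obtain ⟨h1, h2, h3⟩ := hstep i hi l hl
  have hwl : wval F.b (top.getD l.1 []) = F.b l.1 := by rw [htopget _ hl]; simp [wval, lett]
  refine ⟨h1, by simpa only [lett, hwl] using h2, fun j => ?_⟩
  have := h3 j
  simp only [hexp] at this
  obtain ⟨x, s⟩ := l
  rw [show cf (wexp (fun j => ((List.range m).map fun j => wexp vunit [(j, true)]).getD j []) [(x, s)]) j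
    = cf (wexp vunit [(x, s)]) j by
      simp only [wexp]
      rw [List.getD_eq_getElem _ _ (by simpa using hl)]
      cases s <;> simp [cf_vadd, cf_vneg, cf_nil]] at this
  exact this

end Perms

end CfsgLib.Schur.Cert
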