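import Mathlib
import Cfsg.Agent.Lib.Sporadic.ChainCertificate

/-!
# Central extensions from monomial representations, certified by chains of coset tables

A valid chain for a group presents it. So monomial matrices that satisfy the relations of the chain up to
scalars give a homomorphism into the monomial group modulo scalars, and with it a central extension.
-/

set_option autoImplicit false

namespace CfsgLib.Schur.Cert

open CfsgLib.Sporadic

section Present

variable {G : Type*} [Group G] {H : Type*} [Group H]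

/-- a chain presents: a word trivial in the group is trivial wherever the relations hold -/
theorem eq_one_of_present (a : ℕ → G) (b : ℕ → H) (ls : List ChainLevel) (rows : List Vec) (m : ℕ)
    (hgenlen : chainGen ls = m)
    (hrows : rows = relRows (chainRels ls ((List.range m).map fun j => [(j, true)])))
    (htab : tablesOK (chainRels ls ((List.range m).map fun j => [(j, true)])) rows ls
      ((List.range m).map fun j => [(j, true)]) = true)
    (hgen : Subgroup.closure (a '' Set.Iio m) = ⊤) (hcard : Nat.card G = chainSize ls)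
    (ha : ∀ w ∈ chainRels ls ((List.range m).map fun j => [(j, true)]), wval a w = 1)
    (hb : ∀ w ∈ chainRels ls ((List.range m).map fun j => [(j, true)]), wval b w = 1)
    (w : Word) (hw : ∀ l ∈ w, l.1 < m) (h1 : wval a w = 1) : wval b w = 1 := by
  classical
  set top : List Word := (List.range m).map fun j => [(j, true)] with htop
  have htopget : ∀ j < m, top.getD j [] = [(j, true)] := fun j hj => by
    rw [htop, List.getD_eq_getElem _ _ (by simpa using hj)]; simp
  set rels := chainRels ls top with hrels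
  let c : ℕ → G × H := fun j => (a j, b j)
  have hc : ∀ u : Word, wval c u = (wval a u, wval b u) := fun u => by
    refine Prod.ext ?_ ?_
    · show MonoidHom.fst G H (wval c u) = _
      rw [map_wval]; rfl
    · show MonoidHom.snd G H (wval c u) = _
      rw [map_wval]; rfl
  let F : Frame (MonoidHom.id (G × H)) c rels :=
    { b := c
      E := fun _ => 1
      lift := fun _ => rfl
      central := ⟨rfl, fun _ _ => (one_mul 1).symm, fun _ => inv_one.symm, fun _ _ _ => rfl, fun _ _ => rfl,
        fun _ y => by simp⟩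
      ker := fun _ => rfl
      rel := fun i hi => by
        have hmem : rels.getD i [] ∈ rels := by
          rw [List.getD_eq_getElem _ _ hi]; exact List.getElem_mem hi
        rw [hc, ha _ hmem, hb _ hmem]
        rfl
      bound := fun C' _ _ hok _ _ _ => ⟨0, by
        simp only [LinCert.ok, Bool.and_eq_true, decide_eq_true_eq] at hok
        exact hok.1.1.1.1.1, (pow_zero _).symm⟩ }
  subst hrows
  obtain ⟨⟨elt, pot, hN, he0, -, hstep⟩, -⟩ := chain_sound F ls top htab
  rw [hgenlen] at hstep
  have hrun := Sound.run F.central hstep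
  have hval : ∀ u : Word, (∀ l ∈ u, l.1 < m) → wval (fun j => wval F.b (top.getD j [])) u = wval c u := by
    intro u hu
    induction u with
    | nil => rfl
    | cons l u ih =>
      rw [wval_cons, wval_cons, ih fun x hx => hu x (List.mem_cons_of_mem _ hx)]
      congr 1
      simp only [lett, htopget _ (hu l List.mem_cons_self)]
      simp [F, wval, lett]
  have hfin : ∀ u : Word, (∀ l ∈ u, l.1 < m) → ∃ i : Fin (chainSize ls), elt i.1 = wval c u ∧
      (i : ℕ) = (mrun (chainMachine ls) u 0).1 := fun u hu => by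
    obtain ⟨k1, k2, -⟩ := hrun u 0 hN hu
    refine ⟨⟨_, k1⟩, ?_, rfl⟩
    rw [he0, one_mul, hval u hu] at k2
    rw [k2]
    exact (mul_one _).symm
  have hinj : Function.Injective fun i : Fin (chainSize ls) => (elt i.1).1 := by
    refine ((Nat.bijective_iff_surjective_and_card _).2 ⟨fun x => ?_, by rw [Nat.card_fin, hcard]⟩).1
    obtain ⟨u, hu, rfl⟩ : ∃ u : Word, (∀ l ∈ u, l.1 < m) ∧ wval a u = x := by
      have hm : x ∈ Subgroup.closure (a '' Set.Iio m) := hgen ▸ Subgroup.mem_top x
      induction hm using Subgroup.closure_induction with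
      | mem y hy =>
        obtain ⟨j, hj, rfl⟩ := hy
        exact ⟨[(j, true)], by simpa using hj, by simp [wval, lett]⟩
      | one => exact ⟨[], by simp, rfl⟩
      | mul y z _ _ ihy ihz =>
        obtain ⟨u, hu, rfl⟩ := ihy; obtain ⟨u', hu', rfl⟩ := ihz
        exact ⟨u ++ u', fun l hl => (List.mem_append.mp hl).elim (hu l) (hu' l), wval_append _ _ _⟩
      | inv y _ ih =>
        obtain ⟨u, hu, rfl⟩ := ih
        refine ⟨winv u, fun l hl => ?_, wval_winv _ _⟩
        simp only [winv, List.mem_map, List.mem_reverse] at hl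
        obtain ⟨l', hl', rfl⟩ := hl
        exact hu l' hl'
    obtain ⟨i, hi, -⟩ := hfin u hu
    exact ⟨i, by simp [hi, hc]⟩
  obtain ⟨i, hi, hie⟩ := hfin w hw
  have h0 : i = ⟨0, hN⟩ := hinj (by simp [hi, he0, hc, h1])
  rw [h0, he0, hc] at hi
  exact (congrArg Prod.snd hi).symm

end Present

/-- read a packed monomial matrix, thirteen bits a point -/
noncomputable def mget (p i : ℕ) : ℕ := Nat.land (Nat.shiftRight p (Nat.mul 13 i)) 8191

/-- the action on pairs of a point and a label, both in one number -/
noncomputable def mstep (m p e : ℕ) : ℕ :=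
  Nat.add (Nat.mul (Nat.div (mget p (Nat.div e m)) m) m) (Nat.mod (Nat.add (mget p (Nat.div e m)) e) m)

/-- the image of a pair under a word -/
noncomputable def meval (m : ℕ) (P Pi : List ℕ) (w : Word) (e : ℕ) : ℕ :=
  w.foldr (fun l y => mstep m (bif l.2 then P.getD l.1 0 else Pi.getD l.1 0) y) e

/-- add to the label -/
noncomputable def shiftLab (m c e : ℕ) : ℕ := Nat.add (Nat.mul (Nat.div e m) m) (Nat.mod (Nat.add e c) m)

/-- the permutation holds a packed monomial matrix -/
def RepM {n m : ℕ} (σ : Equiv.Perm (Fin (n * m))) (p : ℕ) : Prop := ∀ e : Fin (n * m), mstep m p e = (σ e : ℕ)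

/-- a packed monomial matrix and its inverse are valid -/
noncomputable def monPairOK (n m p q : ℕ) : Bool :=
  forallLt (Nat.mul n m) fun e => Nat.blt (mstep m p e) (Nat.mul n m) && Nat.blt (mstep m q e) (Nat.mul n m) &&
    Nat.beq (mstep m q (mstep m p e)) e && Nat.beq (mstep m p (mstep m q e)) e &&
    Nat.beq (mstep m p (shiftLab m 1 e)) (shiftLab m 1 (mstep m p e))

theorem shiftLab_lt {n m e : ℕ} (c : ℕ) (hm : 0 < m) (he : e < n * m) : shiftLab m c e < n * m := by
  show e / m * m + (e + c) % m < n * m
  have h1 : e / m < n := (Nat.div_lt_iff_lt_mul hm).2 he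
  have h2 := Nat.mod_lt (e + c) hm
  nlinarith

theorem shiftLab_shiftLab {m : ℕ} (c d e : ℕ) (hm : 0 < m) :
    shiftLab m d (shiftLab m c e) = shiftLab m (c + d) e := by
  show (e / m * m + (e + c) % m) / m * m + (e / m * m + (e + c) % m + d) % m = e / m * m + (e + (c + d)) % m
  rw [show (e / m * m + (e + c) % m) / m = e / m by
    rw [Nat.mul_comm, Nat.mul_add_div hm, Nat.div_eq_of_lt (Nat.mod_lt _ hm), Nat.add_zero],
    show e / m * m + (e + c) % m + d = ((e + c) % m + d) + e / m * m by ring, Nat.add_mul_mod_self_right,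
    Nat.mod_add_mod, Nat.add_assoc]

theorem shiftLab_self {m e : ℕ} (hm : 0 < m) : shiftLab m m e = e := by
  show e / m * m + (e + m) % m = e
  rw [Nat.add_mod_right, Nat.mul_comm]
  exact Nat.div_add_mod e m

/-- adding one to every label -/
noncomputable def labShift (n m : ℕ) [NeZero m] : Equiv.Perm (Fin (n * m)) where
  toFun e := ⟨shiftLab m 1 e, shiftLab_lt 1 (NeZero.pos m) e.isLt⟩
  invFun e := ⟨shiftLab m (m - 1) e, shiftLab_lt _ (NeZero.pos m) e.isLt⟩
  left_inv e := Fin.ext (by
    simp only [shiftLab_shiftLab _ _ _ (NeZero.pos m)]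
    rw [show 1 + (m - 1) = m by have := NeZero.pos m; omega, shiftLab_self (NeZero.pos m)])
  right_inv e := Fin.ext (by
    simp only [shiftLab_shiftLab _ _ _ (NeZero.pos m)]
    rw [show m - 1 + 1 = m by have := NeZero.pos m; omega, shiftLab_self (NeZero.pos m)])

theorem labShift_pow (n m : ℕ) [NeZero m] (k : ℕ) (e : Fin (n * m)) :
    (((labShift n m) ^ k) e : ℕ) = shiftLab m k e := by
  induction k with
  | zero =>
    show (e : ℕ) = (e : ℕ) / m * m + ((e : ℕ) + 0) % m
    rw [Nat.add_zero, Nat.div_add_mod']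
  | succ k ih =>
    rw [pow_succ', Equiv.Perm.mul_apply]
    show shiftLab m 1 _ = _
    rw [ih, shiftLab_shiftLab _ _ _ (NeZero.pos m)]

/-- the monomial group: the centraliser of the scalars -/
abbrev monW (n m : ℕ) [NeZero m] : Subgroup (Equiv.Perm (Fin (n * m))) :=
  Subgroup.centralizer {labShift n m}

theorem exists_repM {n m p q : ℕ} [NeZero m] (h : monPairOK n m p q = true) :
    ∃ σ : monW n m, RepM σ.1 p ∧ RepM (σ⁻¹).1 q := by
  have hh := fun e : Fin (n * m) => forallLt_elim h (k := e.1) e.isLt
  simp only [Bool.and_eq_true, Nat.blt_eq, Nat.beq_eq] at hh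
  let σ : Equiv.Perm (Fin (n * m)) :=
    { toFun := fun e => ⟨mstep m p e, (hh e).1.1.1.1⟩
      invFun := fun e => ⟨mstep m q e, (hh e).1.1.1.2⟩
      left_inv := fun e => Fin.ext (hh e).1.1.2
      right_inv := fun e => Fin.ext (hh e).1.2 }
  refine ⟨⟨σ, Subgroup.mem_centralizer_iff.2 fun t ht => ?_⟩, fun e => rfl, fun e => rfl⟩
  rw [Set.mem_singleton_iff] at ht
  subst ht
  exact Equiv.ext fun e => Fin.ext (hh e).2.symm

theorem meval_spec {n m : ℕ} [NeZero m] {b : ℕ → monW n m} {P Pi : List ℕ} {k : ℕ}
    (hb : ∀ j < k, RepM (b j).1 (P.getD j 0)) (hbi : ∀ j < k, RepM ((b j)⁻¹).1 (Pi.getD j 0)) :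
    ∀ (w : Word), (∀ l ∈ w, l.1 < k) → ∀ e : Fin (n * m), meval m P Pi w e = ((wval b w).1 e : ℕ)
  | [], _, e => by simp [meval, wval]
  | l :: w, hw, e => by
    have ih := meval_spec hb hbi w (fun y hy => hw y (List.mem_cons_of_mem _ hy)) e
    show mstep m _ (meval m P Pi w (e : ℕ)) = _
    rw [ih, wval_cons, Subgroup.coe_mul, Equiv.Perm.mul_apply]
    have hl := hw l List.mem_cons_self
    obtain ⟨j, s⟩ := l
    cases s
    · simp only [cond_false, lett]; exact hbi j hl _
    · simp only [cond_true, lett]; exact hb j hl _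

/-- two monomial maps agree once they do on one label of each point -/
theorem monW_ext {n m : ℕ} [NeZero m] {f g : monW n m}
    (h : ∀ x, (hx : x < n) → f.1 ⟨x * m, (Nat.mul_lt_mul_right (NeZero.pos m)).2 hx⟩ =
      g.1 ⟨x * m, (Nat.mul_lt_mul_right (NeZero.pos m)).2 hx⟩) : f = g := by
  have hcomm : ∀ (f : monW n m) (k : ℕ), (labShift n m) ^ k * f.1 = f.1 * (labShift n m) ^ k := fun f k =>
    (Commute.pow_left (Subgroup.mem_centralizer_iff.1 f.2 _ rfl) k).eq
  refine Subtype.ext (Equiv.ext fun e => ?_)
  have hx : (e : ℕ) / m < n := (Nat.div_lt_iff_lt_mul (NeZero.pos m)).2 e.isLt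
  have he : e = ((labShift n m) ^ ((e : ℕ) % m))
      ⟨(e : ℕ) / m * m, (Nat.mul_lt_mul_right (NeZero.pos m)).2 hx⟩ := Fin.ext (by
    rw [labShift_pow]
    show _ = (e : ℕ) / m * m / m * m + ((e : ℕ) / m * m + (e : ℕ) % m) % m
    rw [Nat.mul_div_cancel _ (NeZero.pos m), Nat.add_comm ((e : ℕ) / m * m) ((e : ℕ) % m),
      Nat.add_mul_mod_self_right, Nat.mod_mod, Nat.div_add_mod'])
  rw [he, ← Equiv.Perm.mul_apply, ← hcomm f, ← Equiv.Perm.mul_apply g.1, ← hcomm g, Equiv.Perm.mul_apply,
    Equiv.Perm.mul_apply, h _ hx]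

/-- the scalars -/
noncomputable def scalar (n m : ℕ) [NeZero m] : monW n m :=
  ⟨labShift n m, Subgroup.mem_centralizer_iff.2 fun t ht => by rw [Set.mem_singleton_iff] at ht; rw [ht]⟩

theorem scalar_central (n m : ℕ) [NeZero m] : Subgroup.zpowers (scalar n m) ≤ Subgroup.center (monW n m) := by
  rw [Subgroup.zpowers_le, Subgroup.mem_center_iff]
  exact fun f => Subtype.ext ((Subgroup.mem_centralizer_iff.1 f.2 _ rfl).symm)

instance (n m : ℕ) [NeZero m] : (Subgroup.zpowers (scalar n m)).Normal :=
  ⟨fun z hz g => by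
    rw [Subgroup.mem_center_iff.1 (scalar_central n m hz) g, mul_inv_cancel_right]; exact hz⟩

/-- the monomial matrices satisfy the chain up to scalars -/
noncomputable def monOK (n m : ℕ) : List ChainLevel → List (List ℕ × List ℕ) → Bool
  | [], _ => true
  | l :: ls, d =>
    let P := (d.getD 0 ([], [])).1
    let Pi := (d.getD 0 ([], [])).2
    let P' := ((d.tail).getD 0 ([], [])).1
    let Pi' := ((d.tail).getD 0 ([], [])).2
    ((List.range l.table.ngen).all fun j => monPairOK n m (P.getD j 0) (Pi.getD j 0)) &&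
      decide (l.defs.length = P'.length) && decide (l.defs.length = chainGen ls) &&
      ((List.range l.defs.length).all fun j => ((l.defs.getD j []).all fun y => decide (y.1 < l.table.ngen)) &&
        monPairOK n m (P'.getD j 0) (Pi'.getD j 0) &&
        forallLt n fun x => Nat.beq (meval m P Pi (l.defs.getD j []) (Nat.mul x m)) (mstep m (P'.getD j 0) (Nat.mul x m))) &&
      (l.table.rels.all fun r => !r.rhs.isEmpty || ((r.word.all fun y => decide (y.1 < l.table.ngen)) &&
        Nat.blt (meval m P Pi r.word 0) m &&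
        forallLt n fun x => Nat.beq (meval m P Pi r.word (Nat.mul x m))
          (shiftLab m (meval m P Pi r.word 0) (Nat.mul x m)))) &&
      monOK n m ls d.tail

theorem repM_unique {n m p : ℕ} [NeZero m] {f g : monW n m} (hf : RepM f.1 p) (hg : RepM g.1 p) : f = g :=
  Subtype.ext (Equiv.ext fun e => Fin.ext ((hf e).symm.trans (hg e)))

theorem rels_scalar {n m : ℕ} [NeZero m] (a : ℕ → monW n m) : ∀ (ls : List ChainLevel) (h : List Word)
    (d : List (List ℕ × List ℕ)), monOK n m ls d = true → chainGen ls = h.length →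
    (∀ j < h.length, RepM (wval a (h.getD j [])).1 ((d.getD 0 ([], [])).1.getD j 0) ∧
      RepM ((wval a (h.getD j []))⁻¹).1 ((d.getD 0 ([], [])).2.getD j 0)) →
    ∀ w ∈ chainRels ls h, wval a w ∈ Subgroup.zpowers (scalar n m)
  | [], h, d, _, _, _ => by simp [chainRels]
  | l :: ls, h, d, hok, hgn, hrep => by
    simp only [monOK, Bool.and_eq_true, decide_eq_true_eq, List.all_eq_true, List.mem_range, Bool.or_eq_true,
      Bool.not_eq_true', Nat.blt_eq] at hok
    obtain ⟨⟨⟨⟨⟨-, hdl⟩, hdg⟩, hdefs⟩, hrels⟩, hnext⟩ := hok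
    change l.table.ngen = h.length at hgn
    let b : ℕ → monW n m := fun j => wval a (h.getD j [])
    rw [← hgn] at hrep
    have hspec := meval_spec (b := b) (fun j hj => (hrep j hj).1) (fun j hj => (hrep j hj).2)
    have hnl : (nextWords h l).length = l.defs.length := by rw [nextWords, List.length_map]
    intro w hw
    simp only [chainRels, List.mem_append, List.mem_map, List.mem_filter, List.isEmpty_iff] at hw
    rcases hw with hw | ⟨r, ⟨hr, hre⟩, rfl⟩
    · refine rels_scalar a ls (nextWords h l) d.tail hnext ?_ ?_ w hw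
      · rw [hnl]; exact hdg.symm
      · intro j hj
        rw [hnl] at hj
        obtain ⟨⟨hv, hp⟩, hx⟩ := hdefs j hj
        obtain ⟨σ, hσ, hσi⟩ := exists_repM hp
        have hword : wval a ((nextWords h l).getD j []) = wval b (l.defs.getD j []) := by
          rw [nextWords, List.getD_eq_getElem _ _ (by simpa using hj), List.getElem_map, wval_wsub,
            List.getD_eq_getElem _ _ hj]
        have e : wval a ((nextWords h l).getD j []) = σ := by
          rw [hword]
          refine monW_ext fun x hxn => Fin.ext ?_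
          rw [← hspec _ hv, ← hσ]
          exact Nat.eq_of_beq_eq_true (forallLt_elim hx hxn)
        rw [e]; exact ⟨hσ, hσi⟩
    · rw [wval_wsub]
      rcases hrels r hr with hne | ⟨⟨hv, -⟩, hx⟩
      · rw [hre] at hne; simp at hne
      refine ⟨(meval m (d.getD 0 ([], [])).1 (d.getD 0 ([], [])).2 r.word 0 : ℕ), ?_⟩
      show scalar n m ^ ((_ : ℕ) : ℤ) = _
      rw [zpow_natCast]
      refine monW_ext fun x hxn => Fin.ext ?_
      rw [← hspec _ hv, SubmonoidClass.coe_pow]
      show ((labShift n m ^ _) _ : ℕ) = _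
      rw [labShift_pow]
      exact (Nat.eq_of_beq_eq_true (forallLt_elim hx hxn)).symm

end CfsgLib.Schur.Cert
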