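import Cfsg.Agent.Lib.Schur.Perfect

/-!
# Lifting through central extensions
-/

set_option autoImplicit false

namespace CfsgLib.Schur

universe u v w

/-- A map from a perfect group without multiplier lifts through every central extension. -/
theorem exists_lift_of_perfect {G : Type u} [Group G] [Finite G] {X : Type v} {Y : Type w} [Group X] [Group Y]
    (π : X →* Y) (hπ : Function.Surjective π) (hc : π.ker ≤ Subgroup.center X) (hperf : commutator G = ⊤)
    (hM : Cfsg.HasCyclicSchurMultiplier G 1) (f : G →* Y) : ∃ χ : G →* X, π.comp χ = f := by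
  let P : Subgroup (G × X) := (f.comp (MonoidHom.fst G X)).eqLocus (π.comp (MonoidHom.snd G X))
  let ξ : ↥P →* G := (MonoidHom.fst G X).comp P.subtype
  have hξ : Function.Surjective ξ := fun g => by
    obtain ⟨x, hx⟩ := hπ (f g)
    exact ⟨⟨(g, x), hx.symm⟩, rfl⟩
  have hξc : ξ.ker ≤ Subgroup.center ↥P := fun p hp => by
    have h1 : p.1.1 = 1 := hp
    have h2 : p.1.2 ∈ π.ker := by
      have h := p.2
      change f p.1.1 = π p.1.2 at h
      rw [h1, map_one] at h
      exact h.symm
    refine Subgroup.mem_center_iff.2 fun q => Subtype.ext (Prod.ext ?_ (Subgroup.mem_center_iff.1 (hc h2) _))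
    show q.1.1 * p.1.1 = p.1.1 * q.1.1
    rw [h1, mul_one, one_mul]
  obtain ⟨φ, hφ⟩ := exists_lift ξ hξ hξc
  have hinj : Function.Injective (uceProj G) := (MonoidHom.ker_eq_bot_iff _).1 (by
    rw [Subgroup.eq_bot_iff_forall]
    intro x hx
    have h : (x : Ext G) ∈ mult G := ⟨hx, x.2⟩
    rw [hasCyclicSchurMultiplier_one_iff.1 hM, Subgroup.mem_bot] at h
    exact Subtype.ext h)
  let e := MulEquiv.ofBijective (uceProj G) ⟨hinj, uceProj_surjective hperf⟩
  refine ⟨((MonoidHom.snd G X).comp P.subtype).comp ((φ.comp (commutator (Ext G)).subtype).comp e.symm.toMonoidHom),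
    MonoidHom.ext fun g => ?_⟩
  set p := φ ((e.symm g : commutator (Ext G)) : Ext G) with hp
  have h : f p.1.1 = π p.1.2 := p.2
  have h1 : p.1.1 = g := by
    show ξ (φ _) = g
    rw [show ξ (φ _) = proj G ((e.symm g : commutator (Ext G)) : Ext G) from DFunLike.congr_fun hφ _]
    exact e.apply_symm_apply g
  rw [h1] at h
  exact h.symm

/-- A subgroup covering the quotient of a stem extension is everything. -/
theorem eq_top_of_stem {Γ : Type u} {G : Type v} [Group Γ] [Group G] (σ : Γ →* G) (hσ : Cfsg.IsStemExtension σ)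
    (H : Subgroup Γ) (h : H.map σ = ⊤) : H = ⊤ := by
  have hsup : H ⊔ σ.ker = ⊤ := by
    rw [← Subgroup.comap_map_eq, h, Subgroup.comap_top]
  have hle : commutator Γ ≤ H := by
    rw [commutator_eq_map_of_range_sup H.subtype σ.ker hσ.2.1 (by rwa [Subgroup.range_subtype])]
    rintro _ ⟨x, -, rfl⟩
    exact x.2
  rw [eq_top_iff, ← hsup]
  exact sup_le le_rfl (hσ.2.2.trans hle)

end CfsgLib.Schur
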