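import Cfsg.Agent.Lib.Schur.Functor
import Cfsg.Agent.Lib.Schur.TwoGen

/-!
# Multipliers of abelian groups: the cyclic criterion and the two-generator case
-/

set_option autoImplicit false

open scoped commutatorElement

namespace CfsgLib.Schur

universe u

/-- The bilinear map `(g, h) ↦ f₁ g * f₂ h` into `ZMod n`. -/
def zmodPairing {G : Type u} [Group G] {n : ℕ} (f₁ f₂ : G →* Multiplicative (ZMod n)) :
    G →* G →* Multiplicative (ZMod n) :=
  MonoidHom.mk'
    (fun g => MonoidHom.mk'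
      (fun h => Multiplicative.ofAdd (α := ZMod n) (Multiplicative.toAdd (f₁ g) * Multiplicative.toAdd (f₂ h)))
      fun a b => by rw [map_mul f₂, toAdd_mul, mul_add, ofAdd_add])
    fun a b => MonoidHom.ext fun h => by
      show Multiplicative.ofAdd (α := ZMod n) (Multiplicative.toAdd (f₁ (a * b)) * Multiplicative.toAdd (f₂ h)) = _
      rw [map_mul f₁, toAdd_mul, add_mul, ofAdd_add]; rfl

theorem zmodPairing_apply {G : Type u} [Group G] {n : ℕ} (f₁ f₂ : G →* Multiplicative (ZMod n)) (g h : G) :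
    zmodPairing f₁ f₂ g h =
      Multiplicative.ofAdd (α := ZMod n) (Multiplicative.toAdd (f₁ g) * Multiplicative.toAdd (f₂ h)) := rfl

theorem zmodPairing_isStem {G : Type u} [CommGroup G] {n : ℕ} [NeZero n] (f₁ f₂ : G →* Multiplicative (ZMod n))
    {a b : G} (ha₁ : Multiplicative.toAdd (f₁ a) = 1) (ha₂ : f₂ a = 1)
    (hb₁ : f₁ b = 1) (hb₂ : Multiplicative.toAdd (f₂ b) = 1) :
    Cfsg.IsStemExtension (Twist.proj (zmodPairing f₁ f₂)) := by
  refine ⟨fun g => ⟨⟨1, g⟩, rfl⟩, fun x hx => ?_, fun x hx => ?_⟩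
  · have h : x.snd = 1 := hx
    refine Twist.mem_center (by rw [h]; exact one_mem _) fun g => ?_
    rw [h, map_one, MonoidHom.one_apply, map_one]
  · have h : x.snd = 1 := hx
    have e := Twist.commutator_eq (B := zmodPairing f₁ f₂) (Commute.all a b)
    have e1 : zmodPairing f₁ f₂ a b / zmodPairing f₁ f₂ b a = Multiplicative.ofAdd (1 : ZMod n) := by
      simp [zmodPairing_apply, ha₁, ha₂, hb₁, hb₂]
    rw [e1] at e
    let ι : Multiplicative (ZMod n) →* Twist (zmodPairing f₁ f₂) := MonoidHom.mk' (fun t => ⟨t, 1⟩) fun s t => by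
      refine Twist.ext ?_ (mul_one 1).symm
      simp
    have hx' : x = ι (Multiplicative.ofAdd (1 : ZMod n)) ^ (Multiplicative.toAdd x.fst).val := by
      rw [← map_pow, ← ofAdd_nsmul, nsmul_eq_mul, mul_one, ZMod.natCast_zmod_val, ofAdd_toAdd]
      exact Twist.ext rfl h
    rw [hx']
    refine pow_mem ?_ _
    show (⟨Multiplicative.ofAdd (1 : ZMod n), 1⟩ : Twist (zmodPairing f₁ f₂)) ∈ _
    rw [← e]
    exact Subgroup.commutator_mem_commutator (Subgroup.mem_top _) (Subgroup.mem_top _)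

/-- The kernel of the twisted extension is the coefficient group. -/
def zmodPairingKer {G : Type u} [Group G] {n : ℕ} (f₁ f₂ : G →* Multiplicative (ZMod n)) :
    (Twist.proj (zmodPairing f₁ f₂)).ker ≃* Multiplicative (ZMod n) where
  toFun x := x.1.fst
  invFun t := ⟨⟨t, 1⟩, rfl⟩
  left_inv x := Subtype.ext (Twist.ext rfl (Eq.symm x.2))
  right_inv _ := rfl
  map_mul' x y := by
    show x.1.fst * y.1.fst * zmodPairing f₁ f₂ x.1.snd y.1.snd = x.1.fst * y.1.fst
    have h : x.1.snd = 1 := x.2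
    rw [h, map_one, MonoidHom.one_apply, mul_one]

theorem mult_ne_bot_of_not_isCyclic {G : Type u} [CommGroup G] [Finite G] (hG : ¬ IsCyclic G) :
    mult G ≠ ⊥ := by
  classical
  obtain ⟨ι, _, n, hn, ⟨e⟩⟩ := CommGroup.equiv_prod_multiplicative_zmod_of_finite G
  obtain ⟨i, j, hij, hnc⟩ : ∃ i j, i ≠ j ∧ ¬ Nat.Coprime (n i) (n j) := by
    by_contra hc
    push Not at hc
    apply hG
    let e' : Multiplicative (ZMod (∏ i, n i)) ≃* G :=
      ((AddEquiv.toMultiplicative (ZMod.prodEquivPi n fun i j hij => hc i j hij).toAddEquiv).trans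
        (MulEquiv.piMultiplicative _)).trans e.symm
    exact e'.isCyclic.1 inferInstance
  obtain ⟨p, hp, hpi, hpj⟩ := Nat.Prime.not_coprime_iff_dvd.1 hnc
  haveI := Fact.mk hp
  let c : ∀ k, p ∣ n k → (G →* Multiplicative (ZMod p)) := fun k hk =>
    ((ZMod.castHom hk (ZMod p)).toAddMonoidHom.toMultiplicative.comp
      (Pi.evalMonoidHom _ k)).comp e.toMonoidHom
  have hval : ∀ k (hk : p ∣ n k) (f : ∀ i, Multiplicative (ZMod (n i))),
      Multiplicative.toAdd (c k hk (e.symm f)) = ZMod.castHom hk (ZMod p) (Multiplicative.toAdd (f k)) := by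
    intro k hk f
    simp [c]
  let a : G := e.symm (Pi.mulSingle i (Multiplicative.ofAdd 1))
  let b : G := e.symm (Pi.mulSingle j (Multiplicative.ofAdd 1))
  have h11 : Multiplicative.toAdd (c i hpi a) = 1 := by
    rw [hval, Pi.mulSingle_eq_same, toAdd_ofAdd, map_one]
  have h22 : Multiplicative.toAdd (c j hpj b) = 1 := by
    rw [hval, Pi.mulSingle_eq_same, toAdd_ofAdd, map_one]
  have h21 : c j hpj a = 1 := by
    apply Multiplicative.toAdd.injective
    rw [hval, Pi.mulSingle_eq_of_ne (Ne.symm hij), toAdd_one, map_zero]; rfl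
  have h12 : c i hpi b = 1 := by
    apply Multiplicative.toAdd.injective
    rw [hval, Pi.mulSingle_eq_of_ne hij, toAdd_one, map_zero]; rfl
  obtain ⟨hs, hc, hd⟩ := zmodPairing_isStem (c i hpi) (c j hpj) h11 h21 h12 h22
  refine mult_ne_bot_of_inf hs hc ?_
  rw [inf_eq_left.2 hd]
  intro hb
  have h1 : (Multiplicative.ofAdd (1 : ZMod p)) = 1 := by
    have hm : ((zmodPairingKer (c i hpi) (c j hpj)).symm (Multiplicative.ofAdd 1)).1 = 1 :=
      (Subgroup.eq_bot_iff_forall _).1 hb _ (Subtype.property _)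
    exact congrArg Twist.fst hm
  exact one_ne_zero (Multiplicative.ofAdd.injective h1)

theorem hasCyclicSchurMultiplier_one_iff_isCyclic {G : Type u} [CommGroup G] [Finite G] :
    Cfsg.HasCyclicSchurMultiplier G 1 ↔ IsCyclic G := by
  refine ⟨fun h => ?_, fun h => hasCyclicSchurMultiplier_one_of_isCyclic G⟩
  by_contra hc
  exact mult_ne_bot_of_not_isCyclic hc (hasCyclicSchurMultiplier_one_iff.1 h)

theorem hasCyclicSchurMultiplier_zmod_prod (m n : ℕ) [NeZero m] [NeZero n] (hnm : n ∣ m) :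
    Cfsg.HasCyclicSchurMultiplier (Multiplicative (ZMod m × ZMod n)) n := by
  let f₁ : Multiplicative (ZMod m × ZMod n) →* Multiplicative (ZMod n) :=
    ((ZMod.castHom hnm (ZMod n)).toAddMonoidHom.comp (AddMonoidHom.fst _ _)).toMultiplicative
  let f₂ : Multiplicative (ZMod m × ZMod n) →* Multiplicative (ZMod n) :=
    (AddMonoidHom.snd (ZMod m) (ZMod n)).toMultiplicative
  have hst := zmodPairing_isStem f₁ f₂ (a := Multiplicative.ofAdd ((1, 0) : ZMod m × ZMod n))
    (b := Multiplicative.ofAdd ((0, 1) : ZMod m × ZMod n))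
    (by simp [f₁, ZMod.cast_one hnm]) (by simp [f₂]) (by simp [f₁]) (by simp [f₂])
  refine hasSchurMultiplier_of_witness _ hst (zmodPairingKer f₁ f₂) fun Γ _ _ σ hσ => ?_
  rw [Nat.card_congr Multiplicative.toAdd, Nat.card_zmod]
  obtain ⟨a, ha⟩ := hσ.1 (Multiplicative.ofAdd ((1, 0) : ZMod m × ZMod n))
  obtain ⟨b, hb⟩ := hσ.1 (Multiplicative.ofAdd ((0, 1) : ZMod m × ZMod n))
  have hgen : Subgroup.closure ({a, b} : Set Γ) = ⊤ := by
    apply closure_eq_top_of_lift hσ
    rw [Set.image_pair, ha, hb, eq_top_iff]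
    intro x _
    have hx : x = Multiplicative.ofAdd ((1, 0) : ZMod m × ZMod n) ^ (Multiplicative.toAdd x).1.val *
        Multiplicative.ofAdd ((0, 1) : ZMod m × ZMod n) ^ (Multiplicative.toAdd x).2.val := by
      rw [← ofAdd_nsmul, ← ofAdd_nsmul, ← ofAdd_add]
      exact Multiplicative.toAdd.injective (Prod.ext (by simp) (by simp))
    rw [hx]
    exact mul_mem (pow_mem (Subgroup.subset_closure (by simp)) _) (pow_mem (Subgroup.subset_closure (by simp)) _)
  have hk : ∀ x : Γ, σ x = 1 → ∀ g, g * x * g⁻¹ = x := fun x hx g => by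
    rw [Subgroup.mem_center_iff.1 (hσ.2.1 hx) g, mul_inv_cancel_right]
  have hc : σ ⁅b, a⁆ = 1 := by
    rw [map_commutatorElement]; exact commutatorElement_eq_one_iff_mul_comm.2 (mul_comm _ _)
  have hle := commutator_le_zpowers hgen (by rw [hk _ hc]; exact Subgroup.mem_zpowers _)
    (by rw [hk _ hc]; exact Subgroup.mem_zpowers _)
  have hbn : σ (b ^ n) = 1 := by
    rw [map_pow, hb, ← ofAdd_nsmul]
    exact Multiplicative.toAdd.injective (Prod.ext (by simp) (by simp))
  have hpow : ∀ k : ℕ, ⁅b ^ k, a⁆ = ⁅b, a⁆ ^ k := by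
    intro k
    induction k with
    | zero => simp
    | succ k ih =>
      rw [pow_succ, pow_succ, show ⁅b ^ k * b, a⁆ = b ^ k * ⁅b, a⁆ * (b ^ k)⁻¹ * ⁅b ^ k, a⁆ by
        simp only [commutatorElement_def]; group, hk _ hc, ih, ← pow_succ', pow_succ]
  have hone : ⁅b, a⁆ ^ n = 1 := by
    rw [← hpow]
    exact commutatorElement_eq_one_iff_mul_comm.2 (Subgroup.mem_center_iff.1 (hσ.2.1 hbn) a).symm
  calc Nat.card σ.ker ≤ Nat.card (Subgroup.zpowers ⁅b, a⁆) :=
        Subgroup.card_le_of_le (hσ.2.2.trans hle)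
    _ = orderOf ⁅b, a⁆ := Nat.card_zpowers _
    _ ≤ n := orderOf_le_of_pow_eq_one (Nat.pos_of_ne_zero (NeZero.ne n)) hone

end CfsgLib.Schur
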