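import Mathlib
import Cfsg.Prelude.Def_KGroupFacts

/-!
# The universal central extension `F/[R,F]` of a finite group and its Schur multiplier

For a group `Q` let `F = FreeGroup Q`, `R` the kernel of `F → Q`, and `Ext Q = F/[R,F]` with
projection `proj Q : Ext Q →* Q`. The multiplier is `mult Q = ker (proj Q) ⊓ commutator (Ext Q)`.
-/

set_option autoImplicit false

open scoped commutatorElement

namespace CfsgLib.Schur

universe u v w

variable (Q : Type u) [Group Q]

/-- the relation module kernel -/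
abbrev relKer : Subgroup (FreeGroup Q) := (FreeGroup.lift (id : Q → Q)).ker

/-- `F/[R,F]` -/
abbrev Ext : Type u := FreeGroup Q ⧸ ⁅relKer Q, (⊤ : Subgroup (FreeGroup Q))⁆

/-- the projection `F/[R,F] → Q` -/
def proj : Ext Q →* Q :=
  QuotientGroup.lift _ (FreeGroup.lift (id : Q → Q)) (Subgroup.commutator_le_left _ _)

theorem proj_surjective : Function.Surjective (proj Q) := fun q =>
  ⟨QuotientGroup.mk (FreeGroup.of q), by simp [proj]⟩

theorem ker_proj_le_center : (proj Q).ker ≤ Subgroup.center (Ext Q) := by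
  intro x hx
  induction x using QuotientGroup.induction_on with
  | H a =>
    rw [Subgroup.mem_center_iff]
    intro y
    induction y using QuotientGroup.induction_on with
    | H b =>
      rw [← QuotientGroup.mk_mul, ← QuotientGroup.mk_mul, eq_comm, QuotientGroup.eq]
      have ha : a ∈ relKer Q := hx
      have := Subgroup.commutator_mem_commutator (inv_mem ha) (Subgroup.mem_top b⁻¹)
      rw [commutatorElement_def] at this
      convert inv_mem this using 1
      group

/-- the Schur multiplier as a subgroup of `Ext Q` -/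
abbrev mult : Subgroup (Ext Q) := (proj Q).ker ⊓ commutator (Ext Q)

theorem mult_le_ker : mult Q ≤ (proj Q).ker := inf_le_left

theorem mult_le_center : mult Q ≤ Subgroup.center (Ext Q) :=
  (mult_le_ker Q).trans (ker_proj_le_center Q)

theorem finite_commutatorSet_of_central {E : Type v} {G : Type w} [Group E] [Group G] [Finite G]
    (f : E →* G) (hf : f.ker ≤ Subgroup.center E) : Finite (commutatorSet E) := by
  let r : f.range → E := fun a => a.2.choose
  have hr : ∀ a, f (r a) = a.1 := fun a => a.2.choose_spec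
  refine Set.finite_coe_iff.2 (Set.Finite.subset (Set.finite_range
    (fun p : f.range × f.range => ⁅r p.1, r p.2⁆)) ?_)
  rintro _ ⟨a, b, rfl⟩
  have key : ∀ x : E, ∃ z ∈ Subgroup.center E, x = r ⟨f x, x, rfl⟩ * z := fun x =>
    ⟨(r ⟨f x, x, rfl⟩)⁻¹ * x, hf (by simp [MonoidHom.mem_ker, hr]), by group⟩
  obtain ⟨za, hza, ea⟩ := key a
  obtain ⟨zb, hzb, eb⟩ := key b
  refine ⟨(⟨f a, a, rfl⟩, ⟨f b, b, rfl⟩), ?_⟩
  dsimp only
  generalize r ⟨f a, a, rfl⟩ = A at ea
  generalize r ⟨f b, b, rfl⟩ = B at eb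
  subst ea eb
  rw [Subgroup.mem_center_iff] at hza hzb
  simp only [commutatorElement_def, mul_inv_rev]
  have h1 : za * B = B * za := (hza B).symm
  have h2 : zb * A⁻¹ = A⁻¹ * zb := (hzb _).symm
  calc A * B * A⁻¹ * B⁻¹ = A * B * (za * za⁻¹) * A⁻¹ * (zb * zb⁻¹) * B⁻¹ := by group
    _ = A * (B * za) * za⁻¹ * (A⁻¹ * zb) * zb⁻¹ * B⁻¹ := by group
    _ = A * za * (B * za⁻¹) * (zb * A⁻¹) * zb⁻¹ * B⁻¹ := by rw [← h1, ← h2]; group
    _ = _ := by
      have h3 : B * za⁻¹ * zb = B * zb * za⁻¹ := by
        rw [mul_assoc, hzb za⁻¹, ← mul_assoc]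
      rw [show A * za * (B * za⁻¹) * (zb * A⁻¹) = A * za * (B * za⁻¹ * zb) * A⁻¹ by group, h3]
      group

instance instFiniteCommutatorSetExt [Finite Q] : Finite (commutatorSet (Ext Q)) :=
  finite_commutatorSet_of_central (proj Q) (ker_proj_le_center Q)

instance instFiniteMult [Finite Q] : Finite (mult Q) :=
  Finite.of_injective (fun x : mult Q => (⟨x.1, x.2.2⟩ : commutator (Ext Q)))
    (fun a b h => Subtype.ext (congrArg (fun y : commutator (Ext Q) => (y : Ext Q)) h))

instance instCommGroupMult : CommGroup (mult Q) :=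
  { (inferInstance : Group (mult Q)) with
    mul_comm := fun a b => Subtype.ext
      ((Subgroup.mem_center_iff.1 (mult_le_center Q a.2)) b.1).symm }

/-! ### Lifting into central extensions -/

variable {Q}

theorem exists_lift {X : Type v} [Group X] (ξ : X →* Q) (hξ : Function.Surjective ξ)
    (hc : ξ.ker ≤ Subgroup.center X) : ∃ φ : Ext Q →* X, ξ.comp φ = proj Q := by
  let φ₀ : FreeGroup Q →* X := FreeGroup.lift (Function.surjInv hξ)
  have hφ₀ : ξ.comp φ₀ = FreeGroup.lift id :=
    FreeGroup.ext_hom _ _ fun q => by simp [φ₀, Function.surjInv_eq hξ]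
  refine ⟨QuotientGroup.lift _ φ₀ ?_, ?_⟩
  · rw [Subgroup.commutator_le]
    intro a ha b _
    have : φ₀ a ∈ Subgroup.center X := hc (by
      rw [MonoidHom.mem_ker, ← MonoidHom.comp_apply, hφ₀]; exact ha)
    rw [MonoidHom.mem_ker, map_commutatorElement, commutatorElement_eq_one_iff_mul_comm]
    exact (Subgroup.mem_center_iff.1 this _).symm
  · refine QuotientGroup.monoidHom_ext _ ?_
    rw [MonoidHom.comp_assoc]
    exact hφ₀

variable {X : Type v} [Group X] {ξ : X →* Q} {φ : Ext Q →* X}

theorem range_sup_ker_eq_top (h : ξ.comp φ = proj Q) : φ.range ⊔ ξ.ker = ⊤ := by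
  rw [eq_top_iff]
  intro x _
  obtain ⟨e, he⟩ := proj_surjective Q (ξ x)
  have : x = φ e * ((φ e)⁻¹ * x) := by group
  rw [this]
  refine Subgroup.mul_mem_sup ⟨e, rfl⟩ ?_
  rw [MonoidHom.mem_ker, map_mul, map_inv, ← MonoidHom.comp_apply, h, he, inv_mul_cancel]

/-- In a central extension the derived group is the derived group of any subgroup covering the quotient. -/
theorem commutator_eq_map_of_range_sup {E : Type w} [Group E] {G : Type v} [Group G] (φ : E →* G)
    (Z : Subgroup G) (hZ : Z ≤ Subgroup.center G) (h : φ.range ⊔ Z = ⊤) :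
    commutator G = (commutator E).map φ := by
  refine le_antisymm ?_ ?_
  · rw [commutator_def, Subgroup.commutator_le]
    intro a _ b _
    have hn : Z.Normal := ⟨fun n hn g => by
      rw [Subgroup.mem_center_iff.1 (hZ hn) g, mul_inv_cancel_right]; exact hn⟩
    have key : ∀ a : G, ∃ e z, z ∈ Z ∧ a = φ e * z := fun a => by
      have ha : a ∈ φ.range ⊔ Z := h ▸ Subgroup.mem_top a
      rw [← SetLike.mem_coe, Subgroup.mul_normal] at ha
      obtain ⟨_, ⟨e, rfl⟩, z, hz, rfl⟩ := Set.mem_mul.1 ha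
      exact ⟨e, z, hz, rfl⟩
    obtain ⟨ea, za, hza, rfl⟩ := key a
    obtain ⟨eb, zb, hzb, rfl⟩ := key b
    refine ⟨⁅ea, eb⁆, Subgroup.commutator_mem_commutator (Subgroup.mem_top _) (Subgroup.mem_top _), ?_⟩
    rw [map_commutatorElement]
    have h1 := Subgroup.mem_center_iff.1 (hZ hza)
    have h2 := Subgroup.mem_center_iff.1 (hZ hzb)
    simp only [commutatorElement_def, mul_inv_rev]
    calc φ ea * φ eb * (φ ea)⁻¹ * (φ eb)⁻¹
        = φ ea * (φ eb * za) * za⁻¹ * ((φ ea)⁻¹ * zb) * zb⁻¹ * (φ eb)⁻¹ := by group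
      _ = φ ea * za * (φ eb * za⁻¹ * zb) * (φ ea)⁻¹ * zb⁻¹ * (φ eb)⁻¹ := by
          rw [h1 (φ eb), h2 (φ ea)⁻¹]; group
      _ = _ := by
          rw [mul_assoc (φ eb) za⁻¹ zb, h2 za⁻¹]; group
  · rw [commutator_def, commutator_def, Subgroup.map_commutator]
    exact Subgroup.commutator_mono le_top le_top

/-- The kernel of any stem extension is the image of the multiplier. -/
theorem map_mult_eq_ker (h : ξ.comp φ = proj Q) (hc : ξ.ker ≤ Subgroup.center X)
    (hs : ξ.ker ≤ commutator X) : (mult Q).map φ = ξ.ker := by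
  refine le_antisymm ?_ ?_
  · rintro _ ⟨m, hm, rfl⟩
    rw [MonoidHom.mem_ker, ← MonoidHom.comp_apply, h]
    exact hm.1
  · intro z hz
    have := hs hz
    rw [commutator_eq_map_of_range_sup φ ξ.ker hc (range_sup_ker_eq_top h)] at this
    obtain ⟨c, hc', rfl⟩ := this
    refine ⟨c, ⟨?_, hc'⟩, rfl⟩
    show proj Q c = 1
    rw [← h]
    exact hz

theorem lift_surjective (h : ξ.comp φ = proj Q) (hc : ξ.ker ≤ Subgroup.center X)
    (hs : ξ.ker ≤ commutator X) : Function.Surjective φ := by
  rw [← MonoidHom.range_eq_top, eq_top_iff, ← range_sup_ker_eq_top h, sup_le_iff]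
  refine ⟨le_rfl, ?_⟩
  rw [← map_mult_eq_ker h hc hs]
  exact Subgroup.map_le_range _ _

/-- The restriction of a lift to the multiplier. -/
def multMap (h : ξ.comp φ = proj Q) : mult Q →* ξ.ker :=
  (φ.comp (mult Q).subtype).codRestrict ξ.ker fun m => by
    rw [MonoidHom.mem_ker, MonoidHom.comp_apply, ← MonoidHom.comp_apply, h]
    exact m.2.1

@[simp] theorem coe_multMap (h : ξ.comp φ = proj Q) (m : mult Q) :
    (multMap h m : X) = φ m := rfl

theorem multMap_surjective (h : ξ.comp φ = proj Q) (hc : ξ.ker ≤ Subgroup.center X)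
    (hs : ξ.ker ≤ commutator X) : Function.Surjective (multMap h) := fun z => by
  obtain ⟨m, hm, e⟩ := (map_mult_eq_ker h hc hs).ge z.2
  exact ⟨⟨m, hm⟩, Subtype.ext e⟩

theorem exists_mult_surj_ker {Γ : Type v} [Group Γ] (σ : Γ →* Q) (hσ : Cfsg.IsStemExtension σ) :
    ∃ π : mult Q →* σ.ker, Function.Surjective π := by
  obtain ⟨φ, h⟩ := exists_lift σ hσ.1 hσ.2.1
  exact ⟨multMap h, multMap_surjective h hσ.2.1 hσ.2.2⟩

/-! ### Covers -/

variable (Q) in
/-- The map to the free abelian group on `Q`; its kernel is the derived subgroup. -/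
def toFree : Ext Q →* Abelianization (FreeGroup Q) :=
  QuotientGroup.lift _ Abelianization.of (by
    rw [Abelianization.ker_of]; exact Subgroup.commutator_mono le_top le_top)

theorem ker_toFree : (toFree Q).ker = commutator (Ext Q) := by
  refine le_antisymm ?_ (Abelianization.commutator_subset_ker _)
  intro x hx
  induction x using QuotientGroup.induction_on with
  | H a =>
    have ha : a ∈ commutator (FreeGroup Q) := by rw [← Abelianization.ker_of]; exact hx
    have h2 := Subgroup.mem_map_of_mem (QuotientGroup.mk' ⁅relKer Q, (⊤ : Subgroup (FreeGroup Q))⁆) ha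
    rw [commutator_def, Subgroup.map_commutator] at h2
    exact Subgroup.commutator_mono le_top le_top h2

/-- A homomorphism `s` from the free abelian image of `ker (proj Q)` back into it. -/
theorem exists_section [Finite Q] {A : Type w} [CommGroup A] (f : (proj Q).ker →* A)
    (hf : ∀ a, ∃ m : mult Q, f ⟨m.1, m.2.1⟩ = a) :
    ∃ S : Subgroup (Ext Q), S ≤ (proj Q).ker ∧ S ⊓ commutator (Ext Q) = ⊥ ∧
      mult Q ⊔ S = (proj Q).ker ∧ ∀ x (hx : x ∈ (proj Q).ker), x ∈ S → f ⟨x, hx⟩ = 1 := by
  letI : CommGroup (proj Q).ker :=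
    { (inferInstance : Group (proj Q).ker) with
      mul_comm := fun a b => Subtype.ext
        ((Subgroup.mem_center_iff.1 (ker_proj_le_center Q a.2)) b.1).symm }
  let L : Additive (proj Q).ker →ₗ[ℤ] Additive (Abelianization (FreeGroup Q)) :=
    (MonoidHom.toAdditive ((toFree Q).comp (proj Q).ker.subtype)).toIntLinearMap
  have : Module.Finite ℤ (Additive (Abelianization (FreeGroup Q))) :=
    Module.Finite.of_basis (FreeAbelianGroup.basis Q)
  have : Module.Free ℤ (Additive (Abelianization (FreeGroup Q))) :=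
    Module.Free.of_basis (FreeAbelianGroup.basis Q)
  have : Module.Free ℤ L.range := inferInstance
  obtain ⟨s, hs⟩ := Module.projective_lifting_property L.rangeRestrict LinearMap.id
    L.surjective_rangeRestrict
  let fm : mult Q →* A := f.comp (Subgroup.inclusion (mult_le_ker Q))
  obtain ⟨t, ht⟩ := Module.projective_lifting_property (MonoidHom.toAdditive fm).toIntLinearMap
    (((MonoidHom.toAdditive f).toIntLinearMap).comp s) (by
      intro a; obtain ⟨m, hm⟩ := hf (Additive.toMul a); exact ⟨Additive.ofMul m, hm⟩)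
  let r : Multiplicative L.range →* Ext Q :=
    { toFun := fun v => ((Additive.toMul (s v.toAdd) : (proj Q).ker) : Ext Q) *
        ((Additive.toMul (t v.toAdd) : mult Q) : Ext Q)⁻¹
      map_one' := by simp
      map_mul' := fun a b => by
        simp only [toAdd_mul, map_add, toMul_add, Subgroup.coe_mul, mul_inv_rev]
        generalize hS1 : ((Additive.toMul (s a.toAdd) : (proj Q).ker) : Ext Q) = S1
        generalize hS2 : ((Additive.toMul (s b.toAdd) : (proj Q).ker) : Ext Q) = S2
        generalize hT1 : ((Additive.toMul (t a.toAdd) : mult Q) : Ext Q) = T1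
        generalize hT2 : ((Additive.toMul (t b.toAdd) : mult Q) : Ext Q) = T2
        have c1 : T1⁻¹ ∈ Subgroup.center (Ext Q) := inv_mem (hT1 ▸ mult_le_center Q (Subtype.prop _))
        rw [Subgroup.mem_center_iff] at c1
        calc S1 * S2 * (T2⁻¹ * T1⁻¹) = S1 * (S2 * T2⁻¹ * T1⁻¹) := by group
          _ = S1 * (T1⁻¹ * (S2 * T2⁻¹)) := by rw [c1 (S2 * T2⁻¹)]
          _ = _ := by group }
  have hrk : ∀ v, r v ∈ (proj Q).ker := fun v =>
    mul_mem (Subtype.prop _) (inv_mem (mult_le_ker Q (Subtype.prop _)))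
  have htf : ∀ v : Multiplicative L.range,
      toFree Q (r v) = Additive.toMul (Multiplicative.toAdd v).1 := fun v => by
    have hm : toFree Q ((Additive.toMul (t v.toAdd) : mult Q) : Ext Q) = 1 :=
      (ker_toFree (Q := Q)).ge (Subtype.prop (Additive.toMul (t v.toAdd) : mult Q)).2
    show toFree Q (_ * _) = _
    rw [map_mul, map_inv, hm, inv_one, mul_one]
    exact congrArg Subtype.val (LinearMap.congr_fun hs v.toAdd)
  refine ⟨r.range, ?_, ?_, ?_, ?_⟩
  · rintro _ ⟨v, rfl⟩; exact hrk v
  · rw [Subgroup.eq_bot_iff_forall]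
    rintro _ ⟨⟨v, rfl⟩, hv⟩
    have hv' : toFree Q (r v) = 1 := (ker_toFree (Q := Q)).ge hv
    rw [htf v] at hv'
    rw [show v = 1 from Subtype.ext hv', map_one]
  · refine le_antisymm (sup_le (mult_le_ker Q) (by rintro _ ⟨v, rfl⟩; exact hrk v)) ?_
    intro x hx
    let v : Multiplicative L.range :=
      Multiplicative.ofAdd ⟨L (Additive.ofMul ⟨x, hx⟩), ⟨_, rfl⟩⟩
    have : x = x * (r v)⁻¹ * r v := by group
    rw [this]
    refine Subgroup.mul_mem_sup (Subgroup.mem_inf.2 ⟨mul_mem hx (inv_mem (hrk v)), (ker_toFree (Q := Q)).le ?_⟩) ⟨v, rfl⟩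
    rw [MonoidHom.mem_ker, map_mul, map_inv, htf v]
    exact mul_inv_cancel _
  · rintro _ hx ⟨v, rfl⟩
    have e : (⟨r v, hx⟩ : (proj Q).ker) = (Additive.toMul (s v.toAdd) : (proj Q).ker) *
        (Subgroup.inclusion (mult_le_ker Q) (Additive.toMul (t v.toAdd)))⁻¹ := rfl
    rw [e, map_mul, map_inv]
    have := LinearMap.congr_fun ht v.toAdd
    have h' : fm (Additive.toMul (t v.toAdd)) = f (Additive.toMul (s v.toAdd)) := this
    exact mul_inv_eq_one.2 h'.symm

variable (Q) in
/-- A subgroup complementary to the multiplier inside the kernel of `proj Q`. -/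
structure Compl where
  S : Subgroup (Ext Q)
  le_ker : S ≤ (proj Q).ker
  inf_eq : S ⊓ commutator (Ext Q) = ⊥
  sup_eq : mult Q ⊔ S = (proj Q).ker

namespace Compl

variable (C : Compl Q)

theorem normal : C.S.Normal :=
  ⟨fun n hn g => by
    rw [Subgroup.mem_center_iff.1 (ker_proj_le_center Q (C.le_ker hn)) g, mul_inv_cancel_right]
    exact hn⟩

instance instNormal : C.S.Normal := C.normal

/-- The cover attached to a complement. -/
abbrev Cover : Type u := Ext Q ⧸ C.S

def coverMap : C.Cover →* Q := QuotientGroup.lift _ (proj Q) C.le_ker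

theorem coverMap_comp : C.coverMap.comp (QuotientGroup.mk' C.S) = proj Q := rfl

theorem ker_coverMap : C.coverMap.ker = (mult Q).map (QuotientGroup.mk' C.S) := by
  rw [coverMap, QuotientGroup.ker_lift, ← C.sup_eq, Subgroup.map_sup]
  simp

theorem isStem : Cfsg.IsStemExtension C.coverMap := by
  refine ⟨QuotientGroup.lift_surjective_of_surjective _ _ (proj_surjective Q) C.le_ker, ?_, ?_⟩
  · rw [C.ker_coverMap]
    refine le_trans (Subgroup.map_mono (mult_le_center Q)) ?_
    rintro _ ⟨z, hz, rfl⟩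
    rw [Subgroup.mem_center_iff]
    intro y
    obtain ⟨y, rfl⟩ := QuotientGroup.mk'_surjective C.S y
    rw [← map_mul, ← map_mul, Subgroup.mem_center_iff.1 hz]
  · rw [C.ker_coverMap]
    refine le_trans (Subgroup.map_mono inf_le_right) ?_
    rw [commutator_def, commutator_def, Subgroup.map_commutator]
    exact Subgroup.commutator_mono le_top le_top

noncomputable def kerEquiv : mult Q ≃* C.coverMap.ker :=
  MulEquiv.ofBijective (multMap C.coverMap_comp) ⟨by
    rw [injective_iff_map_eq_one]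
    intro m hm
    have : (m : Ext Q) ∈ C.S ⊓ commutator (Ext Q) :=
      ⟨(QuotientGroup.eq_one_iff _).1 (congrArg Subtype.val hm), m.2.2⟩
    rw [C.inf_eq] at this
    exact Subtype.ext this,
    multMap_surjective C.coverMap_comp C.isStem.2.1 C.isStem.2.2⟩

theorem finite_cover [Finite Q] : Finite C.Cover := by
  have : Finite C.coverMap.ker := Finite.of_equiv _ C.kerEquiv.toEquiv
  have : Finite (C.Cover ⧸ C.coverMap.ker) :=
    Finite.of_injective _ (QuotientGroup.kerLift_injective C.coverMap)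
  exact Finite.of_subgroup_quotient C.coverMap.ker

end Compl

theorem exists_compl [Finite Q] : Nonempty (Compl Q) := by
  obtain ⟨S, h1, h2, h3, -⟩ := exists_section (Q := Q) (A := PUnit.{1}) 1 (fun a => ⟨1, rfl⟩)
  exact ⟨⟨S, h1, h2, h3⟩⟩

/-- Every stem extension is a quotient of some cover. -/
theorem exists_compl_of_stem [Finite Q] {Δ : Type v} [Group Δ] (τ : Δ →* Q)
    (hτ : Cfsg.IsStemExtension τ) :
    ∃ (C : Compl Q) (β : C.Cover →* Δ), Function.Surjective β ∧ τ.comp β = C.coverMap := by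
  obtain ⟨φ, h⟩ := exists_lift τ hτ.1 hτ.2.1
  letI : CommGroup τ.ker :=
    { (inferInstance : Group τ.ker) with
      mul_comm := fun a b => Subtype.ext
        ((Subgroup.mem_center_iff.1 (hτ.2.1 a.2)) b.1).symm }
  let f : (proj Q).ker →* τ.ker := (φ.comp (proj Q).ker.subtype).codRestrict τ.ker fun m => by
    rw [MonoidHom.mem_ker, MonoidHom.comp_apply, ← MonoidHom.comp_apply, h]
    exact m.2
  obtain ⟨S, h1, h2, h3, h4⟩ := exists_section f fun a => by
    obtain ⟨m, hm⟩ := multMap_surjective h hτ.2.1 hτ.2.2 a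
    exact ⟨m, Subtype.ext (congrArg Subtype.val hm)⟩
  let C : Compl Q := ⟨S, h1, h2, h3⟩
  haveI : S.Normal := C.normal
  haveI := C.normal
  refine ⟨C, QuotientGroup.lift C.S φ (fun x hx => congrArg Subtype.val (h4 x (h1 hx) hx)),
    QuotientGroup.lift_surjective_of_surjective _ _ (lift_surjective h hτ.2.1 hτ.2.2) _, ?_⟩
  exact QuotientGroup.monoidHom_ext _ h

variable (Q) in
theorem hasSchurMultiplier_mult [Finite Q] : Cfsg.HasSchurMultiplier Q (mult Q) := by
  obtain ⟨C⟩ := exists_compl (Q := Q)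
  exact ⟨⟨C.Cover, inferInstance, C.finite_cover, C.coverMap, C.isStem, ⟨C.kerEquiv.symm⟩⟩,
    fun Γ _ _ σ hσ => exists_mult_surj_ker σ hσ⟩

end CfsgLib.Schur
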