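import Mathlib
import Cfsg.Agent.Lib.Schur.CertVectors

/-!
# Trie lookup by the recursor

Structural recursion is costly for the kernel; the recursor is several times cheaper.
-/

set_option autoImplicit false

namespace CfsgLib.Schur.Cert

/-- lookup in a trie, written with the recursor -/
noncomputable def Trie.getK {α : Type} (t : Trie α) : ℕ → α :=
  Trie.rec (motive := fun _ => ℕ → α) (fun a _ => a)
    (fun _ _ gl gr i => Bool.rec (gr (Nat.div i 2)) (gl (Nat.div i 2)) (Nat.beq (Nat.mod i 2) 0)) t

end CfsgLib.Schur.Cert
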