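import Mathlib
import Cfsg.Agent.Lib.Schur.PermChain
import Cfsg.Agent.Lib.Schur.TrieFast

/-!
# Checks of chains and of linear algebra, cut into parts

A check over a range is split into intervals, so that each piece is a small computation for the kernel.
-/

set_option autoImplicit false

namespace CfsgLib.Schur.Cert

open CfsgLib.Sporadic

/-- a check on an interval -/
def allFrom (p : ℕ → Bool) (a b : ℕ) : Bool := (List.range (b - a)).all fun i => p (a + i)

/-- adjacent intervals join -/
theorem allFrom_trans {p : ℕ → Bool} {a b c : ℕ} (h1 : allFrom p a b = true) (h2 : allFrom p b c = true) :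
    allFrom p a c = true := by
  simp only [allFrom, List.all_eq_true, List.mem_range] at h1 h2 ⊢
  intro i hi
  by_cases h : a + i < b
  · exact h1 i (by omega)
  · have := h2 (a + i - b) (by omega)
    rwa [show b + (a + i - b) = a + i by omega] at this

/-- the whole range -/
theorem all_range_of_allFrom {p : ℕ → Bool} {n : ℕ} (h : allFrom p 0 n = true) : (List.range n).all p = true := by
  simpa [allFrom] using h

/-- a list check by positions -/
theorem all_of_allFrom {α : Type*} {p : α → Bool} {L : List α} (d : α)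
    (h : allFrom (fun i => p (L.getD i d)) 0 L.length = true) : L.all p = true := by
  simp only [allFrom, List.all_eq_true, List.mem_range] at h ⊢
  intro x hx
  obtain ⟨i, hi, rfl⟩ := List.getElem_of_mem hx
  have := h i (by omega)
  rwa [Nat.zero_add, List.getD_eq_getElem _ _ hi] at this

/-! ### Machines written with recursors

The kernel reduces recursors much faster than structural recursion. -/

/-- pass on a number in normal form -/
noncomputable def forceNK {α : Type} (n : ℕ) (f : ℕ → α) : α := Nat.rec (f 0) (fun m _ => f (Nat.add m 1)) n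

/-- pass on an integer in normal form -/
noncomputable def forceIK {α : Type} (n : ℤ) (f : ℤ → α) : α :=
  Int.rec (fun m => forceNK m fun m => f (Int.ofNat m)) (fun m => forceNK m fun m => f (Int.negSucc m)) n

theorem forceNK_eq {α : Type} (n : ℕ) (f : ℕ → α) : forceNK n f = f n := by cases n <;> rfl

theorem forceIK_eq {α : Type} (n : ℤ) (f : ℤ → α) : forceIK n f = f n := by
  cases n <;> simp [forceIK, forceNK_eq]

/-! ### Tables -/

/-- the side conditions of a level without its edges and relations -/
def shapeHead (l : ChainLevel) (ls : List ChainLevel) (h : List Word) : Bool :=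
  let g := nextWords h l
  decide (l.table.ngen = h.length) && (l.gexp == h.map (wexp vunit)) && decide (l.table.innerSize = chainSize ls) &&
    decide (l.table.innerGen = chainGen ls) && decide (g.length = chainGen ls) && l.table.baseOK

/-- a relation of a level comes from the top -/
def shapeRel (rels : List Word) (l : ChainLevel) (h : List Word) (i : ℕ) : Bool :=
  let g := nextWords h l
  relTop rels (fun j => h.getD j []) (fun j => g.getD j []) (l.table.rels.getD i ⟨[], [], []⟩)

/-- the edges at a vertex -/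
def shapeRow (rows : List Vec) (l : ChainLevel) (ls : List ChainLevel) (v : ℕ) : Bool :=
  (List.range l.table.ngen).all fun x =>
    l.table.edgeOK (fun j => l.gexp.getD j []) (fun j => (chainExp ls).getD j []) rows v x

/-- a level from its parts -/
theorem shapeOK_of_parts {rels : List Word} {rows : List Vec} {l : ChainLevel} {ls : List ChainLevel}
    {h : List Word} (hhead : shapeHead l ls h = true)
    (hrel : allFrom (shapeRel rels l h) 0 l.table.rels.length = true)
    (hrow : allFrom (shapeRow rows l ls) 0 l.table.size = true) : shapeOK rels rows l ls h = true := by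
  have hrow' : ((List.range l.table.size).all fun v => (List.range l.table.ngen).all fun x =>
      l.table.edgeOK (fun j => l.gexp.getD j []) (fun j => (chainExp ls).getD j []) rows v x) = true :=
    all_range_of_allFrom hrow
  have hrel' : (l.table.rels.all fun r => relTop rels (fun j => h.getD j [])
      (fun j => (nextWords h l).getD j []) r) = true := all_of_allFrom ⟨[], [], []⟩ hrel
  simp only [shapeHead, shapeOK, Bool.and_eq_true] at hhead ⊢
  exact ⟨⟨hhead, hrel'⟩, hrow'⟩

/-! ### Packed vectors

A vector is read as a number to a large base; with a bound on the sum of absolute values this is injective. -/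

/-- the base -/
def pkBase : ℕ := Nat.pow 2 64

/-- a vector as one integer -/
noncomputable def pk (v : Vec) : ℤ := List.rec (motive := fun _ => ℤ) 0 (fun a _ ih => Int.add a (Int.mul (Int.ofNat pkBase) ih)) v

/-- the sum of absolute values -/
noncomputable def nrm (v : Vec) : ℕ := List.rec (motive := fun _ => ℕ) 0 (fun a _ ih => Nat.add a.natAbs ih) v

theorem pk_nil : pk [] = 0 := rfl

theorem nrm_nil : nrm [] = 0 := rfl

theorem pk_vadd : ∀ v w : Vec, pk (vadd v w) = pk v + pk w
  | [], w => by simp [vadd, pk_nil]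
  | a :: v, [] => by simp [vadd, pk_nil]
  | a :: v, b :: w => by
    show (a + b) + (pkBase : ℤ) * pk (vadd v w) = (a + (pkBase : ℤ) * pk v) + (b + (pkBase : ℤ) * pk w)
    rw [pk_vadd v w]; ring

theorem nrm_vadd : ∀ v w : Vec, nrm (vadd v w) ≤ nrm v + nrm w
  | [], w => by simp [vadd]
  | a :: v, [] => by simp [vadd]
  | a :: v, b :: w => by
    have := nrm_vadd v w
    have := Int.natAbs_add_le a b
    show (a + b).natAbs + nrm (vadd v w) ≤ (a.natAbs + nrm v) + (b.natAbs + nrm w)
    omega

theorem pk_vneg : ∀ v : Vec, pk (vneg v) = -pk v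
  | [] => by simp [vneg, pk_nil]
  | a :: v => by
    show -a + (pkBase : ℤ) * pk (vneg v) = -(a + (pkBase : ℤ) * pk v)
    rw [pk_vneg v]; ring

theorem nrm_vneg : ∀ v : Vec, nrm (vneg v) = nrm v
  | [] => rfl
  | a :: v => by
    show (-a).natAbs + nrm (vneg v) = a.natAbs + nrm v
    rw [nrm_vneg v, Int.natAbs_neg]

theorem vzero_of_pk : ∀ v : Vec, pk v = 0 → nrm v < pkBase → vzero v = true
  | [], _, _ => rfl
  | a :: v, h, hn => by
    replace h : a + (pkBase : ℤ) * pk v = 0 := h
    replace hn : a.natAbs + nrm v < pkBase := hn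
    have hd : (pkBase : ℤ) ∣ a := ⟨-pk v, by linarith⟩
    have ha : a = 0 := Int.eq_zero_of_dvd_of_natAbs_lt_natAbs hd (by rw [Int.natAbs_natCast]; omega)
    subst ha
    have hv : pk v = 0 := by
      rw [zero_add] at h
      exact (mul_eq_zero.mp h).resolve_left (Int.natCast_ne_zero.2 (by omega))
    simpa [vzero] using vzero_of_pk v hv (by omega)

theorem veq_of_pk {v w : Vec} (h : pk v = pk w) (hn : nrm v + nrm w < pkBase) : veq v w = true := by
  refine vzero_of_pk _ ?_ ?_
  · rw [pk_vadd, pk_vneg, h, add_neg_cancel]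
  · have := nrm_vadd v (vneg w)
    rw [nrm_vneg] at this
    omega

/-- a machine on packed vectors: state, number and bound -/
abbrev PMachine := ℕ → ℕ × Bool → ℕ × ℤ × ℕ

/-- running a packed machine along a word -/
noncomputable def mrunP (F : PMachine) (w : Word) : ℕ → ℕ × ℤ × ℕ :=
  List.rec (motive := fun _ => ℕ → ℕ × ℤ × ℕ) (fun i => (i, 0, 0))
    (fun l _ ih i => forceNK (F i l).1 fun j => forceNK (ih j).1 fun s =>
      forceIK (Int.add (F i l).2.1 (ih j).2.1) fun p => forceNK (Nat.add (F i l).2.2 (ih j).2.2) fun q => (s, p, q)) w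

/-- the packed values of the edges of a table, at position `ngen * g + x` -/
abbrev Pack := Trie (ℤ × ℕ)

/-- a packed copy agrees with the table -/
noncomputable def packOK (T : Table) (P : Pack) : Bool :=
  forallLt T.size fun g => forallLt T.ngen fun x =>
    decide ((P.getK (Nat.add (Nat.mul T.ngen g) x)).1 = pk (T.val g x)) &&
      Nat.ble (nrm (T.val g x)) (P.getK (Nat.add (Nat.mul T.ngen g) x)).2

/-- the packed copies of all tables -/
noncomputable def packsOK (ls : List ChainLevel) : List Pack → Bool :=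
  List.rec (motive := fun _ => List Pack → Bool) (fun _ => true)
    (fun l _ ih ps => packOK l.table (ps.headD (.leaf (0, 0))) && ih ps.tail) ls

/-- the packed value of an edge, looked up inside the table -/
noncomputable def edgeVP (T : Table) (P : Pack) (e x : ℕ) : ℤ :=
  Bool.rec (pk (T.val e x)) (P.getK (Nat.add (Nat.mul T.ngen e) x)).1 (Nat.blt e T.size && Nat.blt x T.ngen)

/-- a bound for the value of an edge -/
noncomputable def edgeVN (T : Table) (P : Pack) (e x : ℕ) : ℕ :=
  Bool.rec (nrm (T.val e x)) (P.getK (Nat.add (Nat.mul T.ngen e) x)).2 (Nat.blt e T.size && Nat.blt x T.ngen)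

/-- the packed value of a letter -/
noncomputable def valVP (T : Table) (P : Pack) (g : ℕ) (l : ℕ × Bool) : ℤ :=
  forceNK (T.edgeV g l) fun e => Bool.rec (Int.neg (edgeVP T P e l.1)) (edgeVP T P e l.1) l.2

/-- a bound for the value of a letter -/
noncomputable def valVN (T : Table) (P : Pack) (g : ℕ) (l : ℕ × Bool) : ℕ :=
  forceNK (T.edgeV g l) fun e => edgeVN T P e l.1

theorem edge_pack {T : Table} {P : Pack} (h : packOK T P = true) (e x : ℕ) :
    edgeVP T P e x = pk (T.val e x) ∧ nrm (T.val e x) ≤ edgeVN T P e x := by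
  unfold edgeVP edgeVN
  cases hb : (Nat.blt e T.size && Nat.blt x T.ngen)
  · exact ⟨rfl, le_refl _⟩
  · simp only [Bool.and_eq_true, Nat.blt_eq] at hb
    have := forallLt_elim (forallLt_elim h hb.1) hb.2
    simp only [Bool.and_eq_true, decide_eq_true_eq, Nat.ble_eq] at this
    exact this

theorem valV_pack {T : Table} {P : Pack} (h : packOK T P = true) (g : ℕ) (l : ℕ × Bool) :
    valVP T P g l = pk (T.valV g l) ∧ nrm (T.valV g l) ≤ valVN T P g l := by
  obtain ⟨x, s⟩ := l
  obtain ⟨k1, k2⟩ := edge_pack h (T.edgeV g (x, s)) x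
  simp only [valVP, valVN, forceNK_eq, k1]
  cases s
  · exact ⟨(pk_vneg _).symm, (nrm_vneg _).le.trans k2⟩
  · exact ⟨rfl, k2⟩

/-- the packed machine of a table -/
noncomputable def machineP (T : Table) (P : Pack) (F : PMachine) : PMachine := fun idx l =>
  forceNK (Nat.div idx T.innerSize) fun g => forceNK (Nat.mod idx T.innerSize) fun i =>
    forceNK (Nat.add (Nat.mul (T.stepV g l) T.innerSize) (mrunP F (T.labV g l) i).1) fun s =>
      forceIK (Int.add (mrunP F (T.labV g l) i).2.1 (valVP T P g l)) fun p =>
        forceNK (Nat.add (mrunP F (T.labV g l) i).2.2 (valVN T P g l)) fun q => (s, p, q)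

/-- the packed machine of a chain -/
noncomputable def chainMachineP (ls : List ChainLevel) : List Pack → PMachine :=
  List.rec (motive := fun _ => List Pack → PMachine) (fun _ _ _ => (0, 0, 0))
    (fun l _ ih ps => machineP l.table (ps.headD (.leaf (0, 0))) (ih ps.tail)) ls

/-- a packed machine follows a machine -/
def Packs (f : Machine) (F : PMachine) : Prop :=
  ∀ i l, (F i l).1 = (f i l).1 ∧ (F i l).2.1 = pk (f i l).2 ∧ nrm (f i l).2 ≤ (F i l).2.2

theorem mrunP_cons (F : PMachine) (l : ℕ × Bool) (w : Word) (i : ℕ) :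
    mrunP F (l :: w) i = ((mrunP F w (F i l).1).1, (F i l).2.1 + (mrunP F w (F i l).1).2.1,
      (F i l).2.2 + (mrunP F w (F i l).1).2.2) := by
  show forceNK (F i l).1 (fun j => forceNK (mrunP F w j).1 fun s =>
    forceIK (Int.add (F i l).2.1 (mrunP F w j).2.1) fun p => forceNK (Nat.add (F i l).2.2 (mrunP F w j).2.2) fun q => (s, p, q)) = _
  simp only [forceNK_eq, forceIK_eq]
  rfl

theorem mrunP_spec {f : Machine} {F : PMachine} (h : Packs f F) : ∀ (w : Word) (i : ℕ),
    (mrunP F w i).1 = (mrun f w i).1 ∧ (mrunP F w i).2.1 = pk (mrun f w i).2 ∧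
      nrm (mrun f w i).2 ≤ (mrunP F w i).2.2
  | [], i => ⟨rfl, rfl, Nat.zero_le _⟩
  | l :: w, i => by
    obtain ⟨h1, h2, h3⟩ := h i l
    obtain ⟨k1, k2, k3⟩ := mrunP_spec h w (f i l).1
    simp only [mrunP_cons, mrun, forceN_eq, forceV_eq, h1]
    exact ⟨k1, by rw [pk_vadd, h2, k2], (nrm_vadd _ _).trans (Nat.add_le_add h3 k3)⟩

theorem packs_chain : ∀ (ls : List ChainLevel) (ps : List Pack), packsOK ls ps = true →
    Packs (chainMachine ls) (chainMachineP ls ps)
  | [], _, _ => fun i l => ⟨rfl, rfl, Nat.zero_le _⟩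
  | c :: ls, ps, h => fun idx l => by
    replace h : (packOK c.table (ps.headD (.leaf (0, 0))) && packsOK ls ps.tail) = true := h
    rw [Bool.and_eq_true] at h
    obtain ⟨h1, h2, h3⟩ := mrunP_spec (packs_chain ls ps.tail h.2) (c.table.labV (idx / c.table.innerSize) l)
      (idx % c.table.innerSize)
    obtain ⟨v1, v2⟩ := valV_pack h.1 (idx / c.table.innerSize) l
    have e : chainMachineP (c :: ls) ps idx l =
        machineP c.table (ps.headD (.leaf (0, 0))) (chainMachineP ls ps.tail) idx l := rfl
    rw [e]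
    simp only [machineP, forceNK_eq, forceIK_eq, chainMachine, Table.machine, forceN_eq, forceV_eq]
    refine ⟨congrArg (fun x => c.table.stepV (idx / c.table.innerSize) l * c.table.innerSize + x) h1, ?_,
      (nrm_vadd _ _).trans (Nat.add_le_add h3 v2)⟩
    refine Eq.trans ?_ (pk_vadd _ _).symm
    exact congrArg₂ (· + ·) h2 v1

/-- the end of a path -/
noncomputable def endP (T : Table) (w : Word) : ℕ → ℕ :=
  List.rec (motive := fun _ => ℕ → ℕ) (fun g => g) (fun l _ ih g => forceNK (T.stepV g l) fun g' => ih g') w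

/-- the labels on a path -/
noncomputable def labP (T : Table) (w : Word) : ℕ → Word :=
  List.rec (motive := fun _ => ℕ → Word) (fun _ => []) (fun l _ ih g => forceNK (T.stepV g l) fun g' => T.labV g l ++ ih g') w

/-- the packed vector on a path -/
noncomputable def valP (T : Table) (P : Pack) (w : Word) : ℕ → ℤ :=
  List.rec (motive := fun _ => ℕ → ℤ) (fun _ => 0)
    (fun l _ ih g => forceNK (T.stepV g l) fun g' => forceIK (ih g') fun p => Int.add (valVP T P g l) p) w

/-- a bound for the vector on a path -/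
noncomputable def valN (T : Table) (P : Pack) (w : Word) : ℕ → ℕ :=
  List.rec (motive := fun _ => ℕ → ℕ) (fun _ => 0)
    (fun l _ ih g => forceNK (T.stepV g l) fun g' => Nat.add (valVN T P g l) (ih g')) w

theorem endP_cons (T : Table) (l : ℕ × Bool) (w : Word) (g : ℕ) : endP T (l :: w) g = endP T w (T.stepV g l) :=
  forceNK_eq (T.stepV g l) fun g' => endP T w g'

theorem labP_cons (T : Table) (l : ℕ × Bool) (w : Word) (g : ℕ) :
    labP T (l :: w) g = T.labV g l ++ labP T w (T.stepV g l) :=
  forceNK_eq (T.stepV g l) fun g' => T.labV g l ++ labP T w g'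

theorem valP_cons (T : Table) (P : Pack) (l : ℕ × Bool) (w : Word) (g : ℕ) :
    valP T P (l :: w) g = valVP T P g l + valP T P w (T.stepV g l) :=
  (forceNK_eq (T.stepV g l) fun g' => forceIK (valP T P w g') fun p => Int.add (valVP T P g l) p).trans
    (forceIK_eq _ _)

theorem valN_cons (T : Table) (P : Pack) (l : ℕ × Bool) (w : Word) (g : ℕ) :
    valN T P (l :: w) g = valVN T P g l + valN T P w (T.stepV g l) :=
  forceNK_eq (T.stepV g l) fun g' => Nat.add (valVN T P g l) (valN T P w g')

theorem path_spec {T : Table} {P : Pack} (hP : packOK T P = true) : ∀ (w : Word) (g : ℕ),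
    (T.trace w g).1 = endP T w g ∧ (T.trace w g).2.1 = labP T w g ∧
      pk (T.trace w g).2.2 = valP T P w g ∧ nrm (T.trace w g).2.2 ≤ valN T P w g
  | [], g => ⟨rfl, rfl, rfl, le_refl _⟩
  | l :: w, g => by
    obtain ⟨h1, h2, h3, h4⟩ := path_spec hP w (T.stepV g l)
    obtain ⟨v1, v2⟩ := valV_pack hP g l
    simp only [Table.trace, forceN_eq, forceV_eq, endP_cons, labP_cons, valP_cons, valN_cons]
    exact ⟨h1, by rw [h2], by rw [pk_vadd, h3, v1], le_trans (nrm_vadd _ _) (Nat.add_le_add v2 h4)⟩

/-- a deduction of a level, on packed vectors -/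
noncomputable def dedAt (l : ChainLevel) (P : Pack) (ls : List ChainLevel) (ps : List Pack) (i : ℕ) : Bool :=
  let T := l.table
  let c := T.cert i
  let r := T.relAt c.1
  let u := r.word.take c.2.2
  let m := r.word.getD c.2.2 (0, false)
  let e := endP T u c.2.1
  let g' := T.stepV e m
  let u' := r.word.drop (c.2.2 + 1)
  T.relOK c.1 c.2.1 && decide (c.2.2 < r.word.length) && (r.rhs.all fun m => decide (m.1 < T.innerGen)) &&
    T.rank (T.edgeV e m) m.1 == i + 1 && T.known (i + 1) u c.2.1 &&
    T.known (i + 1) u' g' && endP T u' g' == c.2.1 &&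
    (let q := mrunP (chainMachineP ls ps) (labP T u c.2.1 ++ (T.labV e m ++ (labP T u' g' ++ winv r.rhs))) 0
     Nat.beq q.1 0 && decide (q.2.1 + valP T P u c.2.1 + valVP T P e m + valP T P u' g' = pk r.vec) &&
       Nat.blt (q.2.2 + valN T P u c.2.1 + valVN T P e m + valN T P u' g' + nrm r.vec) pkBase)

/-- an equation of a level, on packed vectors -/
noncomputable def eqnAt (l : ChainLevel) (P : Pack) (ls : List ChainLevel) (ps : List Pack) (i : ℕ) : Bool :=
  let T := l.table
  let e := l.eqs.getD i (0, 0, [])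
  let r := T.relAt e.1
  T.relOK e.1 e.2.1 && (r.rhs.all fun m => decide (m.1 < T.innerGen)) && endP T r.word e.2.1 == e.2.1 &&
    (let q := mrunP (chainMachineP ls ps) (labP T r.word e.2.1 ++ winv r.rhs) 0
     Nat.beq q.1 0 && decide (q.2.1 + valP T P r.word e.2.1 = pk r.vec + pk e.2.2) &&
       Nat.blt (q.2.2 + valN T P r.word e.2.1 + nrm r.vec + nrm e.2.2) pkBase)

theorem dedAt_sound (l : ChainLevel) {P : Pack} (ls : List ChainLevel) {ps : List Pack}
    (hP : packOK l.table P = true) (hps : packsOK ls ps = true) (i : ℕ) (h : dedAt l P ls ps i = true) :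
    l.table.dedOK (chainMachine ls) i = true := by
  simp only [dedAt, Bool.and_eq_true] at h
  obtain ⟨⟨⟨⟨⟨⟨⟨h1, h2⟩, h3⟩, h4⟩, h5⟩, h6⟩, h7⟩, h8⟩ := h
  obtain ⟨hs, hpk, hq⟩ := mrunP_spec (packs_chain ls ps hps)
    (labP l.table ((l.table.relAt (l.table.cert i).1).word.take (l.table.cert i).2.2) (l.table.cert i).2.1 ++
      (l.table.labV (endP l.table ((l.table.relAt (l.table.cert i).1).word.take (l.table.cert i).2.2) (l.table.cert i).2.1)
        ((l.table.relAt (l.table.cert i).1).word.getD (l.table.cert i).2.2 (0, false)) ++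
      (labP l.table ((l.table.relAt (l.table.cert i).1).word.drop ((l.table.cert i).2.2 + 1))
        (l.table.stepV (endP l.table ((l.table.relAt (l.table.cert i).1).word.take (l.table.cert i).2.2) (l.table.cert i).2.1)
          ((l.table.relAt (l.table.cert i).1).word.getD (l.table.cert i).2.2 (0, false))) ++
        winv (l.table.relAt (l.table.cert i).1).rhs))) 0
  obtain ⟨p1, p2, p3, p4⟩ := path_spec hP ((l.table.relAt (l.table.cert i).1).word.take (l.table.cert i).2.2)
    (l.table.cert i).2.1
  simp only [Table.dedOK, Bool.and_eq_true, p1, p2]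
  obtain ⟨s1, s2, s3, s4⟩ := path_spec hP ((l.table.relAt (l.table.cert i).1).word.drop ((l.table.cert i).2.2 + 1))
    (l.table.stepV (endP l.table ((l.table.relAt (l.table.cert i).1).word.take (l.table.cert i).2.2) (l.table.cert i).2.1)
      ((l.table.relAt (l.table.cert i).1).word.getD (l.table.cert i).2.2 (0, false)))
  rw [s1, s2]
  simp only [Bool.and_eq_true, Nat.beq_eq, decide_eq_true_eq, Nat.blt_eq, hs, hpk] at h8
  obtain ⟨⟨hj, hp⟩, hb⟩ := h8
  obtain ⟨v1, v2⟩ := valV_pack hP (endP l.table ((l.table.relAt (l.table.cert i).1).word.take (l.table.cert i).2.2) (l.table.cert i).2.1)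
      ((l.table.relAt (l.table.cert i).1).word.getD (l.table.cert i).2.2 (0, false))
  refine ⟨⟨⟨⟨⟨⟨⟨⟨h1, h2⟩, h3⟩, h4⟩, h5⟩, h6⟩, h7⟩, by rw [hj]; rfl⟩, veq_of_pk ?_ ?_⟩
  · rw [pk_vadd, pk_vadd, pk_vadd, p3, s3, ← hp, v1]; ring
  · refine lt_of_le_of_lt (Nat.add_le_add_right ((nrm_vadd _ _).trans (Nat.add_le_add hq
      ((nrm_vadd _ _).trans (Nat.add_le_add ((nrm_vadd _ _).trans (Nat.add_le_add p4 v2)) s4)))) _) ?_
    omega

theorem eqnAt_sound (l : ChainLevel) {P : Pack} (ls : List ChainLevel) {ps : List Pack}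
    (hP : packOK l.table P = true) (hps : packsOK ls ps = true) (i : ℕ) (h : eqnAt l P ls ps i = true) :
    eqnOK l ls i = true := by
  simp only [eqnAt, Bool.and_eq_true] at h
  obtain ⟨⟨⟨h1, h2⟩, h3⟩, h4⟩ := h
  obtain ⟨hs, hpk, hq⟩ := mrunP_spec (packs_chain ls ps hps)
    (labP l.table (l.table.relAt (l.eqs.getD i (0, 0, [])).1).word (l.eqs.getD i (0, 0, [])).2.1 ++
      winv (l.table.relAt (l.eqs.getD i (0, 0, [])).1).rhs) 0
  obtain ⟨p1, p2, p3, p4⟩ := path_spec hP (l.table.relAt (l.eqs.getD i (0, 0, [])).1).word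
    (l.eqs.getD i (0, 0, [])).2.1
  simp only [eqnOK, Table.eqOK, Table.eqn, Bool.and_eq_true, p1, p2]
  simp only [Bool.and_eq_true, Nat.beq_eq, decide_eq_true_eq, Nat.blt_eq, hs, hpk] at h4
  obtain ⟨⟨hj, hp⟩, hb⟩ := h4
  refine ⟨⟨⟨⟨h1, h2⟩, h3⟩, by rw [hj]; rfl⟩, veq_of_pk ?_ ?_⟩
  · rw [pk_vadd, pk_vadd, pk_vneg, p3]
    linarith
  · refine lt_of_le_of_lt (Nat.add_le_add_right ((nrm_vadd _ _).trans (Nat.add_le_add
      ((nrm_vadd _ _).trans (Nat.add_le_add hq p4)) (le_of_eq (nrm_vneg _)))) _) ?_
    omega

theorem packsOK_cons {l : ChainLevel} {ls : List ChainLevel} {P : Pack} {ps : List Pack} (h1 : packOK l.table P = true)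
    (h2 : packsOK ls ps = true) : packsOK (l :: ls) (P :: ps) = true := by
  show (packOK l.table P && packsOK ls ps) = true
  rw [h1, h2]; rfl

/-- deductions from parts -/
theorem dedsOK_of_parts {l : ChainLevel} {P : Pack} {ls : List ChainLevel} {ps : List Pack}
    (hP : packOK l.table P = true) (hps : packsOK ls ps = true) (h : allFrom (dedAt l P ls ps) 0 l.table.nded = true) :
    dedsOK l ls = true := by
  refine List.all_eq_true.2 fun i hi => dedAt_sound l ls hP hps i ?_
  exact List.all_eq_true.1 (all_range_of_allFrom h) i hi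

/-- equations from parts -/
theorem eqnsOK_of_parts {l : ChainLevel} {P : Pack} {ls : List ChainLevel} {ps : List Pack}
    (hP : packOK l.table P = true) (hps : packsOK ls ps = true) (h : allFrom (eqnAt l P ls ps) 0 l.eqs.length = true) :
    eqnsOK l ls = true := by
  refine List.all_eq_true.2 fun i hi => eqnAt_sound l ls hP hps i ?_
  exact List.all_eq_true.1 (all_range_of_allFrom h) i hi

/-! ### Permutations -/

/-- generators, inverses and definitions of a level -/
noncomputable def permsGen (n : ℕ) (l : ChainLevel) (ls : List ChainLevel) : Bool :=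
  decide (l.perm.length = l.table.ngen) && decide (l.pinv.length = l.table.ngen) &&
    decide (l.defs.length = (chainPerm ls).length) &&
    (l.pts.all fun p => decide (p < n)) &&
    ((List.range l.table.ngen).all fun j =>
      forallLt n fun x => Nat.beq (pgetN (l.pinv.getD j 0) (pgetN (l.perm.getD j 0) x)) x) &&
    ((List.range l.defs.length).all fun j => ((l.defs.getD j []).all fun m => decide (m.1 < l.table.ngen)) &&
      forallLt n fun x => Nat.beq (wordImgN l.perm l.pinv (l.defs.getD j []) x) (pgetN ((chainPerm ls).getD j 0) x))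

/-- one relation of a level holds for the permutations -/
noncomputable def permsRel (n : ℕ) (l : ChainLevel) (i : ℕ) : Bool :=
  let r := l.table.rels.getD i ⟨[], [], []⟩
  !r.rhs.isEmpty || ((r.word.all fun m => decide (m.1 < l.table.ngen)) &&
    forallLt n fun x => Nat.beq (wordImgN l.perm l.pinv r.word x) x)

/-- the paths in the tree of a level -/
def permsPath (l : ChainLevel) (v : ℕ) : Bool :=
  (treePath l.table l.table.size v).all fun m => decide (m.1 < l.table.ngen)

/-- the image of a point under the inverse of a tree path -/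
noncomputable def treeImgK (l : ChainLevel) (n : ℕ) : ℕ → ℕ → ℕ :=
  Nat.rec (motive := fun _ => ℕ → ℕ → ℕ) (fun _ p => p)
    (fun _ ih v p => Bool.rec (forceNK (ih (l.table.tree v).1 p) fun y => pgetN (l.pinv.getD (l.table.tree v).2 0) y) p
      (Nat.beq v 0)) n

theorem treeImgK_eq (l : ChainLevel) : ∀ (n v p : ℕ),
    treeImgK l n v p = wordImgN l.perm l.pinv (winv (treePath l.table n v)) p
  | 0, v, p => rfl
  | n + 1, v, p => by
    show Bool.rec (motive := fun _ => ℕ)
      (forceNK (treeImgK l n (l.table.tree v).1 p) fun y => pgetN (l.pinv.getD (l.table.tree v).2 0) y)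
      p (Nat.beq v 0) = _
    cases v with
    | zero => simp [treePath, winv, wordImgN]
    | succ v =>
      show forceNK _ _ = _
      rw [forceNK_eq, treeImgK_eq l n]
      simp [treePath, winv, wordImgN]

/-- the images of the separating points as one number -/
noncomputable def cosetKeyK (l : ChainLevel) (v : ℕ) : ℕ :=
  (l.pts.map (treeImgK l l.table.size v)).foldl (fun a x => Nat.add (Nat.mul a 1024) x) 0

theorem cosetKeyK_eq (l : ChainLevel) : cosetKeyK l = cosetKey l := by
  funext v
  simp only [cosetKeyK, cosetKey, cosetImageN]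
  congr 2
  funext p
  exact treeImgK_eq l _ v p

/-- separation of the cosets -/
noncomputable def permsKey (l : ChainLevel) (ls : List ChainLevel) : Bool :=
  distinctOK ((List.range l.table.size).map (cosetKeyK l)) KeyTree.leaf &&
    ((chainPerm ls).all fun p => l.pts.all fun x => Nat.beq (pgetN p x) x)

/-- permutations of a level from parts -/
theorem permsOKN_cons {n : ℕ} {l : ChainLevel} {ls : List ChainLevel} (h1 : permsGen n l ls = true)
    (h2 : allFrom (permsRel n l) 0 l.table.rels.length = true)
    (h3 : allFrom (permsPath l) 0 l.table.size = true) (h4 : permsKey l ls = true) (h5 : permsOKN n ls = true) :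
    permsOKN n (l :: ls) = true := by
  have h2' : (l.table.rels.all fun r => !r.rhs.isEmpty || ((r.word.all fun m => decide (m.1 < l.table.ngen)) &&
      forallLt n fun x => Nat.beq (wordImgN l.perm l.pinv r.word x) x)) = true := all_of_allFrom ⟨[], [], []⟩ h2
  have h3' : ((List.range l.table.size).all fun v =>
      (treePath l.table l.table.size v).all fun m => decide (m.1 < l.table.ngen)) = true := all_range_of_allFrom h3
  simp only [permsKey, cosetKeyK_eq, Bool.and_eq_true] at h4
  simp only [permsGen, Bool.and_eq_true] at h1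
  simp only [permsOKN, Bool.and_eq_true]
  exact ⟨⟨⟨⟨⟨h1, h2'⟩, h3'⟩, h4.1⟩, h4.2⟩, h5⟩

/-! ### Linear algebra -/

/-- the side conditions of the linear algebra -/
def linHead (C : LinCert) (rows : List Vec) : Bool :=
  decide (0 < C.bound) && decide (C.dual.length = C.basis.length) && decide (C.tor < C.basis.length) &&
    (C.dual.all fun p => decide (p.length ≤ rows.length))

/-- a unit vector is the combination of the basis -/
def linUnit (C : LinCert) (i : ℕ) : Bool := veq (vunit i) (comb C.basis (C.dual.map fun p => cf p i))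

/-- a basis vector is of its kind -/
def linKind (C : LinCert) (rows : List Vec) (m : ℕ) (L : List Vec) (t : ℕ) : Bool :=
  let k := C.kind.getD t (false, 0, [])
  bif t == C.tor then veq (vsmul C.bound (C.basis.getD t [])) (comb L k.2.2)
  else bif k.1 then
    !(k.2.1 == 0) && veq (vsmul k.2.1 (C.dual.getD t [])) (comb ((List.range m).map (column rows)) k.2.2)
  else veq (C.basis.getD t []) (comb L k.2.2)

/-- linear algebra from parts -/
theorem LinCert.ok_of_parts {C : LinCert} {rows : List Vec} {m : ℕ} {L : List Vec} (h1 : linHead C rows = true)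
    (h2 : allFrom (linUnit C) 0 rows.length = true) (h3 : allFrom (linKind C rows m L) 0 C.basis.length = true) :
    C.ok rows m L = true := by
  have h2' : ((List.range rows.length).all fun i => veq (vunit i) (comb C.basis (C.dual.map fun p => cf p i))) = true :=
    all_range_of_allFrom h2
  have h3' : (List.range C.basis.length).all (linKind C rows m L) = true := all_range_of_allFrom h3
  simp only [linHead, Bool.and_eq_true] at h1
  simp only [LinCert.ok, Bool.and_eq_true]
  exact ⟨⟨h1, h2'⟩, h3'⟩

/-! ### A closed word, evaluated on packed vectors -/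

/-- the digits of a packed vector, balanced around zero -/
noncomputable def unpk (n : ℕ) : ℤ → Vec :=
  Nat.rec (motive := fun _ => ℤ → Vec) (fun _ => [])
    (fun _ ih z => forceIK (Int.emod z (Int.ofNat pkBase)) fun r =>
      forceIK (Bool.rec r (Int.sub r (Int.ofNat pkBase)) (decide (Int.ofNat pkBase < 2 * r))) fun d =>
        d :: ih (Int.ediv (Int.sub z d) (Int.ofNat pkBase))) n

theorem dot_congr_right : ∀ (c v v' : Vec), (∀ i, cf v i = cf v' i) → dot c v = dot c v'
  | _, [], [], _ => rfl
  | c, [], b :: w, h => by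
    have hb : b = 0 := by simpa [cf] using (h 0).symm
    have ih := dot_congr_right c.tail [] w fun i => by simpa [cf] using h (i + 1)
    simp only [dot] at ih ⊢
    rw [hb, ← ih]; simp
  | c, a :: v, [], h => by
    have ha : a = 0 := by simpa [cf] using h 0
    have ih := dot_congr_right c.tail v [] fun i => by simpa [cf] using h (i + 1)
    simp only [dot] at ih ⊢
    rw [ha, ih]; simp
  | c, a :: v, b :: w, h => by
    have ha : a = b := by simpa [cf] using h 0
    have ih := dot_congr_right c.tail v w fun i => by simpa [cf] using h (i + 1)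
    simp only [dot]
    rw [ha, ih]

/-- the coordinate of a closed word, computed on packed vectors -/
noncomputable def coordAt (ls : List ChainLevel) (ps : List Pack) (d : Vec) (n : ℕ) (w : Word) (m : ℕ) (par : ℤ) : Bool :=
  let q := mrunP (chainMachineP ls ps) w 0
  let V := unpk n q.2.1
  Nat.beq q.1 0 && decide (pk V = q.2.1) && Nat.blt (q.2.2 + nrm V) pkBase && decide (dot d V % (m : ℤ) = par)

theorem coordAt_sound {ls : List ChainLevel} {ps : List Pack} (hps : packsOK ls ps = true) {d : Vec} {n : ℕ}
    {w : Word} {m : ℕ} {par : ℤ} (h : coordAt ls ps d n w m par = true) :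
    (mrun (chainMachine ls) w 0).1 = 0 ∧ dot d (mrun (chainMachine ls) w 0).2 % (m : ℤ) = par := by
  obtain ⟨h1, h2, h3⟩ := mrunP_spec (packs_chain ls ps hps) w 0
  simp only [coordAt, Bool.and_eq_true, Nat.beq_eq, decide_eq_true_eq, Nat.blt_eq] at h
  obtain ⟨⟨⟨k1, k2⟩, k3⟩, k4⟩ := h
  refine ⟨h1 ▸ k1, ?_⟩
  have hv : veq (mrun (chainMachine ls) w 0).2 (unpk n (mrunP (chainMachineP ls ps) w 0).2.1) = true :=
    veq_of_pk (by rw [k2, h2]) (by omega)
  rw [dot_congr_right _ _ _ (cf_eq_of_veq hv)]
  exact k4

/-- a word leads from `i` to `j` with packed value `p` and bound at most `Q` -/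
def SegRun (F : PMachine) (w : Word) (i j : ℕ) (p : ℤ) (Q : ℕ) : Prop :=
  (mrunP F w i).1 = j ∧ (mrunP F w i).2.1 = p ∧ (mrunP F w i).2.2 ≤ Q

/-- the check of one segment -/
noncomputable def segOK (F : PMachine) (w : Word) (i j : ℕ) (p : ℤ) (Q : ℕ) : Bool :=
  let q := mrunP F w i
  Nat.beq q.1 j && decide (q.2.1 = p) && Nat.ble q.2.2 Q

theorem segRun_of_segOK {F : PMachine} {w : Word} {i j : ℕ} {p : ℤ} {Q : ℕ} (h : segOK F w i j p Q = true) :
    SegRun F w i j p Q := by
  simp only [segOK, Bool.and_eq_true, Nat.beq_eq, decide_eq_true_eq, Nat.ble_eq] at h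
  exact ⟨h.1.1, h.1.2, h.2⟩

theorem mrunP_append (F : PMachine) : ∀ (u v : Word) (i : ℕ), mrunP F (u ++ v) i =
    ((mrunP F v (mrunP F u i).1).1, (mrunP F u i).2.1 + (mrunP F v (mrunP F u i).1).2.1,
      (mrunP F u i).2.2 + (mrunP F v (mrunP F u i).1).2.2)
  | [], v, i => by
    show mrunP F v i = ((mrunP F v i).1, 0 + (mrunP F v i).2.1, 0 + (mrunP F v i).2.2)
    simp
  | l :: u, v, i => by
    rw [List.cons_append, mrunP_cons, mrunP_cons, mrunP_append F u v]
    simp only [add_assoc]

theorem SegRun.trans {F : PMachine} {g : ℕ → Word} {u v : Word} {i j k : ℕ} {p p' : ℤ} {Q Q' : ℕ}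
    (h : SegRun F (wsub g u) i j p Q) (h' : SegRun F (wsub g v) j k p' Q') :
    SegRun F (wsub g (u ++ v)) i k (p + p') (Q + Q') := by
  obtain ⟨a1, a2, a3⟩ := h
  obtain ⟨b1, b2, b3⟩ := h'
  rw [SegRun, show wsub g (u ++ v) = wsub g u ++ wsub g v from List.flatMap_append, mrunP_append, a1]
  exact ⟨b1, by rw [a2, b2], Nat.add_le_add a3 b3⟩

/-- the coordinate from a segmented run -/
theorem coord_of_run {ls : List ChainLevel} {ps : List Pack} (hps : packsOK ls ps = true) {w : Word} {p : ℤ} {Q : ℕ}
    (h : SegRun (chainMachineP ls ps) w 0 0 p Q) (n : ℕ) (hn : pk (unpk n p) = p)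
    (hQ : Q + nrm (unpk n p) < pkBase) (d : Vec) :
    (mrun (chainMachine ls) w 0).1 = 0 ∧ dot d (mrun (chainMachine ls) w 0).2 = dot d (unpk n p) := by
  obtain ⟨h1, h2, h3⟩ := mrunP_spec (packs_chain ls ps hps) w 0
  obtain ⟨a1, a2, a3⟩ := h
  refine ⟨h1 ▸ a1, dot_congr_right _ _ _ (cf_eq_of_veq (veq_of_pk ?_ ?_))⟩
  · rw [hn, ← a2, h2]
  · omega

end CfsgLib.Schur.Cert
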