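import Cfsg.Agent.Lib.Schur.Multiplier
import Mathlib

/-!
# The deficiency bound: the multiplier needs at most relators minus generators many generators
-/

set_option autoImplicit false

namespace CfsgLib.Schur

universe u

theorem closure_range_eq_top_of_rels (n : ℕ) (rels : Finset (FreeGroup (Fin n)))
    [Finite (PresentedGroup (rels : Set (FreeGroup (Fin n))))] :
    ∃ (k : ℕ) (b : Fin k → mult (PresentedGroup (rels : Set (FreeGroup (Fin n))))),
      k ≤ rels.card - n ∧ Subgroup.closure (Set.range b) = ⊤ := by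
  classical
  let S : Set (FreeGroup (Fin n)) := (rels : Set (FreeGroup (Fin n)))
  let Q := PresentedGroup S
  obtain ⟨C⟩ := exists_compl (Q := Q)
  obtain ⟨hsurj, hcen, hder⟩ := C.isStem
  let π : FreeGroup (Fin n) →* Q := PresentedGroup.mk S
  let φ : FreeGroup (Fin n) →* C.Cover := FreeGroup.lift fun i => Function.surjInv hsurj (π (FreeGroup.of i))
  have hφ : C.coverMap.comp φ = π := FreeGroup.ext_hom _ _ fun i => by
    simp [φ, Function.surjInv_eq hsurj]
  let θ : FreeGroup (Fin n) →* Multiplicative (Fin n → ℤ) :=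
    FreeGroup.lift fun i => Multiplicative.ofAdd (Pi.single i 1)
  letI : CommGroup C.coverMap.ker :=
    { (inferInstance : Group C.coverMap.ker) with
      mul_comm := fun a b => Subtype.ext (Subgroup.mem_center_iff.1 (hcen b.2) a) }
  have hrel : ∀ r : rels, φ (r : FreeGroup (Fin n)) ∈ C.coverMap.ker := fun r => by
    show C.coverMap (φ r) = 1
    rw [← MonoidHom.comp_apply, hφ]
    exact PresentedGroup.one_of_mem r.2
  let L : (rels → ℤ) →ₗ[ℤ] (Fin n → ℤ) :=
    Fintype.linearCombination ℤ fun r : rels => Multiplicative.toAdd (θ r)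
  let g : (rels → ℤ) →ₗ[ℤ] Additive C.coverMap.ker :=
    Fintype.linearCombination ℤ fun r : rels => Additive.ofMul (⟨φ r, hrel r⟩ : C.coverMap.ker)
  -- every relation is an integral combination of relators, on both sides
  have key : ∀ x ∈ Subgroup.normalClosure S, ∃ v : rels → ℤ,
      Multiplicative.toAdd (θ x) = L v ∧ φ x = ((Additive.toMul (g v) : C.coverMap.ker) : C.Cover) := by
    let W : Subgroup (FreeGroup (Fin n)) :=
      { carrier := {x | ∃ v : rels → ℤ,
          Multiplicative.toAdd (θ x) = L v ∧ φ x = ((Additive.toMul (g v) : C.coverMap.ker) : C.Cover)}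
        one_mem' := ⟨0, by simp, by simp⟩
        mul_mem' := by
          rintro x y ⟨v, hv, hv'⟩ ⟨w, hw, hw'⟩
          exact ⟨v + w, by rw [map_mul, toAdd_mul, hv, hw, map_add],
            by rw [map_mul, hv', hw', map_add, toMul_add, Subgroup.coe_mul]⟩
        inv_mem' := by
          rintro x ⟨v, hv, hv'⟩
          exact ⟨-v, by rw [map_inv, toAdd_inv, hv, map_neg],
            by rw [map_inv, hv', map_neg, toMul_neg, Subgroup.coe_inv]⟩ }
    have hW : W.Normal := ⟨by
      rintro x ⟨v, hv, hv'⟩ y
      refine ⟨v, ?_, ?_⟩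
      · rw [map_mul θ, map_mul θ, map_inv θ, mul_comm (θ y), mul_inv_cancel_right, hv]
      · rw [map_mul, map_mul, map_inv, hv', Subgroup.mem_center_iff.1 (hcen (Additive.toMul (g v)).2) (φ y),
          mul_inv_cancel_right]⟩
    have hle : Subgroup.normalClosure S ≤ W := Subgroup.normalClosure_le_normal fun x hx =>
      ⟨Pi.single ⟨x, hx⟩ 1, by simp [L], by simp [g]⟩
    exact fun x hx => hle hx
  -- the kernel of `L` covers the multiplier
  have hsup : φ.range ⊔ C.coverMap.ker = ⊤ := by
    rw [eq_top_iff]
    intro x _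
    obtain ⟨a, ha⟩ := PresentedGroup.mk_surjective S (C.coverMap x)
    have e : x = φ a * ((φ a)⁻¹ * x) := (mul_inv_cancel_left _ _).symm
    rw [e]
    refine Subgroup.mul_mem_sup ⟨a, rfl⟩ ?_
    show C.coverMap _ = 1
    rw [map_mul, map_inv, ← MonoidHom.comp_apply, hφ]
    show (π a)⁻¹ * _ = 1
    rw [show π a = C.coverMap x from ha, inv_mul_cancel]
  have hcomm := commutator_eq_map_of_range_sup φ C.coverMap.ker hcen hsup
  have hcover : ∀ z : C.coverMap.ker, ∃ v : LinearMap.ker L, g (v : rels → ℤ) = Additive.ofMul z := by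
    intro z
    have hz := hder z.2
    rw [hcomm] at hz
    obtain ⟨c, hc, hcz⟩ := hz
    have hcR : c ∈ Subgroup.normalClosure S := by
      rw [← PresentedGroup.mk_eq_one_iff]
      show π c = 1
      rw [← hφ, MonoidHom.comp_apply, hcz]
      exact z.2
    obtain ⟨v, hv, hv'⟩ := key c hcR
    refine ⟨⟨v, ?_⟩, ?_⟩
    · show L v = 0
      rw [← hv, show θ c = 1 from Abelianization.commutator_subset_ker θ hc]
      rfl
    · apply Additive.toMul.injective
      exact Subtype.ext (hv'.symm.trans hcz)
  -- the rank of the kernel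
  have hN : (Nat.card Q : ℤ) ≠ 0 := Int.natCast_ne_zero.2 Nat.card_pos.ne'
  have hrange : ∀ y : Fin n → ℤ, (Nat.card Q : ℤ) • y ∈ LinearMap.range L := by
    intro y
    rw [pi_eq_sum_univ' y, Finset.smul_sum]
    refine Submodule.sum_mem _ fun i _ => ?_
    rw [smul_comm]
    refine Submodule.smul_mem _ _ ?_
    have hmem : FreeGroup.of i ^ Nat.card Q ∈ Subgroup.normalClosure S := by
      rw [← PresentedGroup.mk_eq_one_iff, map_pow]
      exact pow_card_eq_one'
    obtain ⟨v, hv, -⟩ := key _ hmem
    refine ⟨v, ?_⟩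
    rw [← hv, map_pow, toAdd_pow, natCast_zsmul]
    simp [θ]
  have hrank : n ≤ Module.finrank ℤ (LinearMap.range L) := by
    let j : (Fin n → ℤ) →ₗ[ℤ] LinearMap.range L :=
      LinearMap.codRestrict _ ((Nat.card Q : ℤ) • LinearMap.id) hrange
    have hj : Function.Injective j := fun a b h => smul_right_injective (Fin n → ℤ) hN (congrArg Subtype.val h)
    have := LinearMap.finrank_le_finrank_of_injective hj
    rwa [Module.finrank_fin_fun] at this
  have hsum : Module.finrank ℤ (LinearMap.range L) + Module.finrank ℤ (LinearMap.ker L) = rels.card := by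
    rw [← L.quotKerEquivRange.finrank_eq, Submodule.finrank_quotient_add_finrank,
      Module.finrank_fintype_fun_eq_card, Fintype.card_coe]
  let B := Module.finBasis ℤ (LinearMap.ker L)
  let f : LinearMap.ker L → mult Q := fun v => C.kerEquiv.symm (Additive.toMul (g (v : rels → ℤ)))
  refine ⟨Module.finrank ℤ (LinearMap.ker L), fun i => f (B i), by omega, ?_⟩
  rw [eq_top_iff]
  intro m _
  obtain ⟨v, hv⟩ := hcover (C.kerEquiv m)
  have hm : m = f v := by simp [f, hv]
  rw [hm]
  have hmap : ∀ v ∈ Submodule.span ℤ (Set.range B), f v ∈ Subgroup.closure (Set.range fun i => f (B i)) := by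
    intro v hv
    induction hv using Submodule.span_induction with
    | mem x hx =>
      obtain ⟨i, rfl⟩ := hx
      exact Subgroup.subset_closure ⟨i, rfl⟩
    | zero => simp [f]
    | add x y _ _ hx hy => simpa [f] using mul_mem hx hy
    | smul a x _ hx =>
      have e : f (a • x) = f x ^ a := by
        simp only [f]
        rw [Submodule.coe_smul_of_tower, map_zsmul, toMul_zsmul, map_zpow]
      rw [e]
      exact zpow_mem hx a
  exact hmap v (by rw [B.span_eq]; trivial)

theorem rank_le_deficiency (n : ℕ) (rels : Finset (FreeGroup (Fin n)))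
    [Finite (PresentedGroup (rels : Set (FreeGroup (Fin n))))] {A : Type u} [CommGroup A] [Finite A]
    (hA : Cfsg.HasSchurMultiplier (PresentedGroup (rels : Set (FreeGroup (Fin n)))) A) :
    Group.rank A ≤ rels.card - n := by
  classical
  obtain ⟨e⟩ := nonempty_equiv_of_hasSchurMultiplier hA
  obtain ⟨k, b, hk, hb⟩ := closure_range_eq_top_of_rels n rels
  refine le_trans (Group.rank_le (S := Finset.univ.image fun i => e.symm (b i)) ?_)
    ((Finset.card_image_le.trans (by simp)).trans hk)
  rw [Finset.coe_image, Finset.coe_univ, Set.image_univ,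
    show (fun i => e.symm (b i)) = e.symm.toMonoidHom ∘ b from rfl, Set.range_comp, ← MonoidHom.map_closure, hb,
    Subgroup.map_top_of_surjective _ e.symm.surjective]

end CfsgLib.Schur
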