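import Cfsg.Agent.Lib.Schur.Multiplier
import Cfsg.Agent.Lib.Char.Complete
import Cfsg.Agent.Lib.Char.DegreeCenter

/-!
# The square of the exponent of the multiplier divides the group order
-/

set_option autoImplicit false

namespace CfsgLib.Schur

universe u v

open CfsgLib.Char

/-- For a character `χ` of a central subgroup inside the derived group, `orderOf χ ^ 2 ∣ index`. -/
theorem orderOf_sq_dvd_index {Γ : Type u} [Group Γ] [Finite Γ] (K : Subgroup Γ)
    (hc : K ≤ Subgroup.center Γ) (hd : K ≤ commutator Γ) (χ : K →* ℂˣ) :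
    orderOf χ ^ 2 ∣ K.index := by
  classical
  letI := Fintype.ofFinite Γ
  letI := Fintype.ofFinite K
  letI := Fintype.ofFinite (Cfsg.IrrCharacter Γ)
  have hterm : ∀ ψ : Cfsg.IrrCharacter Γ, ∃ a : ℕ, orderOf χ ^ 2 ∣ a ∧
      ∑ z : K, ((χ z)⁻¹ : ℂˣ) * ((ψ : Γ → ℂ) 1 * (ψ : Γ → ℂ) (z : Γ)) = (Nat.card K : ℂ) * a := by
    intro ψ
    obtain ⟨n, ρ, hρ, hψ⟩ := ψ.2
    haveI := hρ
    choose c hcz using fun z : K => CfsgLib.CharIntegral.exists_scalar_of_mem_center ρ (hc z.2)
    have hn : (Module.finrank ℂ (Fin n → ℂ) : ℂ) ≠ 0 :=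
      Nat.cast_ne_zero.mpr (CfsgLib.Char.finrank_pos_of_irreducible ρ).ne'
    have hval : ∀ z : K, (ψ : Γ → ℂ) (z : Γ) = c z * (n : ℂ) := fun z => by
      rw [← hψ, Representation.character, hcz z, map_smul, LinearMap.trace_id, smul_eq_mul,
        Module.finrank_fin_fun]
    have hψ1 : (ψ : Γ → ℂ) 1 = (n : ℂ) := by rw [← hψ, Representation.char_one, Module.finrank_fin_fun]
    have hn' : (n : ℂ) ≠ 0 := by simpa using hn
    have hmul : ∀ z w : K, c (z * w) = c z * c w := fun z w => by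
      have h := congrArg (LinearMap.trace ℂ (Fin n → ℂ))
        (show ρ ((z * w : K) : Γ) = (c z * c w) • LinearMap.id by
          rw [Subgroup.coe_mul, map_mul, hcz z, hcz w]
          exact LinearMap.ext fun v => smul_smul (c z) (c w) v)
      rw [hcz (z * w), map_smul, map_smul, LinearMap.trace_id, smul_eq_mul, smul_eq_mul] at h
      exact mul_right_cancel₀ hn h
    have hone : c 1 = 1 := by
      have h := congrArg (LinearMap.trace ℂ (Fin n → ℂ)) (hcz 1)
      rw [Subgroup.coe_one, map_one, LinearMap.trace_one, map_smul, LinearMap.trace_id, smul_eq_mul] at h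
      exact mul_right_cancel₀ hn (by rw [one_mul]; exact h.symm)
    let f : K →* ℂ :=
      { toFun := fun z => ((χ z)⁻¹ : ℂˣ) * c z
        map_one' := by simp [hone]
        map_mul' := fun z w => by
          simp only [map_mul, mul_inv, Units.val_mul, hmul]; ring }
    have hsum : ∑ z : K, ((χ z)⁻¹ : ℂˣ) * ((ψ : Γ → ℂ) 1 * (ψ : Γ → ℂ) (z : Γ)) =
        (n : ℂ) ^ 2 * ∑ z : K, f z := by
      rw [Finset.mul_sum]
      refine Finset.sum_congr rfl fun z _ => ?_
      rw [hval, hψ1]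
      show _ = (n : ℂ) ^ 2 * (((χ z)⁻¹ : ℂˣ) * c z)
      ring
    rw [hsum, sum_hom_units f]
    by_cases hf : f = 1
    · refine ⟨n ^ 2, pow_dvd_pow_of_dvd (orderOf_dvd_of_pow_eq_one ?_) 2, ?_⟩
      · refine MonoidHom.ext fun z => Units.ext ?_
        have hcχ : c z = (χ z : ℂ) := by
          have h : ((χ z)⁻¹ : ℂˣ) * c z = (1 : ℂ) := DFunLike.congr_fun hf z
          rw [← one_mul (c z), ← Units.mul_inv (χ z), mul_assoc, h, mul_one]
        show ((χ ^ n) z : ℂˣ) = (1 : ℂ)
        rw [MonoidHom.pow_apply, Units.val_pow_eq_pow_val, ← hcχ]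
        let det : Γ →* ℂˣ := (LinearMap.det.comp ρ).toHomUnits
        have h1 : det (z : Γ) = 1 := Abelianization.commutator_subset_ker det (hd z.2)
        have h2 : LinearMap.det (ρ (z : Γ)) = 1 := congrArg Units.val h1
        rw [hcz z, LinearMap.det_smul, LinearMap.det_id, mul_one, Module.finrank_fin_fun] at h2
        exact h2
      · rw [if_pos hf, Nat.card_eq_fintype_card]
        push_cast
        ring
    · exact ⟨0, dvd_zero _, by rw [if_neg hf]; simp⟩
  choose a ha hsum using hterm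
  have hleft : ∑ ψ : Cfsg.IrrCharacter Γ, ∑ z : K, ((χ z)⁻¹ : ℂˣ) * ((ψ : Γ → ℂ) 1 * (ψ : Γ → ℂ) (z : Γ)) =
      (Nat.card Γ : ℂ) := by
    rw [Finset.sum_comm, Finset.sum_eq_single (1 : K)]
    · simp only [map_one, inv_one, Units.val_one, one_mul, Subgroup.coe_one, ← sq]
      exact sum_sq_degree
    · intro z _ hz
      rw [← Finset.mul_sum, sum_degree_mul_apply_of_ne_one (fun h => hz (Subtype.ext h)), mul_zero]
    · simp
  rw [Finset.sum_congr rfl fun ψ _ => hsum ψ, ← Finset.mul_sum, ← Subgroup.card_mul_index K,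
    ← Nat.cast_sum, Nat.cast_mul] at hleft
  have h : K.index = ∑ ψ : Cfsg.IrrCharacter Γ, a ψ :=
    Nat.cast_injective (mul_left_cancel₀ (Nat.cast_ne_zero.mpr Nat.card_pos.ne') hleft.symm)
  rw [h]
  exact Finset.dvd_sum fun ψ _ => ha ψ

theorem exponent_sq_dvd_card {Q : Type u} [Group Q] [Finite Q] {A : Type v} [CommGroup A]
    (hA : Cfsg.HasSchurMultiplier Q A) : Monoid.exponent A ^ 2 ∣ Nat.card Q := by
  obtain ⟨eA⟩ := nonempty_equiv_of_hasSchurMultiplier hA
  obtain ⟨C⟩ := exists_compl (Q := Q)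
  haveI := C.finite_cover
  obtain ⟨hs, hc, hd⟩ := C.isStem
  haveI := finite_of_hasSchurMultiplier hA
  haveI : NeZero (Monoid.exponent A) := ⟨Monoid.exponent_ne_zero_of_finite⟩
  obtain ⟨d⟩ := CommGroup.monoidHom_mulEquiv_of_hasEnoughRootsOfUnity A ℂ
  obtain ⟨x, hx⟩ := Monoid.exists_orderOf_eq_exponent (Monoid.ExponentExists.of_finite (G := A))
  let e : A ≃* C.coverMap.ker := eA.trans C.kerEquiv
  let χ : C.coverMap.ker →* ℂˣ := (d.symm x).comp e.symm.toMonoidHom
  have h := orderOf_sq_dvd_index C.coverMap.ker hc hd χ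
  have hχ : orderOf χ = Monoid.exponent A := by
    rw [← hx, ← d.symm.orderOf_eq x]
    refine orderOf_eq_orderOf_iff.2 fun k => ⟨fun hk => MonoidHom.ext fun a => ?_, fun hk => MonoidHom.ext fun a => ?_⟩
    · have := DFunLike.congr_fun hk (e a)
      simpa [χ] using this
    · have := DFunLike.congr_fun hk (e.symm a)
      simpa [χ] using this
  rw [hχ, Subgroup.index_ker, MonoidHom.range_eq_top.2 hs, Subgroup.card_top] at h
  exact h

end CfsgLib.Schur
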