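import Mathlib
import Cfsg.Agent.Lib.Schur.PermChain
import Cfsg.Agent.Lib.Known.SL2Multiplier

/-!
# The kernel of a stem extension over a subgroup, with exact coordinates

A chain with linear algebra gives an element `ζ` of the kernel such that a kernel element raised to the
index is a power of `ζ`, and the value of a closed word of exponent zero is an explicit power of `ζ`.
-/

set_option autoImplicit false

namespace CfsgLib.Schur.Cert

open CfsgLib.Sporadic

/-- the elements of exponent zero, with their coordinate -/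
theorem LinCert.exists_pow_dot {M : Type*} [CommGroup M] {C : LinCert} {rows : List Vec} {m : ℕ} {L : List Vec}
    (hok : C.ok rows m L = true) (R : ℕ → M) (hR : ∀ i, rows.length ≤ i → R i = 1) (hL : ∀ e ∈ L, ev R e = 1) :
    ev R (C.basis.getD C.tor []) ^ C.bound = 1 ∧ ∀ v : Vec, (∀ j, cf (comb rows v) j = 0) →
      ev R v = ev R (C.basis.getD C.tor []) ^ dot (C.dual.getD C.tor []) v := by
  simp only [LinCert.ok, Bool.and_eq_true, decide_eq_true_eq, List.all_eq_true, List.mem_range] at hok
  obtain ⟨⟨⟨⟨⟨-, hlen⟩, htor⟩, hdual⟩, hid⟩, hkind⟩ := hok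
  let f : ℕ → M := fun t => ev R (C.basis.getD t [])
  have hRi : ∀ i, R i = ∏ t ∈ Finset.range C.basis.length, f t ^ cf (C.dual.getD t []) i := by
    intro i
    by_cases hi : i < rows.length
    · rw [← ev_vunit R i, ev_eq_of_veq (hid i hi), ev_comb_prod]
      refine Finset.prod_congr rfl fun t ht => ?_
      have htd : t < C.dual.length := by rw [hlen]; exact Finset.mem_range.mp ht
      simp only [cf, f]
      simp [List.getD_eq_getElem?_getD, List.getElem?_map, List.getElem?_eq_getElem htd]
    · rw [hR i (not_lt.mp hi)]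
      refine (Finset.prod_eq_one fun t ht => ?_).symm
      have htd : t < C.dual.length := by rw [hlen]; exact Finset.mem_range.mp ht
      have := hdual _ (List.getElem_mem htd)
      rw [List.getD_eq_getElem _ _ htd]
      unfold cf
      rw [List.getD_eq_default _ _ (by omega), zpow_zero]
  have htr : f C.tor ^ (C.bound : ℤ) = 1 := by
    have h := hkind C.tor htor
    rw [beq_self_eq_true] at h
    simp only [cond_true] at h
    simp only [f, ← ev_vsmul, ev_eq_of_veq h, ev_comb_one R L _ hL]
  refine ⟨by rw [← zpow_natCast]; exact htr, fun v hv => ?_⟩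
  have hprod := ev_eq_prod (Finset.range C.basis.length) f v R (fun t => C.dual.getD t []) hRi
  have hone : ∀ t ∈ Finset.range C.basis.length, t ≠ C.tor → f t ^ dot (C.dual.getD t []) v = 1 := by
    intro t ht hne
    have h := hkind t (Finset.mem_range.mp ht)
    rw [beq_false_of_ne hne] at h
    simp only [cond_false] at h
    cases hk : (C.kind.getD t (false, 0, [])).1
    · rw [hk] at h
      simp only [cond_false] at h
      simp only [f, ev_eq_of_veq h, ev_comb_one R L _ hL, one_zpow]
    · rw [hk] at h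
      simp only [cond_true, Bool.and_eq_true, Bool.not_eq_true', beq_eq_false_iff_ne] at h
      have h0 := dot_congr v (cf_eq_of_veq h.2)
      rw [dot_vsmul, dot_comb _ _ _ fun c hc => by
        obtain ⟨j, -, rfl⟩ := List.mem_map.mp hc
        rw [dot_column, hv]] at h0
      rw [(mul_eq_zero.mp h0).resolve_left h.1, zpow_zero]
  rw [Finset.prod_eq_single C.tor hone fun h => absurd (Finset.mem_range.mpr htor) h] at hprod
  exact hprod

variable {Γ : Type*} [Group Γ] {G : Type*} [Group G]

/-- a frame with exact coordinates -/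
theorem exists_frame_dot (σ : Γ →* G) (hs : Function.Surjective σ) (hc : σ.ker ≤ Subgroup.center Γ) (a : ℕ → G)
    (rels : List Word) (hrels : ∀ w ∈ rels, wval a w = 1) :
    ∃ F : Frame σ a rels, ∀ (C : LinCert) (m : ℕ) (L : List Vec), C.ok (relRows rels) m L = true →
      (∀ e ∈ L, F.E e = 1) → F.E (C.basis.getD C.tor []) ^ C.bound = 1 ∧
        ∀ v, (∀ j, cf (comb (relRows rels) v) j = 0) →
          F.E v = F.E (C.basis.getD C.tor []) ^ dot (C.dual.getD C.tor []) v := by
  classical
  let _ : CommGroup (Subgroup.center Γ) :=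
    { (inferInstance : Group (Subgroup.center Γ)) with
      mul_comm := fun u v => Subtype.ext (Subgroup.mem_center_iff.mp v.2 u) }
  let b : ℕ → Γ := fun j => Function.surjInv hs (a j)
  have hb : ∀ j, σ (b j) = a j := fun j => Function.surjInv_eq hs _
  have hval : ∀ i, i < rels.length → σ (wval b (rels.getD i [])) = 1 := fun i hi => by
    rw [map_wval, show σ ∘ b = a from funext hb, List.getD_eq_getElem _ _ hi]
    exact hrels _ (List.getElem_mem hi)
  let R : ℕ → Subgroup.center Γ := fun i =>
    if h : i < rels.length then ⟨wval b (rels.getD i []), hc (MonoidHom.mem_ker.mpr (hval i h))⟩ else 1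
  let E : Vec → Γ := fun v => ((ev R v : Subgroup.center Γ) : Γ)
  have hR : ∀ i, (relRows rels).length ≤ i → R i = 1 := fun i hi => by
    simp only [R]; rw [dif_neg]; simpa [relRows] using hi
  refine ⟨{ b := b, E := E, lift := hb, central := ?_, ker := ?_, rel := ?_, bound := ?_ }, ?_⟩
  · exact
      { nil := rfl
        vadd := fun v w => by simp only [E, ev_vadd, Subgroup.coe_mul]
        vneg := fun v => by simp only [E, ev_vneg, Subgroup.coe_inv]
        veq := fun v w h => by simp only [E, ev_eq_of_veq h]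
        zero := fun v h => by simp only [E, ev_of_vzero R h, Subgroup.coe_one]
        comm := fun v y => Subgroup.mem_center_iff.mp (ev R v).2 y }
  · intro v
    have key : ∀ (v : Vec) (R' : ℕ → Subgroup.center Γ), (∀ i, σ (R' i : Γ) = 1) →
        σ ((ev R' v : Subgroup.center Γ) : Γ) = 1 := by
      intro v
      induction v with
      | nil => intros; exact map_one σ
      | cons x v ih =>
        intro R' h
        simp only [ev, Subgroup.coe_mul, Subgroup.coe_zpow, map_mul, map_zpow, h, one_zpow, one_mul]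
        exact ih _ fun i => h _
    refine key v R fun i => ?_
    simp only [R]
    split_ifs with h
    · exact hval i h
    · exact map_one σ
  · intro i hi
    simp only [E, ev_vunit, R, dif_pos hi]
  · intro C m L hok hL v hv
    obtain ⟨j, hj, e⟩ := LinCert.exists_pow hok R hR (fun e he => Subtype.ext (hL e he)) v hv
    exact ⟨j, hj, by simp only [E, e, Subgroup.coe_pow]⟩
  · intro C m L hok hL
    obtain ⟨h1, h2⟩ := LinCert.exists_pow_dot hok R hR (fun e he => Subtype.ext (hL e he))
    refine ⟨?_, fun v hv => ?_⟩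
    · show ((ev R (C.basis.getD C.tor []) : Subgroup.center Γ) : Γ) ^ C.bound = 1
      rw [← Subgroup.coe_pow, h1, Subgroup.coe_one]
    · show ((ev R v : Subgroup.center Γ) : Γ) = _
      rw [h2 v hv, Subgroup.coe_zpow]

/-- two choices of lifts give one value to a word of exponent zero -/
theorem wval_lift_eq {σ : Γ →* G} (hc : σ.ker ≤ Subgroup.center Γ) (b b' : ℕ → Γ) (w : Word)
    (hb : ∀ l ∈ w, σ (b l.1) = σ (b' l.1)) (hw : veq (wexp vunit w) [] = true) : wval b w = wval b' w := by
  classical
  let _ : CommGroup (Subgroup.center Γ) :=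
    { (inferInstance : Group (Subgroup.center Γ)) with
      mul_comm := fun u v => Subtype.ext (Subgroup.mem_center_iff.mp v.2 u) }
  let c : ℕ → Subgroup.center Γ := fun j =>
    if h : σ (b j) = σ (b' j) then ⟨(b' j)⁻¹ * b j, hc (MonoidHom.mem_ker.2 (by rw [map_mul, map_inv, h, inv_mul_cancel]))⟩ else 1
  have key : ∀ u : Word, (∀ l ∈ u, σ (b l.1) = σ (b' l.1)) →
      wval b u = wval b' u * ((ev c (wexp vunit u) : Subgroup.center Γ) : Γ) := by
    intro u
    induction u with
    | nil => intro _; simp [wval, wexp, ev]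
    | cons l u ih =>
      intro hu
      have hl := hu l List.mem_cons_self
      rw [wval_cons, wval_cons, ih fun x hx => hu x (List.mem_cons_of_mem _ hx)]
      obtain ⟨x, s⟩ := l
      simp only at hl
      have hcx : (c x : Γ) = (b' x)⁻¹ * b x := by simp only [c, dif_pos hl]
      have hz := Subgroup.mem_center_iff.1 (c x).2
      have hbx : b x = b' x * (c x : Γ) := by rw [hcx, mul_inv_cancel_left]
      cases s
      · simp only [lett, cond_false, wexp, ev_vadd, ev_vneg, ev_vunit, Subgroup.coe_mul, Subgroup.coe_inv, hbx,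
          mul_inv_rev]
        have hzi := Subgroup.mem_center_iff.1 (inv_mem (c x).2)
        calc (c x : Γ)⁻¹ * (b' x)⁻¹ * (wval b' u * _) = ((b' x)⁻¹ * wval b' u) * ((c x : Γ)⁻¹ * _) := by
              rw [← hzi (b' x)⁻¹, mul_assoc ((b' x)⁻¹), ← mul_assoc ((c x : Γ)⁻¹) (wval b' u), ← hzi (wval b' u)]
              simp only [mul_assoc]
          _ = _ := rfl
      · simp only [lett, cond_true, wexp, ev_vadd, ev_vunit, Subgroup.coe_mul, hbx]
        calc b' x * (c x : Γ) * (wval b' u * _) = (b' x * wval b' u) * ((c x : Γ) * _) := by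
              rw [mul_assoc (b' x), ← mul_assoc (c x : Γ) (wval b' u), ← hz (wval b' u)]
              simp only [mul_assoc]
          _ = _ := rfl
  rw [key w hb, ev_eq_of_veq hw]
  simp [ev]

/-- the commutator part of a central kernel consists of powers of one element -/
theorem mem_pow_of_mem_ker_inf [Finite Γ] {σ : Γ →* G} (hs : Function.Surjective σ) (hc : σ.ker ≤ Subgroup.center Γ)
    {a : ℕ → G} {rels : List Word} (F : Frame σ a rels) {m : ℕ}
    (hgen : Subgroup.closure (a '' Set.Iio m) = ⊤) {N : ℕ} (hcard : Nat.card G = N) {f : Machine}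
    (hsound : Sound F.E (relRows rels) F.b m vunit N f) (C : LinCert) (L : List Vec)
    (hok : C.ok (relRows rels) m L = true) (hL : ∀ e ∈ L, F.E e = 1) :
    ∀ z ∈ σ.ker, z ∈ commutator Γ → ∃ j < C.bound, z = F.E (C.basis.getD C.tor []) ^ j := by
  classical
  obtain ⟨elt, pot, hN, he0, hp0, hstep⟩ := hsound
  have hrun := Sound.run F.central hstep
  have hσw : ∀ w, σ (wval F.b w) = wval a w := fun w => by rw [map_wval, show σ ∘ F.b = a from funext F.lift]
  have hpres : ∀ x : G, ∃ w : Word, (∀ l ∈ w, l.1 < m) ∧ wval a w = x := by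
    intro x
    have hm : x ∈ Subgroup.closure (a '' Set.Iio m) := hgen ▸ Subgroup.mem_top x
    induction hm using Subgroup.closure_induction with
    | mem y hy =>
      obtain ⟨j, hj, rfl⟩ := hy
      exact ⟨[(j, true)], by simpa using hj, by simp [wval, lett]⟩
    | one => exact ⟨[], by simp, rfl⟩
    | mul y z _ _ ihy ihz =>
      obtain ⟨w, hw, rfl⟩ := ihy; obtain ⟨w', hw', rfl⟩ := ihz
      exact ⟨w ++ w', fun l hl => (List.mem_append.mp hl).elim (hw l) (hw' l), wval_append _ _ _⟩
    | inv y _ ih =>
      obtain ⟨w, hw, rfl⟩ := ih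
      refine ⟨winv w, fun l hl => ?_, wval_winv _ _⟩
      simp only [winv, List.mem_map, List.mem_reverse] at hl
      obtain ⟨l', hl', rfl⟩ := hl
      exact hw l' hl'
  have hinj : Function.Injective fun i : Fin N => σ (elt i.1) := by
    have : Finite G := Finite.of_surjective σ hs
    refine ((Nat.bijective_iff_surjective_and_card _).2 ⟨fun x => ?_, by rw [Nat.card_fin, hcard]⟩).1
    obtain ⟨w, hw, rfl⟩ := hpres x
    obtain ⟨k1, k2, -⟩ := hrun w 0 hN hw
    refine ⟨⟨_, k1⟩, ?_⟩
    have := congrArg σ k2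
    rw [he0, one_mul, map_mul, F.ker, mul_one, hσw] at this
    exact this.symm
  let S : Subgroup Γ :=
    { carrier := {γ | ∃ w, (∀ l ∈ w, l.1 < m) ∧ (∀ j, cf (wexp vunit w) j = 0) ∧ wval F.b w = γ}
      one_mem' := ⟨[], by simp, fun _ => rfl, rfl⟩
      mul_mem' := by
        rintro _ _ ⟨w, hw, he, rfl⟩ ⟨w', hw', he', rfl⟩
        exact ⟨w ++ w', fun l hl => (List.mem_append.mp hl).elim (hw l) (hw' l),
          fun j => by rw [cf_wexp_append, he, he', add_zero], wval_append _ _ _⟩
      inv_mem' := by
        rintro _ ⟨w, hw, he, rfl⟩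
        refine ⟨winv w, fun l hl => ?_, fun j => by rw [cf_wexp_winv, he, neg_zero], wval_winv _ _⟩
        simp only [winv, List.mem_map, List.mem_reverse] at hl
        obtain ⟨l', hl', rfl⟩ := hl
        exact hw l' hl' }
  have hcom : commutator Γ ≤ S := by
    rw [commutator_def, Subgroup.commutator_le]
    intro g₁ _ g₂ _
    obtain ⟨w, hwv, hw⟩ := hpres (σ g₁)
    obtain ⟨w', hwv', hw'⟩ := hpres (σ g₂)
    obtain ⟨k, hk, rfl⟩ : ∃ k ∈ σ.ker, g₁ = wval F.b w * k :=
      ⟨(wval F.b w)⁻¹ * g₁, by simp [hσw, hw], by group⟩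
    obtain ⟨k', hk', rfl⟩ : ∃ k ∈ σ.ker, g₂ = wval F.b w' * k :=
      ⟨(wval F.b w')⁻¹ * g₂, by simp [hσw, hw'], by group⟩
    refine ⟨w ++ w' ++ winv w ++ winv w', ?_, fun j => by simp only [cf_wexp_append, cf_wexp_winv]; ring, ?_⟩
    · intro l hl
      simp only [List.mem_append, winv, List.mem_map, List.mem_reverse] at hl
      rcases hl with ((h | h) | ⟨l', h, rfl⟩) | ⟨l', h, rfl⟩
      exacts [hwv l h, hwv' l h, hwv l' h, hwv' l' h]
    have c1 := Subgroup.mem_center_iff.mp (hc hk)
    have c2 := Subgroup.mem_center_iff.mp (hc hk')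
    simp only [wval_append, wval_winv, commutatorElement_def, mul_inv_rev]
    generalize wval F.b w = u
    generalize wval F.b w' = u'
    calc u * u' * u⁻¹ * u'⁻¹ = u * u' * (k * k⁻¹) * u⁻¹ * (k' * k'⁻¹) * u'⁻¹ := by group
      _ = u * (u' * k) * k⁻¹ * (u⁻¹ * k') * k'⁻¹ * u'⁻¹ := by group
      _ = u * (k * u') * k⁻¹ * (k' * u⁻¹) * k'⁻¹ * u'⁻¹ := by rw [c1, c2]
      _ = u * k * u' * (k⁻¹ * k') * u⁻¹ * k'⁻¹ * u'⁻¹ := by group
      _ = u * k * u' * (k' * k⁻¹) * u⁻¹ * k'⁻¹ * u'⁻¹ := by rw [c2]
      _ = _ := by group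
  intro z hz hz'
  obtain ⟨w, hw, he, rfl⟩ := hcom hz'
  obtain ⟨k1, k2, k3⟩ := hrun w 0 hN hw
  rw [he0, one_mul] at k2
  have h0 : (mrun f w 0).1 = 0 := by
    have h2 := congrArg σ k2
    rw [MonoidHom.mem_ker.mp hz, map_mul, F.ker, mul_one] at h2
    have := @hinj ⟨_, k1⟩ ⟨0, hN⟩ (by show σ (elt _) = σ (elt 0); rw [← h2, he0, map_one])
    exact congrArg Fin.val this
  rw [h0, he0, one_mul] at k2
  obtain ⟨j, hj, e⟩ := F.bound C m L hok hL _ fun j => by
    have := k3 j
    rw [h0, hp0, he, zero_add, zero_add] at this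
    exact this.symm
  exact ⟨j, hj, by rw [k2]; exact e⟩

/-- one more equation: a relation of the top generators, traced from some normal form -/
def extraOK (ls : List ChainLevel) (rels : List Word) (m : ℕ) (e : ℕ × ℕ × Vec) : Bool :=
  decide (e.1 < rels.length) && decide (e.2.1 < chainSize ls) &&
    ((rels.getD e.1 []).all fun l => decide (l.1 < m)) &&
    (let r := mrun (chainMachine ls) (rels.getD e.1 []) e.2.1
     r.1 == e.2.1 && veq (vadd r.2 (vneg (vunit e.1))) e.2.2)

variable [Finite Γ] [Finite G] {n : ℕ} {V : Subgroup G} (φ : V →* Equiv.Perm (Fin n))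

/-- a chain for a subgroup gives the kernel there, with coordinates -/
theorem exists_local_exact (hφ : Function.Injective φ) (a : ℕ → G) (ls : List ChainLevel) (C : LinCert)
    (rows : List Vec) (m : ℕ) (ex : List (ℕ × ℕ × Vec)) (haV : ∀ j < m, a j ∈ V)
    (ha : ∀ j, (hj : j < m) → RepN (φ ⟨a j, haV j hj⟩) ((chainPerm ls).getD j 0))
    (hlen : (chainPerm ls).length = m) (hgenlen : chainGen ls = m) (hperm : permsOKN n ls = true)
    (hrows : rows = relRows (chainRels ls ((List.range m).map fun j => [(j, true)])))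
    (htab : tablesOK (chainRels ls ((List.range m).map fun j => [(j, true)])) rows ls
      ((List.range m).map fun j => [(j, true)]) = true)
    (hexp : chainExp ls = (List.range m).map fun j => wexp vunit [(j, true)])
    (hex : ex.all (extraOK ls (chainRels ls ((List.range m).map fun j => [(j, true)])) m) = true)
    (hlin : C.ok rows m (chainEqns ls ++ ex.map fun e => e.2.2) = true)
    (σ : Γ →* G) (hσ : Cfsg.IsStemExtension σ) :
    ∃ (U : Subgroup G) (ζ : Γ), Nat.card U = chainSize ls ∧ ζ ^ C.bound = 1 ∧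
      (∀ z ∈ σ.ker, ∃ k : ℤ, z ^ U.index = ζ ^ k) ∧
      ∀ b : ℕ → Γ, (∀ j < m, σ (b j) = a j) → ∀ w : Word, (∀ l ∈ w, l.1 < m) → veq (wexp vunit w) [] = true →
        (mrun (chainMachine ls) w 0).1 = 0 →
          wval b w = ζ ^ dot (C.dual.getD C.tor []) (mrun (chainMachine ls) w 0).2 := by
  classical
  obtain ⟨hs, hc, hd⟩ := hσ
  let U : Subgroup G := Subgroup.closure (a '' Set.Iio m)
  let aU : ℕ → U := fun j => if h : j < m then ⟨a j, Subgroup.subset_closure ⟨j, h, rfl⟩⟩ else 1
  have haU : ∀ j < m, (aU j : G) = a j := fun j hj => by simp [aU, hj]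
  have hUV : U ≤ V := by
    rw [Subgroup.closure_le]
    rintro _ ⟨j, hj, rfl⟩
    exact haV j hj
  let φU : U →* Equiv.Perm (Fin n) := φ.comp (Subgroup.inclusion hUV)
  have hrepU : ∀ j < m, RepN (φU (aU j)) ((chainPerm ls).getD j 0) := fun j hj => by
    rw [show φU (aU j) = φ ⟨a j, haV j hj⟩ from congrArg φ (Subtype.ext (haU j hj))]
    exact ha j hj
  let ξ : U.comap σ →* U := (σ.comp (U.comap σ).subtype).codRestrict U fun x => x.2
  have hξs : Function.Surjective ξ := fun u => by
    obtain ⟨g, hg⟩ := hs u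
    exact ⟨⟨g, by rw [Subgroup.mem_comap, hg]; exact u.2⟩, Subtype.ext hg⟩
  have hξc : ξ.ker ≤ Subgroup.center (U.comap σ) := fun x hx => by
    have hxk : (x : Γ) ∈ σ.ker := MonoidHom.mem_ker.2 (congrArg Subtype.val (MonoidHom.mem_ker.1 hx))
    exact Subgroup.mem_center_iff.2 fun y => Subtype.ext (Subgroup.mem_center_iff.1 (hc hxk) _)
  have hφU : Function.Injective φU := hφ.comp (Subgroup.inclusion_injective hUV)
  set top : List Word := (List.range m).map fun j => [(j, true)] with htop
  have htopget : ∀ j < m, top.getD j [] = [(j, true)] := fun j hj => by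
    rw [htop, List.getD_eq_getElem _ _ (by simpa using hj)]; simp
  have hb : ∀ (j : ℕ), j < m → wval aU (top.getD j []) = aU j := fun j hj => by
    rw [htopget j hj]; simp [wval, lett]
  have htl : top.length = m := by simp [htop]
  obtain ⟨hrels, hsize⟩ := chain_permsN φU hφU aU ls top hperm (by rw [hlen, htl]) fun j hj => by
    rw [htl] at hj
    rw [hb j hj]
    exact hrepU j hj
  have hgen : Subgroup.closure (aU '' Set.Iio m) = ⊤ := by
    refine Subgroup.map_injective U.subtype_injective ?_
    rw [MonoidHom.map_closure, Set.image_image, ← MonoidHom.range_eq_map, Subgroup.range_subtype]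
    exact congrArg Subgroup.closure (Set.image_congr fun j hj => haU j hj)
  subst hrows
  obtain ⟨F, hdot⟩ := exists_frame_dot ξ hξs hξc aU _ hrels
  obtain ⟨hS, hE⟩ := chain_sound F ls top htab
  rw [hgenlen] at hS
  obtain ⟨elt, pot, hN, he, hp, hstep⟩ := hS
  have hstep' : ∀ i < chainSize ls, ∀ l : ℕ × Bool, l.1 < m → (chainMachine ls i l).1 < chainSize ls ∧
      elt i * lett F.b l = elt (chainMachine ls i l).1 * F.E (chainMachine ls i l).2 ∧
      ∀ j, pot i j + cf (wexp vunit [l]) j =
        pot (chainMachine ls i l).1 j + cf (comb (relRows (chainRels ls top)) (chainMachine ls i l).2) j := by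
    intro i hi l hl
    obtain ⟨h1, h2, h3⟩ := hstep i hi l hl
    have hwl : wval F.b (top.getD l.1 []) = F.b l.1 := by rw [htopget _ hl]; simp [wval, lett]
    refine ⟨h1, by simpa only [lett, hwl] using h2, fun j => ?_⟩
    have := h3 j
    simp only [hexp] at this
    obtain ⟨x, s⟩ := l
    rw [show cf (wexp (fun j => ((List.range m).map fun j => wexp vunit [(j, true)]).getD j []) [(x, s)]) j
      = cf (wexp vunit [(x, s)]) j by
        simp only [wexp]
        rw [List.getD_eq_getElem _ _ (by simpa using hl)]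
        cases s <;> simp [cf_vadd, cf_vneg, cf_nil]] at this
    exact this
  have hrun := Sound.run F.central hstep'
  have hE' : ∀ e ∈ chainEqns ls ++ ex.map (fun e => e.2.2), F.E e = 1 := by
    intro e he'
    rcases List.mem_append.1 he' with he' | he'
    · exact hE e he'
    obtain ⟨⟨i, s, v⟩, hmem, rfl⟩ := List.mem_map.1 he'
    have hok := List.all_eq_true.1 hex _ hmem
    simp only [extraOK, Bool.and_eq_true, decide_eq_true_eq, List.all_eq_true, beq_iff_eq] at hok
    obtain ⟨⟨⟨hi, hsN⟩, hvars⟩, hst, hv⟩ := hok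
    obtain ⟨-, k2, -⟩ := hrun _ s hsN hvars
    rw [hst, F.rel i hi, mul_right_inj] at k2
    show F.E v = 1
    rw [← F.central.veq _ _ hv, F.central.vadd, F.central.vneg, ← k2, mul_inv_cancel]
  obtain ⟨hζ, hdotv⟩ := hdot C m _ hlin hE'
  -- the subgroup has exactly as many elements as normal forms
  have hcard : Nat.card U = chainSize ls := by
    refine le_antisymm ?_ ?_
    · have hsurj : Function.Surjective fun i : Fin (chainSize ls) => ξ (elt i.1) := by
        intro x
        obtain ⟨w, hwv, hw⟩ : ∃ w : Word, (∀ l ∈ w, l.1 < m) ∧ wval aU w = x := by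
          have hm : x ∈ Subgroup.closure (aU '' Set.Iio m) := hgen ▸ Subgroup.mem_top x
          induction hm using Subgroup.closure_induction with
          | mem y hy =>
            obtain ⟨j, hj, rfl⟩ := hy
            exact ⟨[(j, true)], by simpa using hj, by simp [wval, lett]⟩
          | one => exact ⟨[], by simp, rfl⟩
          | mul y y' _ _ ihy ihy' =>
            obtain ⟨w, hw, rfl⟩ := ihy; obtain ⟨w', hw', rfl⟩ := ihy'
            exact ⟨w ++ w', fun l hl => (List.mem_append.mp hl).elim (hw l) (hw' l), wval_append _ _ _⟩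
          | inv y _ ih =>
            obtain ⟨w, hw, rfl⟩ := ih
            refine ⟨winv w, fun l hl => ?_, wval_winv _ _⟩
            simp only [winv, List.mem_map, List.mem_reverse] at hl
            obtain ⟨l', hl', rfl⟩ := hl
            exact hw l' hl'
        obtain ⟨k1, k2, -⟩ := hrun w 0 hN hwv
        refine ⟨⟨_, k1⟩, ?_⟩
        have := congrArg ξ k2
        rw [he, one_mul, map_mul, F.ker, mul_one, map_wval, show ξ ∘ F.b = aU from funext F.lift, hw] at this
        exact this.symm
      simpa using Nat.card_le_card_of_surjective _ hsurj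
    · exact hsize.trans (Nat.card_le_card_of_injective _ Subtype.val_injective)
  refine ⟨U, (F.E (C.basis.getD C.tor []) : U.comap σ), hcard, ?_, ?_, ?_⟩
  · rw [← SubmonoidClass.coe_pow, hζ]; rfl
  · intro z hz
    obtain ⟨h, hmem⟩ := CfsgLib.Schur.pow_index_mem_commutator (U.comap σ) (hc hz) (hd hz)
    have hidx : (U.comap σ).index = U.index := Subgroup.index_comap_of_surjective _ hs
    have hk : (⟨z ^ (U.comap σ).index, h⟩ : U.comap σ) ∈ ξ.ker :=
      Subtype.ext (MonoidHom.mem_ker.1 (pow_mem hz _ : z ^ (U.comap σ).index ∈ σ.ker))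
    obtain ⟨j, -, e⟩ := mem_pow_of_mem_ker_inf hξs hξc F hgen hcard ⟨elt, pot, hN, he, hp, hstep'⟩ C _ hlin hE' _
      hk hmem
    refine ⟨j, ?_⟩
    have e' := congrArg (fun y : U.comap σ => (y : Γ)) e
    simp only [SubmonoidClass.coe_pow] at e'
    rw [← hidx, zpow_natCast]
    exact e'
  · intro b hb w hw hw0 h0
    obtain ⟨-, k2, k3⟩ := hrun w 0 hN hw
    rw [h0, he, one_mul, one_mul] at k2
    have hv := hdotv _ fun j => by
      have := k3 j
      rw [h0, hp, cf_eq_of_veq hw0 j, cf_nil, zero_add, zero_add] at this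
      exact this.symm
    rw [hv] at k2
    have hlift : wval b w = wval (fun j => ((F.b j : U.comap σ) : Γ)) w := by
      refine wval_lift_eq hc _ _ w (fun l hl => ?_) hw0
      have := congrArg Subtype.val (F.lift l.1)
      rw [hb _ (hw l hl)]
      exact ((this : σ _ = _).trans (haU _ (hw l hl))).symm
    rw [hlift, ← Subgroup.coe_zpow, ← k2]
    show wval ((U.comap σ).subtype ∘ F.b) w = _
    rw [← map_wval]
    rfl

end CfsgLib.Schur.Cert
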