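import Mathlib

/-!
# A model of a cyclic extension of a two-generator abelian group

`V = ⟨a, c⟩` with `N • c = 0`, `d • a = k • c`; `β a = a + c`, `β c = r • c`; the extension of `V` by a
cyclic group of order `n`, generated by `b` inducing `β`, with `b ^ n = a ^ t`.
-/

set_option autoImplicit false

namespace CfsgLib.Schur.Meta

universe u

/-- The parameters and their congruences. -/
structure Par where
  d : ℕ
  N : ℕ
  n : ℕ
  r : ℕ
  t : ℕ
  k : ℤ
  hn : 0 < n
  hβ : (N : ℤ) ∣ (d : ℤ) - ((r : ℤ) - 1) * k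
  hS : (N : ℤ) ∣ ∑ i ∈ Finset.range n, (r : ℤ) ^ i
  hrn : (N : ℤ) ∣ (r : ℤ) ^ n - 1
  ht : (N : ℤ) ∣ (t : ℤ)

variable (P : Par)

/-- the relations -/
def rel : AddSubgroup (ℤ × ℤ) where
  carrier := {v | ∃ u : ℤ, v.1 = u * P.d ∧ (P.N : ℤ) ∣ v.2 + u * P.k}
  zero_mem' := ⟨0, by simp, by simp⟩
  add_mem' := by
    rintro v w ⟨u, h1, h2⟩ ⟨u', h1', h2'⟩
    refine ⟨u + u', by simp [h1, h1', add_mul], ?_⟩
    have h := dvd_add h2 h2'
    rwa [show v.2 + u * P.k + (w.2 + u' * P.k) = (v + w).2 + (u + u') * P.k by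
      rw [Prod.snd_add]; ring] at h
  neg_mem' := by
    rintro v ⟨u, h1, h2⟩
    refine ⟨-u, by simp [h1], ?_⟩
    have h := h2.neg_right
    rwa [show -(v.2 + u * P.k) = (-v).2 + -u * P.k by rw [Prod.snd_neg]; ring] at h

theorem mem_rel {v : ℤ × ℤ} : v ∈ rel P ↔ ∃ u : ℤ, v.1 = u * P.d ∧ (P.N : ℤ) ∣ v.2 + u * P.k := Iff.rfl

/-- the abelian normal subgroup -/
abbrev V : Type := Multiplicative ((ℤ × ℤ) ⧸ rel P)

/-- the class of `a ^ x * c ^ y` -/
def vec (x y : ℤ) : V P := Multiplicative.ofAdd (QuotientAddGroup.mk (s := rel P) (x, y))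

theorem vec_mul (x y x' y' : ℤ) : vec P x y * vec P x' y' = vec P (x + x') (y + y') := rfl

theorem vec_inv (x y : ℤ) : (vec P x y)⁻¹ = vec P (-x) (-y) := rfl

theorem vec_zero : vec P 0 0 = 1 := rfl

theorem vec_zpow (x y j : ℤ) : vec P x y ^ j = vec P (j * x) (j * y) := by
  show Multiplicative.ofAdd (j • (QuotientAddGroup.mk (s := rel P) (x, y))) = _
  rw [← QuotientAddGroup.mk_zsmul]; simp [vec]

theorem vec_eq_iff {x y x' y' : ℤ} :
    vec P x y = vec P x' y' ↔ ∃ u : ℤ, x' - x = u * P.d ∧ (P.N : ℤ) ∣ (y' - y) + u * P.k := by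
  rw [vec, vec, Multiplicative.ofAdd.injective.eq_iff, QuotientAddGroup.eq, mem_rel]
  simp [sub_eq_neg_add]

theorem vec_surjective (v : V P) : ∃ x y, v = vec P x y := by
  obtain ⟨⟨x, y⟩, h⟩ := QuotientAddGroup.mk_surjective (Multiplicative.toAdd v)
  exact ⟨x, y, by rw [vec, h]; rfl⟩

/-- the linear map underlying `β` -/
def βAdd : ℤ × ℤ →+ ℤ × ℤ where
  toFun v := (v.1, v.1 + P.r * v.2)
  map_zero' := by simp
  map_add' v w := by simp only [Prod.fst_add, Prod.snd_add, Prod.mk_add_mk]; ring_nf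

/-- `β` as an endomorphism -/
def βHom : V P →* V P :=
  AddMonoidHom.toMultiplicative (QuotientAddGroup.map (rel P) (rel P) (βAdd P) (by
    rintro ⟨x, y⟩ ⟨u, h1, h2⟩
    refine ⟨u, h1, ?_⟩
    simp only at h1 h2
    show (P.N : ℤ) ∣ x + (P.r : ℤ) * y + u * P.k
    have h := dvd_add (h2.mul_left (P.r : ℤ)) (P.hβ.mul_left u)
    rwa [show (P.r : ℤ) * (y + u * P.k) + u * ((P.d : ℤ) - ((P.r : ℤ) - 1) * P.k) =
      x + (P.r : ℤ) * y + u * P.k by rw [h1]; ring] at h))

theorem βHom_vec (x y : ℤ) : βHom P (vec P x y) = vec P x (x + P.r * y) := rfl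

theorem βHom_iterate (j : ℕ) (x y : ℤ) :
    (⇑(βHom P))^[j] (vec P x y) = vec P x (x * ∑ i ∈ Finset.range j, (P.r : ℤ) ^ i + (P.r : ℤ) ^ j * y) := by
  induction j with
  | zero => simp
  | succ j ih =>
    rw [Function.iterate_succ_apply', ih, βHom_vec, geom_sum_succ, pow_succ]
    congr 1
    ring

theorem βHom_iterate_n : (⇑(βHom P))^[P.n] = id := by
  funext v
  obtain ⟨x, y, rfl⟩ := vec_surjective P v
  rw [βHom_iterate, id, vec_eq_iff]
  refine ⟨0, by simp, ?_⟩
  have h := (dvd_add (P.hS.mul_left x) (P.hrn.mul_left y)).neg_right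
  rwa [show -(x * ∑ i ∈ Finset.range P.n, (P.r : ℤ) ^ i + y * ((P.r : ℤ) ^ P.n - 1)) =
    y - (x * ∑ i ∈ Finset.range P.n, (P.r : ℤ) ^ i + (P.r : ℤ) ^ P.n * y) + 0 * P.k by ring] at h

theorem βHom_bijective : Function.Bijective (βHom P) := by
  obtain ⟨j, hj⟩ := Nat.exists_eq_add_of_le' P.hn
  have h := βHom_iterate_n P
  rw [hj] at h
  refine ⟨fun v w e => ?_, fun v => ⟨(⇑(βHom P))^[j] v, ?_⟩⟩
  · have := congrArg (⇑(βHom P))^[j] e
    rwa [← Function.iterate_succ_apply (f := ⇑(βHom P)), ← Function.iterate_succ_apply (f := ⇑(βHom P)), h] at this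
  · rw [← Function.iterate_succ_apply' (f := ⇑(βHom P)), h]; rfl

/-- `β` -/
noncomputable def β : MulAut (V P) := MulEquiv.ofBijective (βHom P) (βHom_bijective P)

theorem β_vec (x y : ℤ) : β P (vec P x y) = vec P x (x + P.r * y) := rfl

theorem β_pow_n : β P ^ P.n = 1 := by
  have key : ∀ j : ℕ, ∀ v, (β P ^ j) v = (⇑(βHom P))^[j] v := by
    intro j
    induction j with
    | zero => intro v; simp
    | succ j ih => intro v; rw [pow_succ', MulAut.mul_apply, ih, Function.iterate_succ_apply']; rfl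
  ext v
  rw [key, βHom_iterate_n]; rfl

/-- the action of the infinite cyclic group -/
noncomputable def act : Multiplicative ℤ →* MulAut (V P) := zpowersHom _ (β P)

/-- `b ^ n = a ^ t` -/
noncomputable def omega : V P ⋊[act P] Multiplicative ℤ :=
  ⟨(vec P P.t 0)⁻¹, Multiplicative.ofAdd (P.n : ℤ)⟩

theorem act_fix (z : Multiplicative ℤ) : act P z (vec P P.t 0) = vec P P.t 0 := by
  have h : β P (vec P P.t 0) = vec P P.t 0 := by
    rw [β_vec, vec_eq_iff]
    exact ⟨0, by simp, by simpa using P.ht⟩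
  show (β P ^ Multiplicative.toAdd z) _ = _
  generalize Multiplicative.toAdd z = j
  induction j using Int.induction_on with
  | zero => simp
  | succ j ih => rw [zpow_add_one, MulAut.mul_apply, h, ih]
  | pred j ih =>
    have h' : (β P)⁻¹ (vec P P.t 0) = vec P P.t 0 := by
      conv_lhs => rw [← h]
      exact (β P).symm_apply_apply _
    rw [zpow_sub_one, MulAut.mul_apply, h', ih]

theorem omega_mem_center : omega P ∈ Subgroup.center (V P ⋊[act P] Multiplicative ℤ) := by
  refine Subgroup.mem_center_iff.2 fun g => SemidirectProduct.ext ?_ (mul_comm _ _)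
  have h1 : act P (Multiplicative.ofAdd (P.n : ℤ)) g.left = g.left := by
    show (β P ^ (P.n : ℤ)) g.left = g.left
    rw [zpow_natCast, β_pow_n]; rfl
  show g.left * act P g.right (vec P P.t 0)⁻¹ = (vec P P.t 0)⁻¹ * act P (Multiplicative.ofAdd (P.n : ℤ)) g.left
  rw [map_inv, act_fix, h1, mul_comm]

instance normal_omega : (Subgroup.zpowers (omega P)).Normal :=
  ⟨fun x hx g => by
    rw [Subgroup.mem_center_iff.1 ((Subgroup.zpowers_le.2 (omega_mem_center P)) hx) g, mul_inv_cancel_right]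
    exact hx⟩

/-- the model -/
abbrev Model : Type := (V P ⋊[act P] Multiplicative ℤ) ⧸ Subgroup.zpowers (omega P)

/-- the embedding of `V` -/
noncomputable def emb : V P →* Model P :=
  (QuotientGroup.mk' _).comp SemidirectProduct.inl

/-- the generator inducing `β` -/
noncomputable def B : Model P := QuotientGroup.mk' _ (SemidirectProduct.inr (Multiplicative.ofAdd 1))

/-- the generator `a` -/
noncomputable def A : Model P := emb P (vec P 1 0)

theorem emb_injective : Function.Injective (emb P) := by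
  rw [injective_iff_map_eq_one]
  intro v hv
  obtain ⟨j, hj⟩ := Subgroup.mem_zpowers_iff.1 ((QuotientGroup.eq_one_iff _).1 hv)
  have h := congrArg SemidirectProduct.rightHom hj
  rw [map_zpow, SemidirectProduct.rightHom_inl] at h
  have h2 := congrArg Multiplicative.toAdd h
  simp [omega, P.hn.ne'] at h2
  rw [h2, zpow_zero] at hj
  exact (congrArg SemidirectProduct.left hj).symm

theorem B_conj (v : V P) : B P * emb P v * (B P)⁻¹ = emb P (β P v) := by
  rw [B, emb, MonoidHom.comp_apply, MonoidHom.comp_apply, ← map_inv, ← map_mul, ← map_mul,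
    ← map_inv, ← SemidirectProduct.inl_aut]
  congr 2

theorem B_pow_n : B P ^ P.n = emb P (vec P P.t 0) := by
  rw [B, ← map_pow, ← map_pow, ← ofAdd_nsmul, nsmul_one, emb, MonoidHom.comp_apply, eq_comm,
    QuotientGroup.mk'_apply, QuotientGroup.mk'_apply, QuotientGroup.eq]
  refine Subgroup.mem_zpowers_iff.2 ⟨1, ?_⟩
  rw [zpow_one, ← map_inv]
  refine SemidirectProduct.ext ?_ ?_ <;> simp [omega]

theorem exists_normal_form (q : Model P) : ∃ (v : V P) (j : ℤ), q = emb P v * B P ^ j := by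
  obtain ⟨g, rfl⟩ := QuotientGroup.mk'_surjective _ q
  refine ⟨g.left, Multiplicative.toAdd g.right, ?_⟩
  have e : Multiplicative.ofAdd (1 : ℤ) ^ Multiplicative.toAdd g.right = g.right :=
    Multiplicative.toAdd.injective (by simp)
  rw [emb, B, MonoidHom.comp_apply, ← map_zpow, ← map_zpow, e, ← map_mul,
    SemidirectProduct.inl_left_mul_inr_right]

theorem eq_one_of_normal_form {v : V P} {j : ℤ} (h : emb P v * B P ^ j = 1) : (P.n : ℤ) ∣ j := by
  rw [emb, B, MonoidHom.comp_apply, ← map_zpow, ← map_mul, QuotientGroup.mk'_apply,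
    QuotientGroup.eq_one_iff, Subgroup.mem_zpowers_iff] at h
  obtain ⟨i, hi⟩ := h
  have h2 := congrArg SemidirectProduct.rightHom hi
  rw [map_mul, map_zpow, map_zpow, SemidirectProduct.rightHom_inl, SemidirectProduct.rightHom_inr, one_mul,
    show SemidirectProduct.rightHom (omega P) = Multiplicative.ofAdd (P.n : ℤ) from rfl, ← ofAdd_zsmul,
    ← ofAdd_zsmul, Multiplicative.ofAdd.injective.eq_iff, smul_eq_mul, smul_eq_mul, mul_one] at h2
  exact ⟨i, by rw [mul_comm]; exact h2.symm⟩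

section Lift

variable {C : Type u} [Group C] (a c b : C) (hac : Commute a c) (hd : a ^ (P.d : ℤ) = c ^ P.k)
  (hN : c ^ P.N = 1) (hba : b * a * b⁻¹ = a * c) (hbc : b * c * b⁻¹ = c ^ P.r) (hbn : b ^ P.n = a ^ P.t)

include hac hd hN hba hbc hbn

theorem exists_hom : ∃ F : Model P →* C, (∀ x y, F (emb P (vec P x y)) = a ^ x * c ^ y) ∧ F (B P) = b := by
  let f₀ : Multiplicative (ℤ × ℤ) →* C :=
    { toFun := fun v => a ^ (Multiplicative.toAdd v).1 * c ^ (Multiplicative.toAdd v).2
      map_one' := by simp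
      map_mul' := fun v w => by
        simp only [toAdd_mul, Prod.fst_add, Prod.snd_add, zpow_add]
        rw [mul_assoc, ← mul_assoc (a ^ (Multiplicative.toAdd w).1), (hac.zpow_zpow _ _).eq]
        group }
  let f₁ : (ℤ × ℤ) ⧸ rel P →+ Additive C := QuotientAddGroup.lift _ (MonoidHom.toAdditiveRight f₀) (by
    rintro ⟨x, y⟩ ⟨u, h1, w, h2⟩
    simp only at h1 h2
    show Additive.ofMul (a ^ x * c ^ y) = 0
    have hy : y = P.N * w + (-u) * P.k := by linarith
    rw [h1, hy, mul_comm u, zpow_mul, hd, ← zpow_mul, ← zpow_add, show P.k * u + ((P.N : ℤ) * w + -u * P.k) = P.N * w by ring,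
      zpow_mul, zpow_natCast, hN, one_zpow]
    rfl)
  let f : V P →* C := AddMonoidHom.toMultiplicativeLeft f₁
  have hf : ∀ x y, f (vec P x y) = a ^ x * c ^ y := fun x y => rfl
  have hone : ∀ v, f (β P v) = b * f v * b⁻¹ := by
    intro v
    obtain ⟨x, y, rfl⟩ := vec_surjective P v
    have e : b * (a ^ x * c ^ y) * b⁻¹ = (b * a * b⁻¹) ^ x * (b * c * b⁻¹) ^ y := by
      rw [conj_zpow, conj_zpow]; group
    rw [β_vec, hf, hf, e, hba, hbc, hac.mul_zpow, ← zpow_natCast c P.r, ← zpow_mul, zpow_add]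
    group
  have hall : ∀ j : ℤ, ∀ v, f ((β P ^ j) v) = b ^ j * f v * (b ^ j)⁻¹ := by
    intro j
    induction j using Int.induction_on with
    | zero => simp
    | succ j ih => intro v; rw [zpow_add_one, MulAut.mul_apply, ih, hone, zpow_add_one]; group
    | pred j ih =>
      intro v
      have h := hone ((β P)⁻¹ v)
      rw [show β P ((β P)⁻¹ v) = v from (β P).apply_symm_apply v] at h
      rw [zpow_sub_one, MulAut.mul_apply, ih, h, zpow_sub_one]
      group
  let F₀ : V P ⋊[act P] Multiplicative ℤ →* C := SemidirectProduct.lift f (zpowersHom C b) fun g => by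
    refine MonoidHom.ext fun v => ?_
    show f ((β P ^ Multiplicative.toAdd g) v) = b ^ Multiplicative.toAdd g * f v * (b ^ Multiplicative.toAdd g)⁻¹
    exact hall _ v
  refine ⟨QuotientGroup.lift _ F₀ (Subgroup.zpowers_le.2 ?_), fun x y => ?_, ?_⟩
  · show f (vec P P.t 0)⁻¹ * b ^ (P.n : ℤ) = 1
    rw [map_inv, hf, zpow_zero, mul_one, zpow_natCast, zpow_natCast, hbn, inv_mul_cancel]
  · show F₀ (SemidirectProduct.inl _) = _
    rw [SemidirectProduct.lift_inl, hf]
  · show F₀ (SemidirectProduct.inr _) = _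
    rw [SemidirectProduct.lift_inr]
    exact zpow_one b

end Lift

end CfsgLib.Schur.Meta
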