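import Cfsg.Agent.Lib.Schur.Multiplier
import Cfsg.Agent.Lib.Schur.TwoGen
import Cfsg.Agent.Lib.Schur.MetacyclicModel

/-!
# The multiplier of a metacyclic group
-/

set_option autoImplicit false

open scoped commutatorElement

namespace CfsgLib.Schur.Meta

universe u

/-- The arithmetic behind the parameters. -/
theorem arith {m n r : ℕ} (hm : 0 < m) (hr : 0 < r) (hrn : r ^ n ≡ 1 [MOD m]) (l : ℕ) :
    ∃ (e : ℕ) (k : ℤ), 0 < e ∧ m = Nat.gcd m (r - 1) * e ∧
      (m : ℤ) ∣ (Nat.gcd m (r - 1) : ℤ) - ((r : ℤ) - 1) * k ∧ (m : ℤ) ∣ (r : ℤ) ^ n - 1 ∧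
      (∀ u : ℤ, (e : ℤ) ∣ u * k → (e : ℤ) ∣ u) ∧
      (∀ j : ℤ, (m : ℤ) ∣ ((r : ℤ) - 1) * j → (e : ℤ) ∣ j) ∧
      e ∣ ∑ i ∈ Finset.range n, r ^ i ∧ m * l / Nat.gcd m (r - 1) = e * l ∧
      Nat.gcd (e * l) (Nat.gcd m (∑ i ∈ Finset.range n, r ^ i)) =
        e * Nat.gcd l (Nat.gcd m (r - 1) * Nat.gcd m (∑ i ∈ Finset.range n, r ^ i) / m) := by
  set d := Nat.gcd m (r - 1) with hd
  obtain ⟨e, he⟩ := Nat.gcd_dvd_left m (r - 1)
  obtain ⟨q, hq⟩ := Nat.gcd_dvd_right m (r - 1)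
  rw [← hd] at he hq
  have hd0 : 0 < d := Nat.gcd_pos_of_pos_left _ hm
  have he0 : 0 < e := Nat.pos_of_ne_zero fun h => by rw [h, mul_zero] at he; omega
  have hr1 : (r : ℤ) - 1 = (d : ℤ) * q := by
    have h : ((r - 1 : ℕ) : ℤ) = ((d * q : ℕ) : ℤ) := by rw [← hq]
    push_cast [Nat.cast_sub hr] at h
    linarith
  have hmz : (m : ℤ) = (d : ℤ) * e := by
    have h : (m : ℤ) = ((d * e : ℕ) : ℤ) := by rw [← he]
    push_cast at h
    exact h
  set x := Nat.gcdA m (r - 1)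
  set k := Nat.gcdB m (r - 1)
  have hbez : (d : ℤ) = m * x + ((r : ℤ) - 1) * k := by
    have h := Nat.gcd_eq_gcd_ab m (r - 1)
    rw [← hd, Nat.cast_sub hr, Nat.cast_one] at h
    exact h
  have hone : (e : ℤ) * x + q * k = 1 := by
    have h : (d : ℤ) * ((e : ℤ) * x + q * k) = (d : ℤ) * 1 := by
      rw [hmz, hr1] at hbez; linear_combination -hbez
    exact mul_left_cancel₀ (Int.natCast_ne_zero.2 hd0.ne') h
  have hrnz : (m : ℤ) ∣ (r : ℤ) ^ n - 1 := by
    have h := (Nat.modEq_iff_dvd.1 hrn.symm)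
    push_cast at h
    exact h
  have hS : e ∣ ∑ i ∈ Finset.range n, r ^ i := by
    have h : (d : ℤ) * e ∣ (d : ℤ) * (∑ i ∈ Finset.range n, (r : ℤ) ^ i) * q := by
      rw [← hmz]
      have := hrnz
      rw [← geom_sum_mul, hr1] at this
      convert this using 1
      ring
    rw [mul_assoc] at h
    have h' := Int.dvd_of_mul_dvd_mul_left (Int.natCast_ne_zero.2 hd0.ne') h
    rw [← Int.natCast_dvd_natCast]
    push_cast
    have h2 : (∑ i ∈ Finset.range n, (r : ℤ) ^ i) =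
        (∑ i ∈ Finset.range n, (r : ℤ) ^ i) * e * x + (∑ i ∈ Finset.range n, (r : ℤ) ^ i) * q * k := by
      linear_combination -(∑ i ∈ Finset.range n, (r : ℤ) ^ i) * hone
    rw [h2]
    exact dvd_add ((dvd_mul_left _ _).mul_right x) (h'.mul_right k)
  refine ⟨e, k, he0, he, ⟨x, by linarith⟩, hrnz, fun u hu => ?_, fun j hj => ?_, hS, ?_, ?_⟩
  · have h2 : u = (e : ℤ) * (x * u) + (u * k) * q := by linear_combination -u * hone
    rw [h2]
    exact dvd_add (dvd_mul_right _ _) (hu.mul_right _)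
  · rw [hmz, hr1, mul_assoc] at hj
    have h' := Int.dvd_of_mul_dvd_mul_left (Int.natCast_ne_zero.2 hd0.ne') hj
    have h2 : j = (e : ℤ) * (x * j) + (q * j) * k := by linear_combination -j * hone
    rw [h2]
    exact dvd_add (dvd_mul_right _ _) (h'.mul_right _)
  · rw [he, mul_assoc, Nat.mul_div_cancel_left _ hd0]
  · have hem : e ∣ m := ⟨d, by rw [he, mul_comm]⟩
    obtain ⟨h, hh⟩ := Nat.dvd_gcd hem hS
    have hdiv : d * Nat.gcd m (∑ i ∈ Finset.range n, r ^ i) / m = h := by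
      rw [hh, ← mul_assoc, ← he, Nat.mul_div_cancel_left _ hm]
    rw [hdiv, hh, Nat.gcd_mul_left]

/-- The relators of the metacyclic presentation. -/
abbrev rels (m n r t : ℕ) : Set (FreeGroup Bool) :=
  {FreeGroup.of true ^ m, (FreeGroup.of false) ^ n * (FreeGroup.of true ^ t)⁻¹,
    FreeGroup.of false * FreeGroup.of true * (FreeGroup.of false)⁻¹ * (FreeGroup.of true ^ r)⁻¹}

variable {m n r t : ℕ}

theorem ga_pow : (PresentedGroup.of true : PresentedGroup (rels m n r t)) ^ m = 1 := by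
  rw [PresentedGroup.of, ← map_pow]
  exact PresentedGroup.one_of_mem (Or.inl rfl)

theorem gb_pow : (PresentedGroup.of false : PresentedGroup (rels m n r t)) ^ n = PresentedGroup.of true ^ t := by
  rw [PresentedGroup.of, PresentedGroup.of, ← map_pow, ← map_pow]
  exact PresentedGroup.mk_eq_mk_of_mul_inv_mem (Or.inr (Or.inl rfl))

theorem gba : (PresentedGroup.of false : PresentedGroup (rels m n r t)) * PresentedGroup.of true *
    (PresentedGroup.of false)⁻¹ = PresentedGroup.of true ^ r := by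
  rw [PresentedGroup.of, PresentedGroup.of, ← map_inv, ← map_mul, ← map_mul, ← map_pow]
  exact PresentedGroup.mk_eq_mk_of_mul_inv_mem (Or.inr (Or.inr rfl))

section Generic

variable {Γ : Type u} [Group Γ]

/-- conjugating by powers of `B` -/
theorem conj_pow_eq {A B c : Γ} (hba : B * A * B⁻¹ = c * A) (hbc : B * c * B⁻¹ = c ^ r) (j : ℕ) :
    B ^ j * A * (B ^ j)⁻¹ = c ^ (∑ i ∈ Finset.range j, r ^ i) * A := by
  induction j with
  | zero => simp
  | succ j ih =>
    calc B ^ (j + 1) * A * (B ^ (j + 1))⁻¹ = B * (B ^ j * A * (B ^ j)⁻¹) * B⁻¹ := by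
          rw [pow_succ']; group
      _ = (B * c * B⁻¹) ^ (∑ i ∈ Finset.range j, r ^ i) * (B * A * B⁻¹) := by
          rw [ih, conj_pow]; group
      _ = _ := by rw [hba, hbc, ← pow_mul, geom_sum_succ, pow_succ, mul_assoc]

theorem pow_eq_one_of_commute_pow {A B c : Γ} (hac : Commute A c) (hba : B * A * B⁻¹ = c * A) {i : ℕ}
    (h : Commute B (A ^ i)) : c ^ i = 1 := by
  have h1 : (B * A * B⁻¹) ^ i = A ^ i := by
    rw [conj_pow, h.eq, mul_inv_cancel_right]
  rw [hba, hac.symm.mul_pow] at h1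
  simpa using h1

end Generic

theorem hasCyclicSchurMultiplier (hm : 0 < m) (hn : 0 < n) (hr : 0 < r) (hrn : r ^ n ≡ 1 [MOD m]) (l : ℕ)
    (ht : m * l / Nat.gcd m (r - 1) = t) :
    Cfsg.HasCyclicSchurMultiplier (PresentedGroup (rels m n r t))
      (Nat.gcd l (Nat.gcd m (r - 1) * Nat.gcd m (∑ i ∈ Finset.range n, r ^ i) / m)) := by
  classical
  obtain ⟨e, k, he0, he, hk, hrnz, hek, hej, heS, het, hN⟩ := arith (n := n) hm hr hrn l
  set d := Nat.gcd m (r - 1)
  set S := ∑ i ∈ Finset.range n, r ^ i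
  set g := Nat.gcd l (d * Nat.gcd m S / m)
  set N := Nat.gcd (e * l) (Nat.gcd m S) with hNdef
  rw [het] at ht
  have hNm : N ∣ m := (Nat.gcd_dvd_right _ _).trans (Nat.gcd_dvd_left _ _)
  have hNS : N ∣ S := (Nat.gcd_dvd_right _ _).trans (Nat.gcd_dvd_right _ _)
  have hNt : N ∣ t := ht ▸ Nat.gcd_dvd_left _ _
  have heN : e ∣ N := Nat.dvd_gcd (dvd_mul_right _ _) (Nat.dvd_gcd ⟨d, by rw [he, mul_comm]⟩ heS)
  have hN0 : 0 < N := Nat.pos_of_dvd_of_pos hNm hm
  have hg0 : 0 < g := Nat.pos_of_mul_pos_left (a := e) (by rw [← hN]; exact hN0)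
  have cast : ∀ {M : ℕ}, M ∣ m → (M : ℤ) ∣ (d : ℤ) - ((r : ℤ) - 1) * k ∧ (M : ℤ) ∣ (r : ℤ) ^ n - 1 :=
    fun h => ⟨(Int.natCast_dvd_natCast.2 h).trans hk, (Int.natCast_dvd_natCast.2 h).trans hrnz⟩
  have hSz : ∀ {M : ℕ}, M ∣ S → (M : ℤ) ∣ ∑ i ∈ Finset.range n, (r : ℤ) ^ i := fun h => by
    have := Int.natCast_dvd_natCast.2 h
    simpa [S] using this
  let P : Par := ⟨d, N, n, r, t, k, hn, (cast hNm).1, hSz hNS, (cast hNm).2, Int.natCast_dvd_natCast.2 hNt⟩
  let P₀ : Par := ⟨d, e, n, r, t, k, hn, (cast (heN.trans hNm)).1, hSz heS, (cast (heN.trans hNm)).2,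
    Int.natCast_dvd_natCast.2 (ht ▸ dvd_mul_right _ _)⟩
  set G := PresentedGroup (rels m n r t)
  let ga : G := PresentedGroup.of true
  let gb : G := PresentedGroup.of false
  have hga : ga ^ (m : ℤ) = 1 := by rw [zpow_natCast]; exact ga_pow
  have hdvd : ∀ z : ℤ, (m : ℤ) ∣ z → ga ^ z = 1 := by
    rintro z ⟨w, rfl⟩; rw [zpow_mul, hga, one_zpow]
  -- the map to the smallest model
  have hπ : ∀ w ∈ rels m n r t,
      FreeGroup.lift (fun i => if i then A P₀ else B P₀) w = 1 := by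
    intro w hw
    rcases hw with rfl | rfl | rfl
    · simp only [map_pow, FreeGroup.lift_apply_of, if_true]
      rw [A, ← map_pow, ← zpow_natCast, vec_zpow, ← map_one (emb P₀)]
      refine congrArg _ ((vec_eq_iff P₀).2 ⟨-(e : ℤ), ?_, ?_⟩)
      · show (0 : ℤ) - m * 1 = -(e : ℤ) * d
        rw [he]; push_cast; ring
      · exact ⟨-k, by show (0 : ℤ) - m * 0 + -(e : ℤ) * k = (e : ℤ) * -k; ring⟩
    · simp only [map_mul, map_inv, map_pow, FreeGroup.lift_apply_of, if_true, Bool.false_eq_true, if_false]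
      rw [mul_inv_eq_one, A, ← map_pow, ← zpow_natCast (vec P₀ 1 0), vec_zpow, mul_one, mul_zero]
      exact B_pow_n P₀
    · simp only [map_mul, map_inv, map_pow, FreeGroup.lift_apply_of, if_true, Bool.false_eq_true, if_false]
      rw [mul_inv_eq_one, A, ← map_pow, B_conj, β_vec, ← zpow_natCast (vec P₀ 1 0), vec_zpow]
      refine congrArg _ ((vec_eq_iff P₀).2 ?_)
      obtain ⟨q, hq⟩ : (d : ℤ) ∣ (r : ℤ) - 1 := by
        have h := Int.natCast_dvd_natCast.2 (Nat.gcd_dvd_right m (r - 1))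
        rwa [Nat.cast_sub hr, Nat.cast_one] at h
      refine ⟨q, ?_, ?_⟩
      · show (r : ℤ) * 1 - 1 = q * d
        rw [mul_one, hq, mul_comm]
      · show (e : ℤ) ∣ (r : ℤ) * 0 - (1 + (r : ℤ) * 0) + q * k
        have hd' : (d : ℤ) ≠ 0 := Int.natCast_ne_zero.2 (Nat.gcd_pos_of_pos_left _ hm).ne'
        refine Int.dvd_of_mul_dvd_mul_left hd' ?_
        have h := hk.neg_right
        rw [show (m : ℤ) = (d : ℤ) * e by rw [he]; push_cast; ring] at h
        refine dvd_trans h (dvd_of_eq ?_)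
        rw [hq]; ring
  let π : G →* Model P₀ := PresentedGroup.toGroup hπ
  have hπa : π ga = A P₀ := PresentedGroup.toGroup.of hπ
  have hπb : π gb = B P₀ := PresentedGroup.toGroup.of hπ
  have horder : ∀ z : ℤ, ga ^ z = 1 → (m : ℤ) ∣ z := by
    intro z hz
    have h := congrArg π hz
    rw [map_zpow, hπa, map_one, A, ← map_zpow, vec_zpow, ← map_one (emb P₀)] at h
    obtain ⟨u, h1, h2⟩ := (vec_eq_iff P₀).1 (emb_injective P₀ h)
    have h2' : (e : ℤ) ∣ u * k := by
      have : (e : ℤ) ∣ (0 : ℤ) - z * 0 + u * k := h2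
      simpa using this
    obtain ⟨w, hw⟩ := hek u h2'
    refine ⟨-w, ?_⟩
    have h1' : (0 : ℤ) - z * 1 = u * d := h1
    rw [he]; push_cast
    rw [hw] at h1'
    linear_combination -h1'
  -- the witness
  have hac : Commute ga (ga ^ ((r : ℤ) - 1)) := Commute.self_zpow ga _
  have hd' : ga ^ (P.d : ℤ) = (ga ^ ((r : ℤ) - 1)) ^ P.k := by
    rw [← zpow_mul, ← mul_inv_eq_one, ← zpow_sub]; exact hdvd _ hk
  have hN' : (ga ^ ((r : ℤ) - 1)) ^ P.N = 1 := by
    rw [← zpow_natCast (ga ^ ((r : ℤ) - 1)), ← zpow_mul]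
    refine hdvd _ ((Dvd.dvd.trans ?_ (mul_dvd_mul_left _ (Int.natCast_dvd_natCast.2 heN))))
    obtain ⟨q, hq⟩ : (d : ℤ) ∣ (r : ℤ) - 1 := by
      have h := Int.natCast_dvd_natCast.2 (Nat.gcd_dvd_right m (r - 1))
      rwa [Nat.cast_sub hr, Nat.cast_one] at h
    refine ⟨q, ?_⟩
    rw [hq, he]; push_cast; ring
  have hba : gb * ga * gb⁻¹ = ga * ga ^ ((r : ℤ) - 1) := by
    rw [← zpow_one_add, add_sub_cancel, zpow_natCast]; exact gba
  have hbc : gb * ga ^ ((r : ℤ) - 1) * gb⁻¹ = (ga ^ ((r : ℤ) - 1)) ^ P.r := by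
    rw [← conj_zpow, show gb * ga * gb⁻¹ = ga ^ r from gba, ← zpow_natCast ga r, ← zpow_mul,
      ← zpow_natCast (ga ^ ((r : ℤ) - 1)), ← zpow_mul, mul_comm]
  obtain ⟨σ, hσv, hσB⟩ := exists_hom P ga (ga ^ ((r : ℤ) - 1)) gb hac hd' hN' hba hbc gb_pow
  have hσA : σ (A P) = ga := by rw [A, hσv, zpow_one, zpow_zero, mul_one]
  let C : Model P := emb P (vec P 0 1)
  let w : Model P := emb P (vec P 0 e)
  have hwC : w = C ^ (e : ℤ) := by rw [← map_zpow, vec_zpow, mul_zero, mul_one]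
  have hcomm : C = ⁅B P, A P⁆ := by
    rw [commutatorElement_def, A, B_conj, ← map_inv, ← map_mul, β_vec, vec_inv, vec_mul]
    refine congrArg _ ?_
    norm_num
  have hsurj : Function.Surjective σ := by
    rw [← MonoidHom.range_eq_top, eq_top_iff, ← PresentedGroup.closure_range_of (rels m n r t),
      Subgroup.closure_le]
    rintro _ ⟨i, rfl⟩
    cases i
    · exact ⟨B P, hσB⟩
    · exact ⟨A P, hσA⟩
  have hker : σ.ker = Subgroup.zpowers w := by
    refine le_antisymm ?_ (Subgroup.zpowers_le.2 ?_)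
    · intro q hq
      obtain ⟨v, j, rfl⟩ := exists_normal_form P q
      obtain ⟨x, y, rfl⟩ := vec_surjective P v
      have hq' : ga ^ x * (ga ^ ((r : ℤ) - 1)) ^ y * gb ^ j = 1 := by
        rw [← hσv, ← hσB, ← map_zpow, ← map_mul]; exact hq
      have h := congrArg π hq'
      rw [← zpow_mul, ← zpow_add, map_mul, map_zpow, map_zpow, hπa, hπb, map_one, A, ← map_zpow] at h
      obtain ⟨i, hi⟩ := eq_one_of_normal_form P₀ h
      have hB : B P ^ j = emb P (vec P (i * t) 0) := by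
        rw [hi, zpow_mul, zpow_natCast, B_pow_n, ← map_zpow, vec_zpow, mul_zero]
      rw [hB, ← map_mul, vec_mul, add_zero] at hq ⊢
      have hq2 : ga ^ (x + i * t) * (ga ^ ((r : ℤ) - 1)) ^ y = 1 := by rw [← hσv]; exact hq
      rw [← zpow_mul, ← zpow_add] at hq2
      obtain ⟨s, hs⟩ := horder _ hq2
      -- the class lies in the powers of `w`
      obtain ⟨q', hq''⟩ : (d : ℤ) ∣ (r : ℤ) - 1 := by
        have h := Int.natCast_dvd_natCast.2 (Nat.gcd_dvd_right m (r - 1))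
        rwa [Nat.cast_sub hr, Nat.cast_one] at h
      have hx : x + i * t = ((e : ℤ) * s - q' * y) * d := by
        rw [hq'', show (m : ℤ) = (d : ℤ) * e by rw [he]; push_cast; ring] at hs
        linear_combination hs
      have hey : (e : ℤ) ∣ y + ((e : ℤ) * s - q' * y) * k := by
        have hd'' : (d : ℤ) ≠ 0 := Int.natCast_ne_zero.2 (Nat.gcd_pos_of_pos_left _ hm).ne'
        refine Int.dvd_of_mul_dvd_mul_left hd'' ?_
        rw [show (d : ℤ) * e = m by rw [he]; push_cast; ring]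
        have h := dvd_add (hk.mul_left y) (dvd_mul_right (m : ℤ) (s * k))
        refine dvd_trans h (dvd_of_eq ?_)
        rw [hq'', show (m : ℤ) = (d : ℤ) * e by rw [he]; push_cast; ring]; ring
      obtain ⟨z, hz⟩ := hey
      refine Subgroup.mem_zpowers_iff.2 ⟨z, ?_⟩
      show emb P (vec P 0 e) ^ z = _
      rw [← map_zpow, vec_zpow]
      refine congrArg _ ((vec_eq_iff P).2 ⟨(e : ℤ) * s - q' * y, ?_, ?_⟩)
      · rw [mul_zero, sub_zero]; exact hx
      · show (N : ℤ) ∣ y - z * e + ((e : ℤ) * s - q' * y) * k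
        exact (show y - z * e + ((e : ℤ) * s - q' * y) * k = 0 by linarith) ▸ dvd_zero _
    · show σ w = 1
      rw [hσv, zpow_zero, one_mul, ← zpow_mul]
      refine hdvd _ ?_
      obtain ⟨q, hq⟩ : (d : ℤ) ∣ (r : ℤ) - 1 := by
        have h := Int.natCast_dvd_natCast.2 (Nat.gcd_dvd_right m (r - 1))
        rwa [Nat.cast_sub hr, Nat.cast_one] at h
      exact ⟨q, by rw [hq, he]; push_cast; ring⟩
  have hcw : w ∈ Subgroup.center (Model P) := by
    refine Subgroup.mem_center_iff.2 fun q => ?_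
    obtain ⟨v, j, rfl⟩ := exists_normal_form P q
    have h1 : Commute (emb P v) w := (Commute.all v (vec P 0 e)).map (emb P)
    have h2 : Commute (B P) w := by
      have h := B_conj P (vec P 0 e)
      have hfix : β P (vec P 0 e) = vec P 0 e := by
        rw [β_vec, vec_eq_iff]
        refine ⟨0, by simp, ?_⟩
        show (N : ℤ) ∣ (e : ℤ) - (0 + (r : ℤ) * e) + 0 * k
        obtain ⟨q, hq⟩ : (d : ℤ) ∣ (r : ℤ) - 1 := by
          have h := Int.natCast_dvd_natCast.2 (Nat.gcd_dvd_right m (r - 1))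
          rwa [Nat.cast_sub hr, Nat.cast_one] at h
        refine (Int.natCast_dvd_natCast.2 hNm).trans ⟨-q, ?_⟩
        rw [he]; push_cast; linear_combination -(e : ℤ) * hq
      rw [hfix] at h
      exact mul_inv_eq_iff_eq_mul.1 h
    exact (h1.mul_left (h2.zpow_left j)).eq
  have hstem : Cfsg.IsStemExtension σ := by
    refine ⟨hsurj, ?_, ?_⟩
    · rw [hker]; exact Subgroup.zpowers_le.2 hcw
    · rw [hker, Subgroup.zpowers_le, hwC]
      refine zpow_mem ?_ _
      rw [hcomm]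
      exact Subgroup.commutator_mem_commutator (Subgroup.mem_top _) (Subgroup.mem_top _)
  have hordw : orderOf w = g := by
    have hwz : ∀ i : ℕ, w ^ i = 1 ↔ g ∣ i := by
      intro i
      rw [← map_pow, ← zpow_natCast, vec_zpow, ← map_one (emb P), (emb_injective P).eq_iff, ← vec_zero,
        vec_eq_iff]
      have hd0 : (d : ℤ) ≠ 0 := Int.natCast_ne_zero.2 (Nat.gcd_pos_of_pos_left _ hm).ne'
      have hdd : ((P.d : ℕ) : ℤ) = (d : ℤ) := rfl
      constructor
      · rintro ⟨u, h1, h2⟩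
        have hu : u = 0 := by
          have h1' : (0 : ℤ) = u * d := by simpa [hdd] using h1
          exact (mul_eq_zero.1 h1'.symm).resolve_right hd0
        have h3 : (N : ℤ) ∣ (i : ℤ) * e := by
          have : (N : ℤ) ∣ (0 : ℤ) - (i : ℤ) * e + u * k := h2
          simpa [hu] using this
        have h4 : N ∣ i * e := by exact_mod_cast h3
        rw [hN, mul_comm i] at h4
        exact Nat.dvd_of_mul_dvd_mul_left he0 h4
      · intro h
        refine ⟨0, by simp, ?_⟩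
        have h4 : N ∣ i * e := by rw [hN, mul_comm i]; exact mul_dvd_mul_left e h
        have h5 : (N : ℤ) ∣ (i : ℤ) * e := by exact_mod_cast h4
        show (N : ℤ) ∣ (0 : ℤ) - (i : ℤ) * e + 0 * k
        simpa using h5
    exact Nat.dvd_antisymm (orderOf_dvd_of_pow_eq_one ((hwz g).2 dvd_rfl)) ((hwz _).1 (pow_orderOf_eq_one w))
  haveI : Finite G := by
    refine Finite.of_surjective (fun p : Fin m × Fin n => ga ^ (p.1 : ℕ) * gb ^ (p.2 : ℕ)) fun q => ?_
    obtain ⟨Q, rfl⟩ := hsurj q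
    obtain ⟨v, j, rfl⟩ := exists_normal_form P Q
    obtain ⟨x, y, rfl⟩ := vec_surjective P v
    have hjn : gb ^ j = ga ^ ((t : ℤ) * (j / n)) * gb ^ (j % n) := by
      conv_lhs => rw [← Int.emod_add_mul_ediv j n]
      rw [add_comm, zpow_add, zpow_mul, zpow_natCast, show gb ^ n = ga ^ t from gb_pow, ← zpow_natCast, ← zpow_mul]
    set z : ℤ := x + ((r : ℤ) - 1) * y + (t : ℤ) * (j / n) with hzz
    have hq : σ (emb P (vec P x y) * B P ^ j) = ga ^ z * gb ^ (j % n) := by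
      rw [map_mul, map_zpow, hσv, hσB, hjn, ← mul_assoc, ← zpow_mul, ← zpow_add, ← zpow_add, hzz]
    have hz0 := Int.emod_nonneg z (Int.natCast_ne_zero.2 hm.ne')
    have hz1 := Int.emod_lt_of_pos z (Int.natCast_pos.2 hm)
    have hj0 := Int.emod_nonneg j (Int.natCast_ne_zero.2 hn.ne')
    have hj1 := Int.emod_lt_of_pos j (Int.natCast_pos.2 hn)
    refine ⟨(⟨(z % m).toNat, by omega⟩, ⟨(j % n).toNat, by omega⟩), ?_⟩
    rw [hq]
    show ga ^ (z % m).toNat * gb ^ (j % n).toNat = _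
    rw [← zpow_natCast, ← zpow_natCast gb, Int.toNat_of_nonneg hz0, Int.toNat_of_nonneg hj0]
    congr 1
    conv_rhs => rw [← Int.emod_add_mul_ediv z m, zpow_add, zpow_mul, hga, one_zpow, mul_one]
  haveI : IsCyclic σ.ker := by rw [hker]; infer_instance
  have hcard : Nat.card σ.ker = g := by rw [hker, Nat.card_zpowers, hordw]
  refine hasSchurMultiplier_of_witness σ hstem
    (hcard ▸ (zmodCyclicMulEquiv (inferInstance : IsCyclic σ.ker)).symm) fun Γ _ _ τ hτ => ?_
  -- the bound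
  haveI : NeZero g := ⟨hg0.ne'⟩
  rw [Nat.card_congr Multiplicative.toAdd, Nat.card_zmod]
  obtain ⟨a, ha⟩ := hτ.1 ga
  obtain ⟨b, hb⟩ := hτ.1 gb
  have hgen : Subgroup.closure ({a, b} : Set Γ) = ⊤ := by
    apply closure_eq_top_of_lift hτ
    rw [Set.image_pair, ha, hb, eq_top_iff, ← PresentedGroup.closure_range_of (rels m n r t),
      Subgroup.closure_le]
    rintro _ ⟨i, rfl⟩
    cases i
    · exact Subgroup.subset_closure (Or.inr rfl)
    · exact Subgroup.subset_closure (Or.inl rfl)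
  set z := (a ^ r)⁻¹ * (b * a * b⁻¹) with hzdef
  have hz : τ z = 1 := by
    rw [hzdef]; simp only [map_mul, map_inv, map_pow, ha, hb]
    rw [inv_mul_eq_one]; exact gba.symm
  have hzc : ∀ x, x * z = z * x := Subgroup.mem_center_iff.1 (hτ.2.1 hz)
  have hzc' : ∀ x, Commute x z := hzc
  set c := ⁅b, a⁆ with hcdef
  have hc : c = a ^ ((r : ℤ) - 1) * z := by
    rw [hcdef, commutatorElement_def, show b * a * b⁻¹ = a ^ r * z from (mul_inv_cancel_left _ _).symm, mul_assoc,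
      ← hzc a⁻¹, ← mul_assoc, zpow_sub_one, zpow_natCast]
  have hac' : Commute a c := by rw [hc]; exact (Commute.self_zpow a _).mul_right (hzc' a)
  have hba' : b * a * b⁻¹ = c * a := by rw [hcdef, commutatorElement_def]; group
  have hbc' : b * c * b⁻¹ = c ^ r := by
    have e1 : b * c * b⁻¹ = (b * a * b⁻¹) ^ ((r : ℤ) - 1) * (b * z * b⁻¹) := by rw [conj_zpow, hc]; group
    have e2 : b * z * b⁻¹ = z := by rw [hzc, mul_inv_cancel_right]
    rw [e1, e2, show b * a * b⁻¹ = a ^ r * z from (mul_inv_cancel_left _ _).symm, (hzc' (a ^ r)).mul_zpow, hc,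
      ((hzc' (a ^ ((r : ℤ) - 1))).mul_pow r), ← zpow_natCast a r, ← zpow_mul, ← zpow_natCast (a ^ _) r, ← zpow_mul,
      mul_assoc, ← zpow_add_one, sub_add_cancel, zpow_natCast, mul_comm]
  have hcent : ∀ {x : Γ}, τ x = 1 → ∀ y, Commute y x := fun hx y => Subgroup.mem_center_iff.1 (hτ.2.1 hx) y
  have hcm : c ^ m = 1 := pow_eq_one_of_commute_pow hac' hba' (hcent (by rw [map_pow, ha]; exact ga_pow) b)
  have hbn : τ ((a ^ t)⁻¹ * b ^ n) = 1 := by
    rw [map_mul, map_inv, map_pow, map_pow, ha, hb, inv_mul_eq_one]; exact gb_pow.symm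
  have hat : a ^ t = b ^ n * ((a ^ t)⁻¹ * b ^ n)⁻¹ := by group
  have hct : c ^ t = 1 := pow_eq_one_of_commute_pow hac' hba' (by
    rw [hat]
    exact (Commute.self_pow b n).mul_right ((hcent hbn b).inv_right))
  have hcS : c ^ S = 1 := by
    have h1 := conj_pow_eq hba' hbc' n
    have h2 : b ^ n = a ^ t * ((a ^ t)⁻¹ * b ^ n) := (mul_inv_cancel_left _ _).symm
    have h3 : Commute (b ^ n) a := by
      rw [h2]
      exact (Commute.pow_self a t).mul_left (hcent hbn a).symm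
    rw [h3.eq, mul_inv_cancel_right] at h1
    exact mul_eq_right.1 h1.symm
  have hcN : c ^ N = 1 := by
    rw [hNdef, pow_gcd_eq_one]
    exact ⟨by rw [ht]; exact hct, by rw [pow_gcd_eq_one]; exact ⟨hcm, hcS⟩⟩
  have hle : commutator Γ ≤ Subgroup.zpowers c := commutator_le_zpowers hgen
    (by rw [hac'.eq, mul_inv_cancel_right]; exact Subgroup.mem_zpowers _)
    (by rw [hbc']; exact pow_mem (Subgroup.mem_zpowers _) _)
  have hsub : τ.ker ≤ Subgroup.zpowers (c ^ e) := by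
    intro x hx
    obtain ⟨j, rfl⟩ := Subgroup.mem_zpowers_iff.1 (hle (hτ.2.2 hx))
    have hx' : ga ^ (((r : ℤ) - 1) * j) = 1 := by
      have h : τ (c ^ j) = 1 := hx
      rw [map_zpow, hc, map_mul, map_zpow, hz, mul_one, ha, ← zpow_mul] at h
      exact h
    obtain ⟨i, hi⟩ := hej j (horder _ hx')
    exact Subgroup.mem_zpowers_iff.2 ⟨i, by rw [hi, zpow_mul, zpow_natCast]⟩
  calc Nat.card τ.ker ≤ Nat.card (Subgroup.zpowers (c ^ e)) := Subgroup.card_le_of_le hsub
    _ = orderOf (c ^ e) := Nat.card_zpowers _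
    _ ≤ g := orderOf_le_of_pow_eq_one hg0 (by rw [← pow_mul, ← hN]; exact hcN)

end CfsgLib.Schur.Meta
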