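import Mathlib
import Cfsg.Agent.Lib.Schur.MonomialWitness
import Cfsg.Agent.Lib.Schur.CheckParts

/-!
# The monomial check, cut into parts
-/

set_option autoImplicit false

namespace CfsgLib.Schur.Cert

open CfsgLib.Sporadic

/-- generators and definitions of a level -/
noncomputable def monGen (n m : ℕ) (l : ChainLevel) (ls : List ChainLevel) (d : List (List ℕ × List ℕ)) : Bool :=
  let P := (d.getD 0 ([], [])).1
  let Pi := (d.getD 0 ([], [])).2
  let P' := ((d.tail).getD 0 ([], [])).1
  let Pi' := ((d.tail).getD 0 ([], [])).2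
  ((List.range l.table.ngen).all fun j => monPairOK n m (P.getD j 0) (Pi.getD j 0)) &&
    decide (l.defs.length = P'.length) && decide (l.defs.length = chainGen ls) &&
    ((List.range l.defs.length).all fun j => ((l.defs.getD j []).all fun y => decide (y.1 < l.table.ngen)) &&
      monPairOK n m (P'.getD j 0) (Pi'.getD j 0) &&
      forallLt n fun x => Nat.beq (meval m P Pi (l.defs.getD j []) (Nat.mul x m)) (mstep m (P'.getD j 0) (Nat.mul x m)))

/-- one relation of a level -/
noncomputable def monRel (n m : ℕ) (l : ChainLevel) (d : List (List ℕ × List ℕ)) (i : ℕ) : Bool :=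
  let P := (d.getD 0 ([], [])).1
  let Pi := (d.getD 0 ([], [])).2
  let r := l.table.rels.getD i ⟨[], [], []⟩
  !r.rhs.isEmpty || ((r.word.all fun y => decide (y.1 < l.table.ngen)) && Nat.blt (meval m P Pi r.word 0) m &&
    forallLt n fun x => Nat.beq (meval m P Pi r.word (Nat.mul x m)) (shiftLab m (meval m P Pi r.word 0) (Nat.mul x m)))

/-- the monomial check of a level from parts -/
theorem monOK_cons {n m : ℕ} {l : ChainLevel} {ls : List ChainLevel} {d : List (List ℕ × List ℕ)}
    (h1 : monGen n m l ls d = true) (h2 : allFrom (monRel n m l d) 0 l.table.rels.length = true)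
    (h3 : monOK n m ls d.tail = true) : monOK n m (l :: ls) d = true := by
  have h2' := all_of_allFrom (p := fun r : Rel => !r.rhs.isEmpty || ((r.word.all fun y => decide (y.1 < l.table.ngen)) &&
    Nat.blt (meval m (d.getD 0 ([], [])).1 (d.getD 0 ([], [])).2 r.word 0) m &&
    forallLt n fun x => Nat.beq (meval m (d.getD 0 ([], [])).1 (d.getD 0 ([], [])).2 r.word (Nat.mul x m))
      (shiftLab m (meval m (d.getD 0 ([], [])).1 (d.getD 0 ([], [])).2 r.word 0) (Nat.mul x m)))) ⟨[], [], []⟩ h2
  simp only [monGen, Bool.and_eq_true] at h1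
  simp only [monOK, Bool.and_eq_true]
  exact ⟨⟨h1, h2'⟩, h3⟩

end CfsgLib.Schur.Cert
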