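import Mathlib
import Cfsg.Agent.Lib.Schur.PermChain
import Cfsg.Agent.Lib.Known.SL2Multiplier

/-!
# Killing the kernel of a stem extension with a chain of coset tables for a subgroup
-/

set_option autoImplicit false

namespace CfsgLib.Schur.Cert

open CfsgLib.Sporadic

variable {G : Type*} [Group G] [Finite G] {n : ℕ} (φ : G →* Equiv.Perm (Fin n))

/-- A chain for a subgroup `U`, with bound `b`, kills `z ^ ([G : U] * b!)` for a kernel element `z`. -/
theorem pow_eq_one_of_chain (hφ : Function.Injective φ) (ls : List ChainLevel) (C : LinCert) (rows : List Vec)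
    (m : ℕ) (hgenMem : ∀ j < m, ∃ g : G, RepN (φ g) ((chainPerm ls).getD j 0))
    (hlen : (chainPerm ls).length = m) (hgenlen : chainGen ls = m) (hperm : permsOKN n ls = true)
    (hrows : rows = relRows (chainRels ls ((List.range m).map fun j => [(j, true)])))
    (htab : tablesOK (chainRels ls ((List.range m).map fun j => [(j, true)])) rows ls
      ((List.range m).map fun j => [(j, true)]) = true)
    (hexp : chainExp ls = (List.range m).map fun j => wexp vunit [(j, true)])
    (hlin : C.ok rows m (chainEqns ls) = true)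
    {Γ : Type*} [Group Γ] [Finite Γ] (σ : Γ →* G) (hσ : Cfsg.IsStemExtension σ) (z : Γ) (hz : z ∈ σ.ker) :
    ∃ U : Subgroup G, Nat.card U = chainSize ls ∧ z ^ (U.index * C.bound.factorial) = 1 := by
  classical
  obtain ⟨hs, hc, hd⟩ := hσ
  let a : ℕ → G := fun j => if h : j < m then (hgenMem j h).choose else 1
  let U : Subgroup G := Subgroup.closure (a '' Set.Iio m)
  let aU : ℕ → U := fun j => if h : j < m then ⟨a j, Subgroup.subset_closure ⟨j, h, rfl⟩⟩ else 1
  have haU : ∀ j < m, (aU j : G) = a j := fun j hj => by simp [aU, hj]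
  have hrepU : ∀ j < m, RepN ((φ.comp U.subtype) (aU j)) ((chainPerm ls).getD j 0) := fun j hj => by
    rw [MonoidHom.comp_apply, Subgroup.coe_subtype, haU j hj]
    simp only [a, dif_pos hj]
    exact (hgenMem j hj).choose_spec
  let ξ : U.comap σ →* U := (σ.comp (U.comap σ).subtype).codRestrict U fun x => x.2
  have hξs : Function.Surjective ξ := fun u => by
    obtain ⟨g, hg⟩ := hs u
    exact ⟨⟨g, by rw [Subgroup.mem_comap, hg]; exact u.2⟩, Subtype.ext hg⟩
  have hξc : ξ.ker ≤ Subgroup.center (U.comap σ) := fun x hx => by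
    have hxk : (x : Γ) ∈ σ.ker := MonoidHom.mem_ker.2 (congrArg Subtype.val (MonoidHom.mem_ker.1 hx))
    exact Subgroup.mem_center_iff.2 fun y => Subtype.ext (Subgroup.mem_center_iff.1 (hc hxk) _)
  have hφU : Function.Injective (φ.comp U.subtype) := hφ.comp Subtype.val_injective
  set top : List Word := (List.range m).map fun j => [(j, true)] with htop
  have htopget : ∀ j < m, top.getD j [] = [(j, true)] := fun j hj => by
    rw [htop, List.getD_eq_getElem _ _ (by simpa using hj)]; simp
  have hb : ∀ (j : ℕ), j < m → wval aU (top.getD j []) = aU j := fun j hj => by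
    rw [htopget j hj]; simp [wval, lett]
  have htl : top.length = m := by simp [htop]
  obtain ⟨hrels, hsize⟩ := chain_permsN (φ.comp U.subtype) hφU aU ls top hperm (by rw [hlen, htl]) fun j hj => by
    rw [htl] at hj
    rw [hb j hj]
    exact hrepU j hj
  have hgen : Subgroup.closure (aU '' Set.Iio m) = ⊤ := by
    refine Subgroup.map_injective U.subtype_injective ?_
    rw [MonoidHom.map_closure, Set.image_image, ← MonoidHom.range_eq_map, Subgroup.range_subtype]
    exact congrArg Subgroup.closure (Set.image_congr fun j hj => haU j hj)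
  subst hrows
  obtain ⟨F⟩ := exists_frame ξ hξs hξc aU _ hrels
  obtain ⟨hS, hE⟩ := chain_sound F ls top htab
  rw [hgenlen] at hS
  obtain ⟨elt, pot, hN, he, hp, hstep⟩ := hS
  have hsound : Sound F.E (relRows (chainRels ls top)) F.b m vunit (chainSize ls) (chainMachine ls) := by
    refine ⟨elt, pot, hN, he, hp, fun i hi l hl => ?_⟩
    obtain ⟨h1, h2, h3⟩ := hstep i hi l hl
    have hwl : wval F.b (top.getD l.1 []) = F.b l.1 := by rw [htopget _ hl]; simp [wval, lett]
    refine ⟨h1, by simpa only [lett, hwl] using h2, fun j => ?_⟩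
    have := h3 j
    simp only [hexp] at this
    obtain ⟨x, s⟩ := l
    rw [show cf (wexp (fun j => ((List.range m).map fun j => wexp vunit [(j, true)]).getD j []) [(x, s)]) j
      = cf (wexp vunit [(x, s)]) j by
        simp only [wexp]
        rw [List.getD_eq_getElem _ _ (by simpa using hl)]
        cases s <;> simp [cf_vadd, cf_vneg, cf_nil]] at this
    exact this
  -- the subgroup has exactly as many elements as normal forms
  have hcard : Nat.card U = chainSize ls := by
    refine le_antisymm ?_ ?_
    · obtain ⟨elt', pot', hN', he', -, hstep'⟩ := hsound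
      have hrun := Sound.run F.central hstep'
      have hsurj : Function.Surjective fun i : Fin (chainSize ls) => ξ (elt' i.1) := by
        intro x
        obtain ⟨w, hwv, hw⟩ : ∃ w : Word, (∀ l ∈ w, l.1 < m) ∧ wval aU w = x := by
          have hm : x ∈ Subgroup.closure (aU '' Set.Iio m) := hgen ▸ Subgroup.mem_top x
          induction hm using Subgroup.closure_induction with
          | mem y hy =>
            obtain ⟨j, hj, rfl⟩ := hy
            exact ⟨[(j, true)], by simpa using hj, by simp [wval, lett]⟩
          | one => exact ⟨[], by simp, rfl⟩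
          | mul y y' _ _ ihy ihy' =>
            obtain ⟨w, hw, rfl⟩ := ihy; obtain ⟨w', hw', rfl⟩ := ihy'
            exact ⟨w ++ w', fun l hl => (List.mem_append.mp hl).elim (hw l) (hw' l), wval_append _ _ _⟩
          | inv y _ ih =>
            obtain ⟨w, hw, rfl⟩ := ih
            refine ⟨winv w, fun l hl => ?_, wval_winv _ _⟩
            simp only [winv, List.mem_map, List.mem_reverse] at hl
            obtain ⟨l', hl', rfl⟩ := hl
            exact hw l' hl'
        obtain ⟨k1, k2, -⟩ := hrun w 0 hN' hwv
        refine ⟨⟨_, k1⟩, ?_⟩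
        have := congrArg ξ k2
        rw [he', one_mul, map_mul, F.ker, mul_one, map_wval, show ξ ∘ F.b = aU from funext F.lift, hw] at this
        exact this.symm
      simpa using Nat.card_le_card_of_surjective _ hsurj
    · refine hsize.trans (Nat.card_le_card_of_injective _ Subtype.val_injective)
  have hle := card_ker_inf_le hξs hξc F hgen hcard hsound C _ hlin hE
  refine ⟨U, hcard, ?_⟩
  obtain ⟨h, hmem⟩ := CfsgLib.Schur.pow_index_mem_commutator (U.comap σ) (hc hz) (hd hz)
  have hidx : (U.comap σ).index = U.index := Subgroup.index_comap_of_surjective _ hs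
  let K : Subgroup (U.comap σ) := ξ.ker ⊓ commutator (U.comap σ)
  have hy : (⟨z ^ (U.comap σ).index, h⟩ : U.comap σ) ∈ K :=
    ⟨Subtype.ext (MonoidHom.mem_ker.1 (pow_mem hz _ : z ^ (U.comap σ).index ∈ σ.ker)), hmem⟩
  have hp' : (⟨_, hy⟩ : K) ^ C.bound.factorial = 1 := by
    obtain ⟨q, hq⟩ := Nat.dvd_factorial (Nat.card_pos (α := K)) hle
    rw [hq, pow_mul, pow_card_eq_one', one_pow]
  have := congrArg (fun k : K => ((k : U.comap σ) : Γ)) hp'
  rw [← hidx, pow_mul]
  simpa using this

end CfsgLib.Schur.Cert
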