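import Mathlib
import Cfsg.Agent.Lib.Schur.PermChain

/-!
# Packed permutations of up to 8192 points
-/

set_option autoImplicit false

namespace CfsgLib.Schur.Cert

open CfsgLib.Sporadic

/-- read a packed permutation, thirteen bits a point, read in blocks of 64 points -/
noncomputable def pgetW (p i : ℕ) : ℕ :=
  Nat.land (Nat.shiftRight (Nat.land (Nat.shiftRight p (Nat.mul 832 (Nat.div i 64))) (Nat.sub (Nat.shiftLeft 1 832) 1))
    (Nat.mul 13 (Nat.mod i 64))) 8191

/-- the packed number holds the images -/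
def RepW {n : ℕ} (σ : Equiv.Perm (Fin n)) (p : ℕ) : Prop := ∀ x : Fin n, pgetW p x = (σ x : ℕ)

/-- the image of a point under a word in packed permutations -/
noncomputable def wordImgW (P Pi : List ℕ) (w : Word) (x : ℕ) : ℕ :=
  w.foldr (fun l y => pgetW (bif l.2 then P.getD l.1 0 else Pi.getD l.1 0) y) x

section Perms

variable {G : Type*} [Group G] [Finite G] {n : ℕ} (φ : G →* Equiv.Perm (Fin n))

theorem RepW.inv {σ : Equiv.Perm (Fin n)} {p q : ℕ} (h : RepW σ p)
    (hq : forallLt n (fun x => Nat.beq (pgetW q (pgetW p x)) x) = true) : RepW σ⁻¹ q := fun x => by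
  have := Nat.eq_of_beq_eq_true (forallLt_elim hq (σ⁻¹ x).isLt)
  rw [h] at this
  simpa using this

omit [Finite G] in
theorem wordImgW_spec {b : ℕ → G} {P Pi : List ℕ} {m : ℕ}
    (hb : ∀ j < m, RepW (φ (b j)) (P.getD j 0))
    (hbi : ∀ j < m, RepW (φ (b j))⁻¹ (Pi.getD j 0)) :
    ∀ (w : Word), (∀ l ∈ w, l.1 < m) → ∀ x : Fin n,
      wordImgW P Pi w x = (φ (wval b w) x : ℕ)
  | [], _, x => by simp [wordImgW, wval]
  | l :: w, hw, x => by
    have ih := wordImgW_spec hb hbi w (fun y hy => hw y (List.mem_cons_of_mem _ hy)) x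
    show pgetW _ (wordImgW P Pi w (x : ℕ)) = _
    rw [ih, wval_cons, map_mul, Equiv.Perm.mul_apply]
    have hl := hw l List.mem_cons_self
    obtain ⟨j, s⟩ := l
    cases s
    · simp only [cond_false, lett, map_inv]; exact hbi j hl _
    · simp only [cond_true, lett]; exact hb j hl _

end Perms

end CfsgLib.Schur.Cert
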