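import Cfsg.Agent.Lib.Schur.Functor
import Mathlib

/-!
# The multiplier of a direct product, and of abelian groups
-/

set_option autoImplicit false

open scoped commutatorElement TensorProduct

namespace CfsgLib.Schur

universe u v w

variable {Q₁ : Type u} {Q₂ : Type v} [Group Q₁] [Group Q₂]

/-- `Q₁ᵃᵇ ⊗ Q₂ᵃᵇ`, written multiplicatively. -/
abbrev AbTensor (Q₁ : Type u) (Q₂ : Type v) [Group Q₁] [Group Q₂] : Type (max u v) :=
  Multiplicative (TensorProduct ℤ (Additive (Abelianization Q₁)) (Additive (Abelianization Q₂)))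

theorem finite_abTensor [Finite Q₁] [Finite Q₂] : Finite (AbTensor Q₁ Q₂) := by
  have : Finite (Additive (Abelianization Q₁)) := Finite.of_surjective
    (fun q : Q₁ => Additive.ofMul (Abelianization.of q)) fun x => by
      obtain ⟨q, hq⟩ := QuotientGroup.mk_surjective (Additive.toMul x)
      exact ⟨q, congrArg Additive.ofMul hq⟩
  have : Finite (Additive (Abelianization Q₂)) := Finite.of_surjective
    (fun q : Q₂ => Additive.ofMul (Abelianization.of q)) fun x => by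
      obtain ⟨q, hq⟩ := QuotientGroup.mk_surjective (Additive.toMul x)
      exact ⟨q, congrArg Additive.ofMul hq⟩
  have : Module.Finite ℤ (Additive (Abelianization Q₁)) := Module.Finite.of_finite
  have : Module.Finite ℤ (Additive (Abelianization Q₂)) := Module.Finite.of_finite
  set T := TensorProduct ℤ (Additive (Abelianization Q₁)) (Additive (Abelianization Q₂))
  have hn : ∀ t : T, ((Nat.card (Additive (Abelianization Q₁)) : ℤ)) • t = 0 := by
    intro t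
    induction t using TensorProduct.induction_on with
    | zero => simp
    | tmul x y => rw [TensorProduct.smul_tmul', natCast_zsmul, card_nsmul_eq_zero', TensorProduct.zero_tmul]
    | add a b ha hb => rw [smul_add, ha, hb, add_zero]
  have : Module.Finite ℤ T := @Module.Finite.tensorProduct ℤ _ _ _ _ _ _ _ _ _
  have : Finite T := Module.finite_of_fg_torsion T fun {t} =>
    ⟨⟨(Nat.card (Additive (Abelianization Q₁)) : ℤ), mem_nonZeroDivisors_of_ne_zero (Int.natCast_ne_zero.2 Nat.card_pos.ne')⟩, hn t⟩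
  exact Finite.of_equiv T Multiplicative.ofAdd

/-- The bilinear map `(g, h) ↦ g₁ ⊗ h₂`. -/
noncomputable def pairing {G : Type w} [Group G] (f₁ : G →* Q₁) (f₂ : G →* Q₂) : G →* G →* AbTensor Q₁ Q₂ where
  toFun g :=
    { toFun := fun h => Multiplicative.ofAdd
        (Additive.ofMul (Abelianization.of (f₁ g)) ⊗ₜ[ℤ] Additive.ofMul (Abelianization.of (f₂ h)))
      map_one' := by simp
      map_mul' := fun a b => by simp [TensorProduct.tmul_add] }
  map_one' := by ext h; simp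
  map_mul' a b := by ext h; simp [TensorProduct.add_tmul]

theorem pairing_apply {G : Type w} [Group G] (f₁ : G →* Q₁) (f₂ : G →* Q₂) (g h : G) :
    pairing f₁ f₂ g h = Multiplicative.ofAdd
      (Additive.ofMul (Abelianization.of (f₁ g)) ⊗ₜ[ℤ] Additive.ofMul (Abelianization.of (f₂ h))) := rfl

theorem pairing_eq_one_left {G : Type w} [Group G] (f₁ : G →* Q₁) (f₂ : G →* Q₂) {g : G} (h : G)
    (hg : f₁ g = 1) : pairing f₁ f₂ g h = 1 := by simp [pairing_apply, hg]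

theorem pairing_eq_one_right {G : Type w} [Group G] (f₁ : G →* Q₁) (f₂ : G →* Q₂) (g : G) {h : G}
    (hh : f₂ h = 1) : pairing f₁ f₂ g h = 1 := by simp [pairing_apply, hh]

/-- A homomorphism from a group onto `Q₁` and `Q₂` commuting pairs, into an abelian group, factors through the tensor. -/
theorem exists_tensor_hom {C : Type w} [CommGroup C] (β : Q₁ →* Q₂ →* C) :
    ∃ θ : AbTensor Q₁ Q₂ →* C, ∀ x y, θ (Multiplicative.ofAdd
      (Additive.ofMul (Abelianization.of x) ⊗ₜ[ℤ] Additive.ofMul (Abelianization.of y))) = β x y := by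
  let β' : Abelianization Q₁ →* Abelianization Q₂ →* C := Abelianization.lift
    { toFun := fun x => Abelianization.lift (β x)
      map_one' := Abelianization.hom_ext _ _ (MonoidHom.ext fun y => by simp)
      map_mul' := fun a b => Abelianization.hom_ext _ _ (MonoidHom.ext fun y => by simp) }
  let f : Additive (Abelianization Q₁) →+ Additive (Abelianization Q₂) →+ Additive C :=
    { toFun := fun x => MonoidHom.toAdditive (β' (Additive.toMul x))
      map_zero' := by ext y; simp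
      map_add' := fun a b => by ext y; simp }
  let L := TensorProduct.liftAddHom (R := ℤ) f fun r m n => by
    rw [map_zsmul, AddMonoidHom.smul_apply, map_zsmul]
  refine ⟨AddMonoidHom.toMultiplicativeLeft L, fun x y => ?_⟩
  show Additive.toMul (L (Additive.ofMul (Abelianization.of x) ⊗ₜ[ℤ] Additive.ofMul (Abelianization.of y))) = _
  simp [L, f, β']

variable [Finite Q₁] [Finite Q₂]

theorem card_ker_le_prod {Γ : Type w} [Group Γ] [Finite Γ] (σ : Γ →* Q₁ × Q₂) (hσ : Cfsg.IsStemExtension σ) :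
    Nat.card σ.ker ≤ Nat.card (mult Q₁) * Nat.card (mult Q₂) * Nat.card (AbTensor Q₁ Q₂) := by
  have := finite_abTensor (Q₁ := Q₁) (Q₂ := Q₂)
  obtain ⟨hsurj, hcen, hder⟩ := hσ
  let f₁ : Γ →* Q₁ := (MonoidHom.fst Q₁ Q₂).comp σ
  let f₂ : Γ →* Q₂ := (MonoidHom.snd Q₁ Q₂).comp σ
  let Γ₁ : Subgroup Γ := f₂.ker
  let Γ₂ : Subgroup Γ := f₁.ker
  let ξ₁ : Γ₁ →* Q₁ := f₁.comp Γ₁.subtype
  let ξ₂ : Γ₂ →* Q₂ := f₂.comp Γ₂.subtype
  have hker : ∀ x : Γ, f₁ x = 1 → f₂ x = 1 → x ∈ σ.ker := fun x h1 h2 => Prod.ext h1 h2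
  have hξ₁ : Function.Surjective ξ₁ := fun q => by
    obtain ⟨x, hx⟩ := hsurj (q, 1)
    exact ⟨⟨x, congrArg Prod.snd hx⟩, congrArg Prod.fst hx⟩
  have hξ₂ : Function.Surjective ξ₂ := fun q => by
    obtain ⟨x, hx⟩ := hsurj (1, q)
    exact ⟨⟨x, congrArg Prod.fst hx⟩, congrArg Prod.snd hx⟩
  have hc₁ : ξ₁.ker ≤ Subgroup.center Γ₁ := fun x hx => Subgroup.mem_center_iff.2 fun y =>
    Subtype.ext (Subgroup.mem_center_iff.1 (hcen (hker x hx x.2)) y)
  have hc₂ : ξ₂.ker ≤ Subgroup.center Γ₂ := fun x hx => Subgroup.mem_center_iff.2 fun y =>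
    Subtype.ext (Subgroup.mem_center_iff.1 (hcen (hker x x.2 hx)) y)
  letI : CommGroup σ.ker :=
    { (inferInstance : Group σ.ker) with
      mul_comm := fun a b => Subtype.ext (Subgroup.mem_center_iff.1 (hcen b.2) a) }
  choose l₁ hl₁ using hξ₁
  choose l₂ hl₂ using hξ₂
  have hcm : ∀ (a : Γ₁) (b : Γ₂), ⁅(a : Γ), (b : Γ)⁆ ∈ σ.ker := fun a b => by
    refine hker _ ?_ ?_
    · rw [map_commutatorElement, show f₁ (b : Γ) = 1 from b.2, commutatorElement_one_right]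
    · rw [map_commutatorElement, show f₂ (a : Γ) = 1 from a.2, commutatorElement_one_left]
  have hmul₁ : ∀ (a a' : Γ₁) (b : Γ₂), ⁅(a : Γ) * a', (b : Γ)⁆ = ⁅(a : Γ), (b : Γ)⁆ * ⁅(a' : Γ), (b : Γ)⁆ := by
    intro a a' b
    have h := Subgroup.mem_center_iff.1 (hcen (hcm a' b)) (a : Γ)
    have h' := Subgroup.mem_center_iff.1 (hcen (hcm a' b)) ⁅(a : Γ), (b : Γ)⁆
    rw [show ⁅(a : Γ) * a', (b : Γ)⁆ = (a : Γ) * ⁅(a' : Γ), (b : Γ)⁆ * (a : Γ)⁻¹ * ⁅(a : Γ), (b : Γ)⁆ by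
      simp only [commutatorElement_def]; group, h, mul_inv_cancel_right, h']
  have hmul₂ : ∀ (a : Γ₁) (b b' : Γ₂), ⁅(a : Γ), (b : Γ) * b'⁆ = ⁅(a : Γ), (b : Γ)⁆ * ⁅(a : Γ), (b' : Γ)⁆ := by
    intro a b b'
    rw [show ⁅(a : Γ), (b : Γ) * b'⁆ = ⁅(a : Γ), (b : Γ)⁆ * ((b : Γ) * ⁅(a : Γ), (b' : Γ)⁆ * (b : Γ)⁻¹) by
      simp only [commutatorElement_def]; group, Subgroup.mem_center_iff.1 (hcen (hcm a b')) (b : Γ),
      mul_inv_cancel_right]
  -- independence of the choice of lifts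
  have hwd : ∀ (a : Γ₁) (b : Γ₂), ⁅(a : Γ), (b : Γ)⁆ = ⁅(l₁ (ξ₁ a) : Γ), (l₂ (ξ₂ b) : Γ)⁆ := by
    intro a b
    set a' := l₁ (ξ₁ a)
    set b' := l₂ (ξ₂ b)
    have hk : ∀ {z g : Γ}, z ∈ σ.ker → ⁅z, g⁆ = 1 ∧ ⁅g, z⁆ = 1 := fun {z g} hz => by
      have := Subgroup.mem_center_iff.1 (hcen hz) g
      exact ⟨commutatorElement_eq_one_iff_mul_comm.2 this.symm, commutatorElement_eq_one_iff_mul_comm.2 this⟩
    have ha : (a : Γ) * (a' : Γ)⁻¹ ∈ σ.ker := hker _
      (by rw [map_mul, map_inv, show f₁ (a' : Γ) = f₁ a from hl₁ (ξ₁ a), mul_inv_cancel])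
      (by rw [map_mul, map_inv, show f₂ (a' : Γ) = 1 from a'.2, show f₂ (a : Γ) = 1 from a.2, inv_one, one_mul])
    have hb : (b : Γ) * (b' : Γ)⁻¹ ∈ σ.ker := hker _
      (by rw [map_mul, map_inv, show f₁ (b' : Γ) = 1 from b'.2, show f₁ (b : Γ) = 1 from b.2, inv_one, one_mul])
      (by rw [map_mul, map_inv, show f₂ (b' : Γ) = f₂ b from hl₂ (ξ₂ b), mul_inv_cancel])
    have e1 : ⁅(a : Γ), (b : Γ)⁆ = ⁅((a * a'⁻¹ : Γ₁) : Γ), (b : Γ)⁆ * ⁅(a' : Γ), (b : Γ)⁆ := by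
      rw [← hmul₁, ← Subgroup.coe_mul, inv_mul_cancel_right]
    have e2 : ⁅(a' : Γ), (b : Γ)⁆ = ⁅(a' : Γ), ((b * b'⁻¹ : Γ₂) : Γ)⁆ * ⁅(a' : Γ), (b' : Γ)⁆ := by
      rw [← hmul₂, ← Subgroup.coe_mul, inv_mul_cancel_right]
    have k1 : ⁅((a * a'⁻¹ : Γ₁) : Γ), (b : Γ)⁆ = 1 := (hk ha).1
    have k2 : ⁅(a' : Γ), ((b * b'⁻¹ : Γ₂) : Γ)⁆ = 1 := (hk hb).2
    exact e1.trans ((congrArg₂ (· * ·) k1 (e2.trans (congrArg (· * _) k2))).trans ((one_mul _).trans (one_mul _)))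
  let β : Q₁ →* Q₂ →* σ.ker :=
    MonoidHom.mk'
      (fun x => MonoidHom.mk' (fun y => ⟨⁅(l₁ x : Γ), (l₂ y : Γ)⁆, hcm _ _⟩) fun y y' => Subtype.ext (by
        show ⁅(l₁ x : Γ), (l₂ (y * y') : Γ)⁆ = ⁅(l₁ x : Γ), (l₂ y : Γ)⁆ * ⁅(l₁ x : Γ), (l₂ y' : Γ)⁆
        rw [← hmul₂, ← Subgroup.coe_mul, hwd (l₁ x) (l₂ y * l₂ y'), map_mul, hl₁, hl₂, hl₂]))
      fun x x' => MonoidHom.ext fun y => Subtype.ext (by
        show ⁅(l₁ (x * x') : Γ), (l₂ y : Γ)⁆ = ⁅(l₁ x : Γ), (l₂ y : Γ)⁆ * ⁅(l₁ x' : Γ), (l₂ y : Γ)⁆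
        rw [← hmul₁, ← Subgroup.coe_mul, hwd (l₁ x * l₁ x') (l₂ y), map_mul, hl₁, hl₁, hl₂])
  obtain ⟨θ, hθ⟩ := exists_tensor_hom β
  let D : Subgroup Γ := θ.range.map σ.ker.subtype
  have hD : D ≤ σ.ker := Subgroup.map_subtype_le _
  have hDc : ∀ (a : Γ₁) (b : Γ₂), ⁅(a : Γ), (b : Γ)⁆ ∈ D := fun a b =>
    ⟨_, ⟨_, rfl⟩, by rw [hwd a b, hθ]; rfl⟩
  let C₁ : Subgroup Γ := (commutator Γ₁).map Γ₁.subtype
  let C₂ : Subgroup Γ := (commutator Γ₂).map Γ₂.subtype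
  have hΓ₁ : Γ₁.Normal := f₂.normal_ker
  have hΓ₂ : Γ₂.Normal := f₁.normal_ker
  have hC₁ : C₁.Normal := ConjAct.normal_of_characteristic_of_normal
  have hC₂ : C₂.Normal := ConjAct.normal_of_characteristic_of_normal
  have hDn : D.Normal := ⟨fun n hn g => by
    rw [Subgroup.mem_center_iff.1 (hcen (hD hn)) g, mul_inv_cancel_right]; exact hn⟩
  let N : Subgroup Γ := C₁ ⊔ C₂ ⊔ D
  have hN : commutator Γ ≤ N := by
    rw [commutator_def, Subgroup.commutator_le]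
    intro x _ y _
    let π : Γ →* Γ ⧸ N := QuotientGroup.mk' N
    refine (QuotientGroup.eq_one_iff _).1 ?_
    show π ⁅x, y⁆ = 1
    have hc : ∀ a b : Γ, a ∈ N → π a = 1 := fun a _ h => (QuotientGroup.eq_one_iff a).2 h
    have hsplit : ∀ g : Γ, ∃ (a : Γ₁) (b : Γ₂), g = a * b := fun g => by
      refine ⟨l₁ (f₁ g), ⟨((l₁ (f₁ g) : Γ₁) : Γ)⁻¹ * g, ?_⟩, by simp⟩
      show f₁ _ = 1
      rw [map_mul, map_inv, show f₁ ((l₁ (f₁ g) : Γ₁) : Γ) = f₁ g from hl₁ _, inv_mul_cancel]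
    obtain ⟨a, b, rfl⟩ := hsplit x
    obtain ⟨a', b', rfl⟩ := hsplit y
    have c11 : Commute (π a) (π a') := commutatorElement_eq_one_iff_commute.1 (by
      rw [← map_commutatorElement]
      exact hc _ 1 (Subgroup.mem_sup_left (Subgroup.mem_sup_left ⟨⁅a, a'⁆,
        Subgroup.commutator_mem_commutator (Subgroup.mem_top a) (Subgroup.mem_top a'),
        map_commutatorElement Γ₁.subtype a a'⟩)))
    have c22 : Commute (π b) (π b') := commutatorElement_eq_one_iff_commute.1 (by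
      rw [← map_commutatorElement]
      exact hc _ 1 (Subgroup.mem_sup_left (Subgroup.mem_sup_right ⟨⁅b, b'⁆,
        Subgroup.commutator_mem_commutator (Subgroup.mem_top b) (Subgroup.mem_top b'),
        map_commutatorElement Γ₂.subtype b b'⟩)))
    have c12 : ∀ (a : Γ₁) (b : Γ₂), Commute (π a) (π b) := fun a b => commutatorElement_eq_one_iff_commute.1 (by
      rw [← map_commutatorElement]; exact hc _ 1 (Subgroup.mem_sup_right (hDc a b)))
    rw [map_commutatorElement, map_mul, map_mul, commutatorElement_eq_one_iff_commute]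
    exact (c11.mul_right (c12 a b')).mul_left ((c12 a' b).symm.mul_right c22)
  have key : ∀ w ∈ σ.ker, ∃ z₁ : (ξ₁.ker ⊓ commutator Γ₁ : Subgroup Γ₁),
      ∃ z₂ : (ξ₂.ker ⊓ commutator Γ₂ : Subgroup Γ₂), ∃ t, ((z₁ : Γ₁) : Γ) * ((z₂ : Γ₂) : Γ) * (θ t : Γ) = w := by
    intro w hw
    obtain ⟨c, hc', d, hd, rfl⟩ := Subgroup.mem_sup_of_normal_right.1 (hN (hder hw))
    obtain ⟨_, ⟨c₁, hc₁', rfl⟩, _, ⟨c₂, hc₂', rfl⟩, rfl⟩ := Subgroup.mem_sup_of_normal_right.1 hc'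
    obtain ⟨_, ⟨t, rfl⟩, rfl⟩ := hd
    have hw' : σ ((c₁ : Γ) * (c₂ : Γ) * (θ t : Γ)) = 1 := hw
    rw [map_mul, map_mul, show σ (θ t : Γ) = 1 from (θ t).2, mul_one] at hw'
    have h1 : ξ₁ c₁ = 1 := by
      have h := congrArg Prod.fst hw'
      show (σ (c₁ : Γ)).1 = 1
      simpa [show (σ (c₂ : Γ)).1 = 1 from c₂.2] using h
    have h2 : ξ₂ c₂ = 1 := by
      have h := congrArg Prod.snd hw'
      show (σ (c₂ : Γ)).2 = 1
      simpa [show (σ (c₁ : Γ)).2 = 1 from c₁.2] using h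
    exact ⟨⟨c₁, h1, hc₁'⟩, ⟨c₂, h2, hc₂'⟩, t, rfl⟩
  let F : (ξ₁.ker ⊓ commutator Γ₁ : Subgroup Γ₁) × (ξ₂.ker ⊓ commutator Γ₂ : Subgroup Γ₂) × AbTensor Q₁ Q₂ → Γ :=
    fun p => ((p.1 : Γ₁) : Γ) * ((p.2.1 : Γ₂) : Γ) * (θ p.2.2 : Γ)
  calc Nat.card σ.ker ≤ Nat.card (Set.range F) := by
        refine Nat.card_mono (Set.finite_range F) ?_
        intro w hw
        obtain ⟨z₁, z₂, t, e⟩ := key w hw
        exact ⟨(z₁, z₂, t), e⟩
    _ ≤ _ := Finite.card_range_le F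
    _ ≤ _ := by
        rw [Nat.card_prod, Nat.card_prod, ← mul_assoc]
        exact Nat.mul_le_mul_right _ (Nat.mul_le_mul (card_inf_le (fun q => ⟨_, hl₁ q⟩) hc₁)
          (card_inf_le (fun q => ⟨_, hl₂ q⟩) hc₂))

omit [Finite Q₁] [Finite Q₂] in
theorem product_witness {Γ₁ : Type u} {Γ₂ : Type v} [Group Γ₁] [Group Γ₂] (σ₁ : Γ₁ →* Q₁) (σ₂ : Γ₂ →* Q₂)
    (h₁ : Cfsg.IsStemExtension σ₁) (h₂ : Cfsg.IsStemExtension σ₂) :
    ∃ (Δ : Type (max u v)) (_ : Group Δ) (τ : Δ →* Q₁ × Q₂),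
      Cfsg.IsStemExtension τ ∧ Nonempty (τ.ker ≃* σ₁.ker × σ₂.ker × AbTensor Q₁ Q₂) := by
  let p₁ : Γ₁ × Γ₂ →* Q₁ := σ₁.comp (MonoidHom.fst Γ₁ Γ₂)
  let p₂ : Γ₁ × Γ₂ →* Q₂ := σ₂.comp (MonoidHom.snd Γ₁ Γ₂)
  let B := pairing p₁ p₂
  let τ : Twist B →* Q₁ × Q₂ := (σ₁.prodMap σ₂).comp (Twist.proj B)
  have hkc : ∀ x : Twist B, τ x = 1 → σ₁ x.snd.1 = 1 ∧ σ₂ x.snd.2 = 1 := fun x hx =>
    ⟨congrArg Prod.fst hx, congrArg Prod.snd hx⟩
  have hsurj : Function.Surjective τ := fun q => by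
    obtain ⟨g, hg⟩ := h₁.1 q.1
    obtain ⟨h, hh⟩ := h₂.1 q.2
    exact ⟨⟨1, g, h⟩, Prod.ext hg hh⟩
  have hcen : τ.ker ≤ Subgroup.center (Twist B) := by
    intro x hx
    obtain ⟨e1, e2⟩ := hkc x hx
    refine Twist.mem_center (Subgroup.mem_center_iff.2 fun g => Prod.ext
      (Subgroup.mem_center_iff.1 (h₁.2.1 e1) g.1) (Subgroup.mem_center_iff.1 (h₂.2.1 e2) g.2)) fun g => ?_
    rw [pairing_eq_one_left p₁ p₂ g e1, pairing_eq_one_right p₁ p₂ g e2]
  let ι₁ : Γ₁ →* Twist B := MonoidHom.mk' (fun g => ⟨1, (g, 1)⟩) fun a b => by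
    refine Twist.ext ?_ (Prod.ext rfl (mul_one 1).symm)
    simp [B, pairing_eq_one_right p₁ p₂ ((a, 1) : Γ₁ × Γ₂) (h := ((b, 1) : Γ₁ × Γ₂)) (by simp [p₂])]
  let ι₂ : Γ₂ →* Twist B := MonoidHom.mk' (fun h => ⟨1, (1, h)⟩) fun a b => by
    refine Twist.ext ?_ (Prod.ext (mul_one 1).symm rfl)
    simp [B, pairing_eq_one_left p₁ p₂ (g := ((1, a) : Γ₁ × Γ₂)) ((1, b) : Γ₁ × Γ₂) (by simp [p₁])]
  let ιT : AbTensor Q₁ Q₂ →* Twist B := MonoidHom.mk' (fun t => ⟨t, 1⟩) fun a b => by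
    refine Twist.ext ?_ (mul_one 1).symm
    simp
  have hmap : ∀ {X : Type (max u v)} [Group X] {Y : Type (max u v)} [Group Y] (f : X →* Y),
      (commutator X).map f ≤ commutator Y := fun f => by
    rw [commutator_def, commutator_def, Subgroup.map_commutator]
    exact Subgroup.commutator_mono le_top le_top
  have hT : ∀ t, ιT t ∈ commutator (Twist B) := by
    intro t
    have key : ∀ t : TensorProduct ℤ (Additive (Abelianization Q₁)) (Additive (Abelianization Q₂)),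
        ιT (Multiplicative.ofAdd t) ∈ commutator (Twist B) := by
      intro t
      induction t using TensorProduct.induction_on with
      | zero => rw [ofAdd_zero, map_one]; exact one_mem _
      | tmul x y =>
        obtain ⟨q₁, hq₁⟩ := QuotientGroup.mk_surjective (Additive.toMul x)
        obtain ⟨q₂, hq₂⟩ := QuotientGroup.mk_surjective (Additive.toMul y)
        obtain ⟨g, rfl⟩ := h₁.1 q₁
        obtain ⟨h, rfl⟩ := h₂.1 q₂
        have hc : Commute ((g, 1) : Γ₁ × Γ₂) (1, h) := Prod.ext (by simp) (by simp)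
        have e := Twist.commutator_eq (B := B) hc
        rw [show B ((1, h) : Γ₁ × Γ₂) ((g, 1) : Γ₁ × Γ₂) = 1 from
          pairing_eq_one_left p₁ p₂ _ (by simp [p₁]), div_one] at e
        have e2 : ιT (Multiplicative.ofAdd (x ⊗ₜ[ℤ] y)) = ⁅(⟨1, (g, 1)⟩ : Twist B), ⟨1, (1, h)⟩⁆ := by
          rw [e]
          refine Twist.ext ?_ rfl
          show Multiplicative.ofAdd (x ⊗ₜ[ℤ] y) = pairing p₁ p₂ _ _
          rw [pairing_apply]
          congr 2
          · exact (congrArg Additive.ofMul hq₁).symm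
          · exact (congrArg Additive.ofMul hq₂).symm
        rw [e2]
        exact Subgroup.commutator_mem_commutator (Subgroup.mem_top _) (Subgroup.mem_top _)
      | add a b ha hb => rw [ofAdd_add, map_mul]; exact mul_mem ha hb
    exact key (Multiplicative.toAdd t)
  have hder : τ.ker ≤ commutator (Twist B) := by
    intro x hx
    obtain ⟨e1, e2⟩ := hkc x hx
    have m1 : ι₁ x.snd.1 ∈ commutator (Twist B) := by
      have h := Subgroup.mem_map_of_mem ι₁ (h₁.2.2 e1)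
      rw [commutator_def, Subgroup.map_commutator] at h
      exact Subgroup.commutator_mono le_top le_top h
    have m2 : ι₂ x.snd.2 ∈ commutator (Twist B) := by
      have h := Subgroup.mem_map_of_mem ι₂ (h₂.2.2 e2)
      rw [commutator_def, Subgroup.map_commutator] at h
      exact Subgroup.commutator_mono le_top le_top h
    have e : x = ιT x.fst * ι₁ x.snd.1 * ι₂ x.snd.2 := by
      refine Twist.ext ?_ (Prod.ext ?_ ?_) <;> simp [ιT, ι₁, ι₂, B, pairing_apply, p₁, p₂, e1, e2]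
    rw [e]
    exact mul_mem (mul_mem (hT _) m1) m2
  refine ⟨Twist B, inferInstance, τ, ⟨hsurj, hcen, hder⟩, ⟨?_⟩⟩
  exact
    { toFun := fun x => (⟨x.1.snd.1, (hkc _ x.2).1⟩, ⟨x.1.snd.2, (hkc _ x.2).2⟩, x.1.fst)
      invFun := fun y => ⟨⟨y.2.2, (y.1.1, y.2.1.1)⟩, Prod.ext y.1.2 y.2.1.2⟩
      left_inv := fun x => rfl
      right_inv := fun y => rfl
      map_mul' := fun x y => by
        refine Prod.ext rfl (Prod.ext rfl ?_)
        show x.1.fst * y.1.fst * pairing p₁ p₂ x.1.snd y.1.snd = x.1.fst * y.1.fst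
        rw [pairing_eq_one_left p₁ p₂ _ (hkc _ x.2).1, mul_one] }

theorem hasSchurMultiplier_prod {A B : Type w} [CommGroup A] [CommGroup B]
    (hA : Cfsg.HasSchurMultiplier Q₁ A) (hB : Cfsg.HasSchurMultiplier Q₂ B) :
    Cfsg.HasSchurMultiplier (Q₁ × Q₂) (A × B × AbTensor Q₁ Q₂) := by
  obtain ⟨C₁⟩ := exists_compl (Q := Q₁)
  obtain ⟨C₂⟩ := exists_compl (Q := Q₂)
  obtain ⟨Δ, _, τ, hτ, ⟨e⟩⟩ := product_witness C₁.coverMap C₂.coverMap C₁.isStem C₂.isStem
  obtain ⟨eA⟩ := nonempty_equiv_of_hasSchurMultiplier hA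
  obtain ⟨eB⟩ := nonempty_equiv_of_hasSchurMultiplier hB
  refine hasSchurMultiplier_of_witness τ hτ
    (e.trans ((C₁.kerEquiv.symm.trans eA.symm).prodCongr ((C₂.kerEquiv.symm.trans eB.symm).prodCongr (MulEquiv.refl _))))
    fun Γ _ _ σ hσ => ?_
  refine (card_ker_le_prod σ hσ).trans (le_of_eq ?_)
  rw [Nat.card_prod, Nat.card_prod, Nat.card_congr eA.toEquiv, Nat.card_congr eB.toEquiv, mul_assoc]

theorem hasSchurMultiplier_prod_coprime {A B : Type w} [CommGroup A] [CommGroup B]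
    (hA : Cfsg.HasSchurMultiplier Q₁ A) (hB : Cfsg.HasSchurMultiplier Q₂ B)
    (hcop : Nat.Coprime (Nat.card (Abelianization Q₁)) (Nat.card (Abelianization Q₂))) :
    Cfsg.HasSchurMultiplier (Q₁ × Q₂) (A × B) := by
  have hsub : Subsingleton (AbTensor Q₁ Q₂) := by
    have key : ∀ t : TensorProduct ℤ (Additive (Abelianization Q₁)) (Additive (Abelianization Q₂)), t = 0 := by
      intro t
      induction t using TensorProduct.induction_on with
      | zero => rfl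
      | tmul x y =>
        obtain ⟨a, b, hab⟩ : ∃ a b : ℤ,
            a * (Nat.card (Abelianization Q₁) : ℤ) + b * (Nat.card (Abelianization Q₂) : ℤ) = 1 :=
          Int.isCoprime_iff_gcd_eq_one.2 (by simpa [Int.gcd_natCast_natCast] using hcop.gcd_eq_one)
        have hx : (Nat.card (Abelianization Q₁) : ℤ) • x = 0 := by
          rw [natCast_zsmul]; exact congrArg Additive.ofMul (pow_card_eq_one' (x := Additive.toMul x))
        have hy : (Nat.card (Abelianization Q₂) : ℤ) • y = 0 := by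
          rw [natCast_zsmul]; exact congrArg Additive.ofMul (pow_card_eq_one' (x := Additive.toMul y))
        calc x ⊗ₜ[ℤ] y = (1 : ℤ) • (x ⊗ₜ[ℤ] y) := (one_smul ℤ _).symm
          _ = 0 := by
            rw [← hab, add_smul, mul_smul, mul_smul, TensorProduct.smul_tmul', hx, TensorProduct.zero_tmul,
              ← TensorProduct.tmul_smul, hy, TensorProduct.tmul_zero, smul_zero, smul_zero, add_zero]
      | add a b ha hb => rw [ha, hb, add_zero]
    exact ⟨fun a b => by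
      rw [← ofAdd_toAdd a, ← ofAdd_toAdd b, key (Multiplicative.toAdd a), key (Multiplicative.toAdd b)]⟩
  have h := hasSchurMultiplier_prod hA hB
  rw [hasSchurMultiplier_iff] at h ⊢
  obtain ⟨e⟩ := h
  refine ⟨MulEquiv.trans ?_ e⟩
  exact (MulEquiv.refl A).prodCongr
    { toFun := fun b => (b, 1), invFun := fun p => p.1, left_inv := fun b => rfl
      right_inv := fun p => Prod.ext rfl (Subsingleton.elim _ _)
      map_mul' := fun a b => Prod.ext rfl (mul_one 1).symm }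

end CfsgLib.Schur
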