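import Cfsg.Agent.Lib.Schur.Multiplier

/-!
# Projective representations and covers
-/

set_option autoImplicit false

open scoped commutatorElement

namespace CfsgLib.Schur

universe u v w

open Matrix

theorem eq_on_commutator {G : Type u} {X : Type v} {Y : Type w} [Group G] [Group X] [Group Y]
    (ξ : X →* Y) (hc : ξ.ker ≤ Subgroup.center X) {η₁ η₂ : G →* X}
    (h : ξ.comp η₁ = ξ.comp η₂) : commutator G ≤ η₁.eqLocus η₂ := by
  rw [commutator_def, Subgroup.commutator_le]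
  intro a _ b _
  show η₁ ⁅a, b⁆ = η₂ ⁅a, b⁆
  have key : ∀ g, ∃ z ∈ Subgroup.center X, η₁ g = η₂ g * z := fun g =>
    ⟨(η₂ g)⁻¹ * η₁ g, hc (by rw [MonoidHom.mem_ker, map_mul, map_inv, ← MonoidHom.comp_apply,
      ← MonoidHom.comp_apply, h, inv_mul_cancel]), by group⟩
  obtain ⟨za, hza, ea⟩ := key a
  obtain ⟨zb, hzb, eb⟩ := key b
  rw [map_commutatorElement, map_commutatorElement, ea, eb]
  have h1 := Subgroup.mem_center_iff.1 hza
  have h2 := Subgroup.mem_center_iff.1 hzb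
  simp only [commutatorElement_def, _root_.mul_inv_rev]
  calc η₂ a * za * (η₂ b * zb) * (za⁻¹ * (η₂ a)⁻¹) * (zb⁻¹ * (η₂ b)⁻¹)
      = η₂ a * (za * η₂ b) * (zb * za⁻¹) * (η₂ a)⁻¹ * zb⁻¹ * (η₂ b)⁻¹ := by group
    _ = η₂ a * η₂ b * za * za⁻¹ * (zb * (η₂ a)⁻¹) * zb⁻¹ * (η₂ b)⁻¹ := by
        rw [← h1 (η₂ b), ← h2 za⁻¹]; group
    _ = _ := by rw [← h2 (η₂ a)⁻¹]; group

/-- The kernel of `GL → PGL` is central. -/
theorem ker_mk_center_le {X : Type u} [Group X] :
    (QuotientGroup.mk' (Subgroup.center X)).ker ≤ Subgroup.center X := by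
  rw [QuotientGroup.ker_mk']

theorem exists_lift_proj {Q : Type u} [Group Q] {Γ : Type v} [Group Γ]
    (σ : Γ →* Q) (ψ : Ext Q →* Γ) (hψ : σ.comp ψ = proj Q) (hψs : Function.Surjective ψ)
    (hinj : ψ.ker ⊓ commutator (Ext Q) = ⊥) (n : ℕ)
    (γ : Q →* (GL (Fin n) ℂ ⧸ Subgroup.center (GL (Fin n) ℂ))) :
    ∃ ρ : Γ →* GL (Fin n) ℂ,
      (QuotientGroup.mk' (Subgroup.center (GL (Fin n) ℂ))).comp ρ = γ.comp σ := by
  let mk := QuotientGroup.mk' (Subgroup.center (GL (Fin n) ℂ))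
  rcases Nat.eq_zero_or_pos n with rfl | hn
  · refine ⟨1, MonoidHom.ext fun g => ?_⟩
    have : Subsingleton (GL (Fin 0) ℂ ⧸ Subgroup.center (GL (Fin 0) ℂ)) :=
      (QuotientGroup.mk'_surjective _).subsingleton
    exact Subsingleton.elim _ _
  have : Nonempty (Fin n) := ⟨⟨0, hn⟩⟩
  -- pull back to a central extension
  let P : Subgroup (Q × GL (Fin n) ℂ) :=
    (γ.comp (MonoidHom.fst Q (GL (Fin n) ℂ))).eqLocus (mk.comp (MonoidHom.snd Q (GL (Fin n) ℂ)))
  let p : P →* Q := (MonoidHom.fst Q (GL (Fin n) ℂ)).comp P.subtype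
  have hp : Function.Surjective p := fun q => by
    obtain ⟨g, hg⟩ := QuotientGroup.mk'_surjective _ (γ q)
    exact ⟨⟨(q, g), hg.symm⟩, rfl⟩
  have hpc : p.ker ≤ Subgroup.center P := fun a ha => by
    rw [Subgroup.mem_center_iff]
    intro b
    have ha1 : (a : Q × GL (Fin n) ℂ).1 = 1 := ha
    have hp2 : γ (a : Q × GL (Fin n) ℂ).1 = mk (a : Q × GL (Fin n) ℂ).2 := a.2
    rw [ha1, map_one] at hp2
    refine Subtype.ext (Prod.ext ?_ ?_)
    · show (b : Q × GL (Fin n) ℂ).1 * (a : Q × GL (Fin n) ℂ).1 = _ * (b : Q × GL (Fin n) ℂ).1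
      rw [ha1, mul_one, one_mul]
    · exact Subgroup.mem_center_iff.1 (ker_mk_center_le hp2.symm) _
  obtain ⟨φ, hφ⟩ := exists_lift p hp hpc
  let θ : Ext Q →* GL (Fin n) ℂ := ((MonoidHom.snd Q (GL (Fin n) ℂ)).comp P.subtype).comp φ
  have hθ : ∀ e, mk (θ e) = γ (proj Q e) := fun e => by
    rw [← hφ]
    exact (φ e).2.symm
  have hker : ψ.ker ≤ (proj Q).ker := fun x hx => by
    rw [MonoidHom.mem_ker, ← hψ, MonoidHom.comp_apply, MonoidHom.mem_ker.1 hx, map_one]
  -- `θ` restricted to `ker ψ` is scalar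
  have hscal : ∀ x : ψ.ker, ∃ c : ℂˣ, GeneralLinearGroup.scalar (Fin n) c = θ x := fun x => by
    have : θ x ∈ Subgroup.center (GL (Fin n) ℂ) := ker_mk_center_le (by
      rw [MonoidHom.mem_ker, hθ, hker x.2, map_one])
    rw [GeneralLinearGroup.center_eq_range_scalar] at this
    exact this
  choose c hc using hscal
  have scalar_inj : Function.Injective (GeneralLinearGroup.scalar (Fin n) : ℂˣ →* GL (Fin n) ℂ) := by
    intro a b h
    have h' := congrArg (fun g : GL (Fin n) ℂ => (g : Matrix (Fin n) (Fin n) ℂ) ⟨0, hn⟩ ⟨0, hn⟩) h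
    exact Units.ext (by simpa [GeneralLinearGroup.scalar] using h')
  let χ : ψ.ker →* ℂˣ := MonoidHom.mk' c fun a b => scalar_inj (by
    rw [hc, map_mul, hc, hc, Subgroup.coe_mul, map_mul])
  letI : CommGroup ψ.ker :=
    { (inferInstance : Group ψ.ker) with
      mul_comm := fun a b => Subtype.ext
        ((Subgroup.mem_center_iff.1 (ker_proj_le_center Q (hker a.2))) b.1).symm }
  let ι : Additive ψ.ker →+ Additive (Abelianization (FreeGroup Q)) :=
    MonoidHom.toAdditive ((toFree Q).comp ψ.ker.subtype)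
  have hι : Function.Injective ι := by
    rw [injective_iff_map_eq_zero]
    intro x hx
    have h1 : toFree Q (Additive.toMul x : ψ.ker) = 1 := hx
    have h2 : ((Additive.toMul x : ψ.ker) : Ext Q) ∈ ψ.ker ⊓ commutator (Ext Q) :=
      ⟨(Additive.toMul x : ψ.ker).2, (ker_toFree (Q := Q)).le h1⟩
    rw [hinj, Subgroup.mem_bot] at h2
    exact (Subtype.ext h2 : (Additive.toMul x : ψ.ker) = 1)
  letI : DivisibleBy (Additive ℂˣ) ℕ :=
    divisibleByOfSMulRightSurj _ _ fun {k} hk y => by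
      obtain ⟨z, hz⟩ := IsAlgClosed.exists_pow_nat_eq ((Additive.toMul y : ℂˣ) : ℂ) (Nat.pos_of_ne_zero hk)
      have hz0 : z ≠ 0 := by
        rintro rfl
        rw [zero_pow hk] at hz
        exact (Additive.toMul y : ℂˣ).ne_zero hz.symm
      exact ⟨Additive.ofMul (Units.mk0 z hz0), (Units.ext (by simpa using hz) :
        (Units.mk0 z hz0) ^ k = Additive.toMul y)⟩
  letI : DivisibleBy (Additive ℂˣ) ℤ := AddGroup.divisibleByIntOfDivisibleByNat _
  obtain ⟨δ, hδ⟩ := (Module.Baer.of_divisible (Additive ℂˣ)).extension_property_addMonoidHom ι hι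
    (MonoidHom.toAdditive χ)
  let d : Ext Q →* GL (Fin n) ℂ :=
    (GeneralLinearGroup.scalar (Fin n)).comp ((AddMonoidHom.toMultiplicative δ).comp (toFree Q))
  have hd : ∀ x : ψ.ker, d x = θ x := fun x => by
    rw [← hc]
    exact congrArg (GeneralLinearGroup.scalar (Fin n))
      (DFunLike.congr_fun hδ (Additive.ofMul x))
  have hdc : ∀ e, d e ∈ Subgroup.center (GL (Fin n) ℂ) := fun e => by
    rw [GeneralLinearGroup.center_eq_range_scalar]; exact ⟨_, rfl⟩
  let θ' : Ext Q →* GL (Fin n) ℂ := MonoidHom.mk' (fun e => θ e * (d e)⁻¹) fun a b => by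
    have hcom := Subgroup.mem_center_iff.1 (inv_mem (hdc a))
    rw [map_mul, map_mul, _root_.mul_inv_rev]
    calc θ a * θ b * ((d b)⁻¹ * (d a)⁻¹) = θ a * (θ b * (d b)⁻¹ * (d a)⁻¹) := by group
      _ = θ a * ((d a)⁻¹ * (θ b * (d b)⁻¹)) := by rw [hcom]
      _ = _ := by group
  have hθ'k : ψ.ker ≤ θ'.ker := fun x hx => by
    show θ x * (d x)⁻¹ = 1
    rw [hd ⟨x, hx⟩, mul_inv_cancel]
  refine ⟨ψ.liftOfSurjective hψs ⟨θ', hθ'k⟩, ?_⟩
  refine MonoidHom.ext fun g => ?_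
  obtain ⟨e, rfl⟩ := hψs g
  have h1 : ψ.liftOfSurjective hψs ⟨θ', hθ'k⟩ (ψ e) = θ' e :=
    MonoidHom.liftOfRightInverse_comp_apply ..
  rw [MonoidHom.comp_apply, MonoidHom.comp_apply, h1, ← MonoidHom.comp_apply σ ψ, hψ]
  show mk (θ e * (d e)⁻¹) = _
  have h2 : mk (d e) = 1 := (QuotientGroup.eq_one_iff _).2 (hdc e)
  rw [map_mul, map_inv, h2, inv_one, mul_one, hθ]

/-- The monomial representation induced from a character of a central kernel. -/
theorem exists_monomial {Γ : Type u} [Group Γ] [Finite Γ] {Q : Type v} [Group Q] (σ : Γ →* Q)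
    (hσ : Function.Surjective σ) (hc : σ.ker ≤ Subgroup.center Γ) (χ : σ.ker →* ℂˣ) :
    ∃ (n : ℕ) (_ : 0 < n) (ρ : Γ →* GL (Fin n) ℂ),
      ∀ z : σ.ker, ρ z = GeneralLinearGroup.scalar (Fin n) (χ z) := by
  classical
  have : Finite Q := Finite.of_surjective σ hσ
  let e := Finite.equivFin Q
  let t := Function.surjInv hσ
  have ht : ∀ q, σ (t q) = q := Function.surjInv_eq hσ
  let cc : Γ → Q → σ.ker := fun x q => ⟨(t (σ x * q))⁻¹ * x * t q, by
    rw [MonoidHom.mem_ker, map_mul, map_mul, map_inv, ht, ht, mul_assoc, inv_mul_cancel]⟩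
  have hcc : ∀ x y q, cc (x * y) q = cc x (σ y * q) * cc y q := fun x y q => Subtype.ext (by
    show (t (σ (x * y) * q))⁻¹ * (x * y) * t q =
      (t (σ x * (σ y * q)))⁻¹ * x * t (σ y * q) * ((t (σ y * q))⁻¹ * y * t q)
    rw [map_mul, mul_assoc (σ x)]; group)
  let M : Γ → Matrix Q Q ℂ := fun x =>
    Matrix.of fun i j => if i = σ x * j then (χ (cc x j) : ℂ) else 0
  letI : Fintype Q := Fintype.ofFinite Q
  have hM : ∀ x y, M (x * y) = M x * M y := fun x y => by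
    ext i j
    rw [Matrix.mul_apply, Finset.sum_eq_single (σ y * j)]
    · simp only [M, Matrix.of_apply, if_pos, map_mul, mul_assoc, hcc, Units.val_mul]
      split_ifs <;> simp
    · intro b _ hb; simp [M, hb]
    · simp
  have h1 : M 1 = 1 := by
    ext i j
    have : cc 1 j = 1 := Subtype.ext (by
      show (t (σ 1 * j))⁻¹ * 1 * t j = 1
      rw [map_one, one_mul, mul_one, inv_mul_cancel])
    simp [M, Matrix.one_apply, this]
  let R : Γ →* Matrix Q Q ℂ := { toFun := M, map_one' := h1, map_mul' := hM }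
  refine ⟨Nat.card Q, Nat.card_pos,
    (((Matrix.reindexAlgEquiv ℂ ℂ e : Matrix Q Q ℂ →* Matrix _ _ ℂ)).comp R).toHomUnits, fun z => ?_⟩
  refine Units.ext ?_
  have hz : M z = (χ z : ℂ) • (1 : Matrix Q Q ℂ) := by
    ext i j
    have h2 : σ (z : Γ) = 1 := z.2
    have h3 : cc z j = z := Subtype.ext (by
      show (t (σ z * j))⁻¹ * z * t j = z
      rw [h2, one_mul, mul_assoc, ← Subgroup.mem_center_iff.1 (hc z.2) (t j), inv_mul_cancel_left])
    simp [M, h2, h3, Matrix.one_apply]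
  show Matrix.reindexAlgEquiv ℂ ℂ e (M z) = _
  rw [hz, map_smul, map_one]
  ext i j
  simp [GeneralLinearGroup.scalar, Matrix.one_apply, Matrix.diagonal_apply]

/-- If every projective representation lifts along a stem extension, it is a cover. -/
theorem multMap_injective_of_lift {Q : Type u} [Group Q] [Finite Q] {Γ : Type v} [Group Γ]
    (σ : Γ →* Q)
    (hlift : ∀ (n : ℕ) (γ : Q →* (GL (Fin n) ℂ ⧸ Subgroup.center (GL (Fin n) ℂ))),
      ∃ ρ : Γ →* GL (Fin n) ℂ,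
        (QuotientGroup.mk' (Subgroup.center (GL (Fin n) ℂ))).comp ρ = γ.comp σ)
    (ψ : Ext Q →* Γ) (hψ : σ.comp ψ = proj Q) : Function.Injective (multMap hψ) := by
  classical
  rw [injective_iff_map_eq_one]
  intro m hm
  by_contra hne
  obtain ⟨C⟩ := exists_compl (Q := Q)
  have := C.finite_cover
  have hC := C.isStem
  letI : CommGroup C.coverMap.ker :=
    { (inferInstance : Group C.coverMap.ker) with
      mul_comm := fun a b => Subtype.ext ((Subgroup.mem_center_iff.1 (hC.2.1 a.2)) b.1).symm }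
  have hz : C.kerEquiv m ≠ 1 := by simpa using hne
  have : NeZero (Monoid.exponent C.coverMap.ker : ℂ) :=
    ⟨Nat.cast_ne_zero.2 Monoid.exponent_ne_zero_of_finite⟩
  obtain ⟨χ, hχ⟩ := CommGroup.exists_apply_ne_one_of_hasEnoughRootsOfUnity C.coverMap.ker ℂ hz
  obtain ⟨n, hn, ρ₀, hρ₀⟩ := exists_monomial C.coverMap hC.1 hC.2.1 χ
  let mk := QuotientGroup.mk' (Subgroup.center (GL (Fin n) ℂ))
  have hk : C.coverMap.ker ≤ (mk.comp ρ₀).ker := fun z hz => by
    rw [MonoidHom.mem_ker, MonoidHom.comp_apply, hρ₀ ⟨z, hz⟩]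
    refine (QuotientGroup.eq_one_iff _).2 ?_
    rw [GeneralLinearGroup.center_eq_range_scalar]; exact ⟨_, rfl⟩
  let γ := C.coverMap.liftOfSurjective hC.1 ⟨mk.comp ρ₀, hk⟩
  obtain ⟨ρ, hρ⟩ := hlift n γ
  have hagree : mk.comp (ρ.comp ψ) = mk.comp (ρ₀.comp (QuotientGroup.mk' C.S)) := by
    refine MonoidHom.ext fun e => ?_
    show (mk.comp ρ) (ψ e) = (mk.comp ρ₀) (QuotientGroup.mk' C.S e)
    rw [hρ, MonoidHom.comp_apply, ← MonoidHom.comp_apply σ ψ, hψ, ← C.coverMap_comp]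
    exact C.coverMap.liftOfRightInverse_comp_apply _ (Function.rightInverse_surjInv hC.1) ⟨mk.comp ρ₀, hk⟩ (QuotientGroup.mk' C.S e)
  have hmk : mk.ker ≤ Subgroup.center (GL (Fin n) ℂ) := by
    intro g hg
    exact (QuotientGroup.eq_one_iff _).1 hg
  have h4 : (m : Ext Q) ∈ (ρ.comp ψ).eqLocus (ρ₀.comp (QuotientGroup.mk' C.S)) :=
    eq_on_commutator mk hmk hagree m.2.2
  apply hχ
  have h5 : ρ₀ (C.kerEquiv m : C.Cover) = 1 := by
    have h6 : ψ m = 1 := congrArg Subtype.val hm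
    exact (h4 : (ρ.comp ψ) m = (ρ₀.comp (QuotientGroup.mk' C.S)) m).symm.trans (by rw [MonoidHom.comp_apply, h6, map_one])
  rw [hρ₀] at h5
  have h7 := congrArg (fun g : GL (Fin n) ℂ => (g : Matrix (Fin n) (Fin n) ℂ) ⟨0, hn⟩ ⟨0, hn⟩) h5
  exact Units.ext (by simpa [GeneralLinearGroup.scalar] using h7)

end CfsgLib.Schur
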