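import Mathlib
import Cfsg.Agent.Lib.Schur.Multiplier
import Cfsg.Agent.Lib.Char.Exceptional.SpinCover

/-!
# A double cover of a perfect permutation group from an involution with many transpositions

The double cover of the symmetric group by anticommuting shifts, pulled back.  A product of `k` disjoint
transpositions lifts to an element whose square is `(-1) ^ (k (k + 1) / 2)`.
-/

set_option autoImplicit false

namespace CfsgLib.Schur.SpinWitness

open CfsgLib.Char.Exceptional.SpinCover

variable {n : ℕ}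

/-- The two shifts of disjoint transpositions anticommute. -/
theorem uu_anti {i j k l : Fin n} (hik : i ≠ k) (hil : i ≠ l) (hjk : j ≠ k) (hjl : j ≠ l) :
    uu i j * uu k l = -(uu k l * uu i j) := by
  simp only [uu, sub_mul, mul_sub]
  rw [gam_anti hik, gam_anti hil, gam_anti hjk, gam_anti hjl]
  abel

/-- The product of the shifts of a list of pairs. -/
def uprod : List (Fin n × Fin n) → Module.End (ZMod 3) (V n)
  | [] => 1
  | e :: l => uu e.1 e.2 * uprod l

/-- The product of their transpositions. -/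
def sprod : List (Fin n × Fin n) → Equiv.Perm (Fin n)
  | [] => 1
  | e :: l => Equiv.swap e.1 e.2 * sprod l

/-- The pairs are proper and disjoint. -/
def Apart (l : List (Fin n × Fin n)) : Prop := (l.flatMap fun e => [e.1, e.2]).Nodup

theorem uprod_comm {e : Fin n × Fin n} : ∀ {l : List (Fin n × Fin n)},
    (∀ d ∈ l, e.1 ≠ d.1 ∧ e.1 ≠ d.2 ∧ e.2 ≠ d.1 ∧ e.2 ≠ d.2) →
    uprod l * uu e.1 e.2 = (-1 : ZMod 3) ^ l.length • (uu e.1 e.2 * uprod l)
  | [], _ => by simp [uprod]
  | d :: l, h => by
    obtain ⟨h1, h2, h3, h4⟩ := h d List.mem_cons_self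
    have ih := uprod_comm (e := e) fun x hx => h x (List.mem_cons_of_mem _ hx)
    have hsw : uu d.1 d.2 * uu e.1 e.2 = (-1 : ZMod 3) • (uu e.1 e.2 * uu d.1 d.2) := by
      rw [neg_smul_end]
      exact uu_anti (Ne.symm h1) (Ne.symm h3) (Ne.symm h2) (Ne.symm h4)
    simp only [uprod, List.length_cons, pow_succ]
    rw [mul_assoc (uu d.1 d.2), ih, mul_smul_comm, ← mul_assoc (uu d.1 d.2) (uu e.1 e.2), hsw,
      smul_mul_assoc, smul_smul, mul_assoc]

theorem uprod_sq : ∀ {l : List (Fin n × Fin n)}, Apart l →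
    uprod l * uprod l = (-1 : ZMod 3) ^ (l.length * (l.length + 1) / 2) • (1 : Module.End (ZMod 3) (V n))
  | [], _ => by simp [uprod]
  | e :: l, h => by
    simp only [Apart, List.flatMap_cons, List.cons_append, List.nil_append, List.nodup_cons, List.mem_cons,
      List.mem_flatMap, not_or, not_exists, not_and] at h
    obtain ⟨⟨hne, hA⟩, hB, hl⟩ := h
    have hd : ∀ d ∈ l, e.1 ≠ d.1 ∧ e.1 ≠ d.2 ∧ e.2 ≠ d.1 ∧ e.2 ≠ d.2 := fun d hd => by
      have := hA d hd; have := hB d hd
      simp_all
    have ih := uprod_sq (l := l) hl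
    have hu : uu e.1 e.2 * uu e.1 e.2 = (-1 : ZMod 3) • (1 : Module.End (ZMod 3) (V n)) := by rw [uu_sq hne, neg_smul_end]
    have harith : (l.length + 1) * (l.length + 1 + 1) / 2 = l.length + 1 + l.length * (l.length + 1) / 2 := by
      rw [show (l.length + 1) * (l.length + 1 + 1) = l.length * (l.length + 1) + (l.length + 1) * 2 by ring,
        Nat.add_mul_div_right _ _ (by norm_num), add_comm]
    simp only [uprod, List.length_cons]
    rw [harith, pow_add, pow_succ, mul_assoc, ← mul_assoc (uprod l) (uu e.1 e.2), uprod_comm hd,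
      smul_mul_assoc, mul_smul_comm, mul_assoc (uu e.1 e.2) (uprod l), ← mul_assoc (uu e.1 e.2) (uu e.1 e.2), hu,
      ih, smul_mul_assoc, one_mul, smul_smul, smul_smul]

theorem exists_unit : ∀ {l : List (Fin n × Fin n)}, Apart l →
    ∃ g : (Module.End (ZMod 3) (V n))ˣ, (g : Module.End (ZMod 3) (V n)) = uprod l ∧ IsLift g (sprod l)
  | [], _ => ⟨1, rfl, isLift_one⟩
  | e :: l, h => by
    simp only [Apart, List.flatMap_cons, List.cons_append, List.nil_append, List.nodup_cons, List.mem_cons,
      not_or] at h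
    obtain ⟨⟨hne, -⟩, -, hl⟩ := h
    obtain ⟨g, hg, hlift⟩ := exists_unit (l := l) hl
    exact ⟨uuUnit hne * g, by rw [Units.val_mul, hg]; rfl, (isLift_uu hne).mul hlift⟩

universe u

variable {G : Type u} [Group G] (φ : G →* Equiv.Perm (Fin n))

/-- The pulled back cover. -/
def pull : Subgroup (G × (Module.End (ZMod 3) (V n))ˣ) where
  carrier := {p | IsLift p.2 (φ p.1)}
  one_mem' := by show IsLift 1 (φ 1); rw [map_one]; exact isLift_one
  mul_mem' := fun {a b} ha hb => by show IsLift _ (φ (a.1 * b.1)); rw [map_mul]; exact ha.mul hb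
  inv_mem' := fun {a} ha => by show IsLift _ (φ a.1⁻¹); rw [map_inv]; exact ha.inv

/-- A perfect group with an involution acting as `k` disjoint transpositions, `k (k + 1) / 2` odd, has a
stem extension with kernel of order two. -/
theorem exists_stem_two [Finite G] (hperf : commutator G = ⊤) {b : G} (hb : b * b = 1)
    {l : List (Fin n × Fin n)} (hl : Apart l) (hodd : Odd (l.length * (l.length + 1) / 2))
    (hbl : φ b = sprod l) :
    ∃ (Γ : Type u) (_ : Group Γ) (_ : Finite Γ) (τ : Γ →* G), Cfsg.IsStemExtension τ ∧ Nat.card τ.ker = 2 := by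
  have : Finite (Module.End (ZMod 3) (V n)) := Finite.of_injective (fun T => (T : V n → V n)) DFunLike.coe_injective
  obtain ⟨x, hx, hlift⟩ := exists_unit hl
  let z : pull φ := ⟨((1 : G), (-1 : (Module.End (ZMod 3) (V n))ˣ)), by show IsLift (n := n) (-1) (φ 1); rw [map_one]; exact isLift_neg_one⟩
  let X : pull φ := ⟨(b, x), by show IsLift x (φ b); rw [hbl]; exact hlift⟩
  have hXX : X * X = z := Subtype.ext (Prod.ext hb (Units.ext (by
    show (x : Module.End (ZMod 3) (V n)) * x = -1
    rw [hx, uprod_sq hl, hodd.neg_one_pow, neg_smul_end])))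
  have hz1 : z ≠ 1 := by
    intro h
    have h' := congrArg (fun p : pull φ => ((p.1.2 : Module.End (ZMod 3) (V n)) (Pi.single 0 1)) 0) h
    have h01 : ((-1 : ZMod 3)) ≠ 1 := by decide
    refine h01 ?_
    simpa [z, Pi.single_eq_same] using h'
  let τ : pull φ →* G := (MonoidHom.fst _ _).comp (pull φ).subtype
  have hsurj : Function.Surjective τ := fun g => by
    obtain ⟨u, hu⟩ := CfsgLib.Char.Exceptional.SpinCover.exists_lift (φ g)
    exact ⟨⟨(g, u), hu⟩, rfl⟩
  have hker : ∀ y ∈ τ.ker, y = 1 ∨ y = z := by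
    rintro ⟨⟨a, u⟩, hu⟩ hy
    obtain rfl : a = 1 := hy
    have hu' : IsLift u (φ 1) := hu
    rw [map_one] at hu'
    rcases lift_kernel hu' with rfl | rfl
    · exact Or.inl rfl
    · exact Or.inr rfl
  have hzker : z ∈ τ.ker := rfl
  have hzc : z ∈ Subgroup.center (pull φ) := by
    rw [Subgroup.mem_center_iff]
    rintro ⟨⟨a, u⟩, hu⟩
    exact Subtype.ext (Prod.ext ((mul_one a).trans (one_mul a).symm)
      (Units.ext (LinearMap.ext fun f => map_neg (u : Module.End (ZMod 3) (V n)) f)))
  have hzsq : z * z = 1 := by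
    refine Subtype.ext (Prod.ext (mul_one 1) (Units.ext (LinearMap.ext fun f => ?_)))
    exact neg_neg f
  have hmap : (commutator (pull φ)).map τ = ⊤ := by
    rw [commutator_def, Subgroup.map_commutator, Subgroup.map_top_of_surjective τ hsurj, ← commutator_def, hperf]
  obtain ⟨c, hc, ec⟩ := (hmap.symm ▸ Subgroup.mem_top (τ X) : τ X ∈ (commutator (pull φ)).map τ)
  have hzcom : z ∈ commutator (pull φ) := by
    have hk : c⁻¹ * X ∈ τ.ker := by rw [MonoidHom.mem_ker, map_mul, map_inv, ec, inv_mul_cancel]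
    rcases hker _ hk with e | e <;> rw [inv_mul_eq_iff_eq_mul] at e <;> rw [← hXX, e]
    · simpa using mul_mem hc hc
    · have := Subgroup.mem_center_iff.1 hzc c
      rw [mul_assoc c z, ← mul_assoc z c z, ← this, mul_assoc c z z, hzsq, mul_one]
      exact mul_mem hc hc
  refine ⟨pull φ, inferInstance, inferInstance, τ, ⟨hsurj, fun y hy => ?_, fun y hy => ?_⟩, ?_⟩
  · rcases hker y hy with rfl | rfl
    exacts [one_mem _, hzc]
  · rcases hker y hy with rfl | rfl
    exacts [one_mem _, hzcom]
  · rw [Nat.card_eq_two_iff' (1 : τ.ker)]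
    exact ⟨⟨z, hzker⟩, fun e => hz1 (congrArg Subtype.val e), fun y hy =>
      Subtype.ext ((hker y.1 y.2).resolve_left fun e => hy (Subtype.ext e))⟩

end CfsgLib.Schur.SpinWitness
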