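import Cfsg.Agent.Lib.Schur.Functor
import Mathlib

/-!
# Restriction and transfer between the multipliers of a group and a subgroup of index `m`
-/

set_option autoImplicit false

open scoped commutatorElement

namespace CfsgLib.Schur

universe u v w

theorem conj_eq_of_mem_center {E : Type u} [Group E] {z : E} (hz : z ∈ Subgroup.center E) (g : E) :
    g⁻¹ * z * g = z := by
  rw [mul_assoc, ← Subgroup.mem_center_iff.1 hz g, inv_mul_cancel_left]

/-- In the transfer of an element of a normal subgroup inside `H` every orbit is trivial. -/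
theorem prod_conj_eq_one {F : Type u} [Group F] (H : Subgroup F) [H.FiniteIndex] {C : Type v} [CommGroup C]
    (χ : H →* C) (N : Subgroup F) [N.Normal] (hN : N ≤ H) {a : F} (ha : a ∈ N) (ha' : a ∈ commutator F) :
    letI := H.fintypeQuotientOfFiniteIndex
    ∏ q : F ⧸ H, χ ⟨((default : H.LeftTransversal).2.leftQuotientEquiv q : F)⁻¹ * a *
        ((default : H.LeftTransversal).2.leftQuotientEquiv q : F),
      hN (Subgroup.Normal.conj_mem' inferInstance a ha _)⟩ = 1 := by
  letI := H.fintypeQuotientOfFiniteIndex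
  have h1 : MonoidHom.transfer χ a = 1 := Abelianization.commutator_subset_ker _ ha'
  rw [MonoidHom.transfer_def χ (default : H.LeftTransversal), Subgroup.leftTransversals.diff] at h1
  refine Eq.trans (Finset.prod_congr rfl fun q _ => congrArg χ (Subtype.ext ?_)) h1
  have hq : a⁻¹ • q = q := by
    induction q using QuotientGroup.induction_on with
    | H g =>
      rw [MulAction.Quotient.smul_mk, QuotientGroup.eq]
      have := hN (Subgroup.Normal.conj_mem' inferInstance a ha g)
      simpa [smul_eq_mul, mul_assoc] using this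
  show _ = _ * ((a • (default : H.LeftTransversal)).2.leftQuotientEquiv q : F)
  rw [Subgroup.smul_apply_eq_smul_apply_inv_smul, hq, smul_eq_mul]
  exact mul_assoc _ _ _

theorem exists_restriction_transfer {G : Type u} [Group G] [Finite G] (U : Subgroup G) :
    ∃ (r : mult U →* mult G) (t : mult G →* mult U), ∀ x, r (t x) = x ^ U.index := by
  classical
  -- restriction
  let X : Subgroup (Ext G) := U.comap (proj G)
  let ξ : X →* U := ((proj G).comp X.subtype).codRestrict U fun x => x.2
  have hξs : Function.Surjective ξ := fun q => by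
    obtain ⟨x, hx⟩ := proj_surjective G (q : G)
    exact ⟨⟨x, show proj G x ∈ U by rw [hx]; exact q.2⟩, Subtype.ext hx⟩
  have hξc : ξ.ker ≤ Subgroup.center X := fun x hx => Subgroup.mem_center_iff.2 fun y =>
    Subtype.ext (Subgroup.mem_center_iff.1 (ker_proj_le_center G
      (show proj G x = 1 from congrArg Subtype.val hx)) y)
  obtain ⟨φ, hφ⟩ := exists_lift ξ hξs hξc
  let Φ : Ext U →* Ext G := X.subtype.comp φ
  have hΦ : ∀ y, proj G (Φ y) = (proj U y : G) := fun y => congrArg Subtype.val (DFunLike.congr_fun hφ y)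
  have hΦm : ∀ y ∈ mult U, Φ y ∈ mult G := fun y hy => by
    refine ⟨?_, ?_⟩
    · show proj G (Φ y) = 1
      rw [hΦ, show proj U y = 1 from hy.1]; rfl
    · have h := Subgroup.mem_map_of_mem Φ hy.2
      rw [commutator_def, Subgroup.map_commutator] at h
      exact Subgroup.commutator_mono le_top le_top h
  let r : mult U →* mult G := (Φ.comp (mult U).subtype).codRestrict _ fun y => hΦm y y.2
  -- the free presentation, restricted to the preimage of `U`
  let ε : FreeGroup G →* G := FreeGroup.lift id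
  let S : Subgroup (FreeGroup G) := U.comap ε
  have hεs : Function.Surjective ε := fun g => ⟨FreeGroup.of g, by simp [ε]⟩
  have hidx : S.index = U.index := Subgroup.index_comap_of_surjective U hεs
  haveI : S.FiniteIndex := ⟨by rw [hidx]; exact Subgroup.index_ne_zero_of_finite⟩
  letI := S.fintypeQuotientOfFiniteIndex
  have hRS : relKer G ≤ S := fun x hx => by
    show ε x ∈ U
    rw [show ε x = 1 from hx]; exact one_mem U
  let θ : S →* U := (ε.comp S.subtype).codRestrict U fun x => x.2
  let ψ : S →* Ext U := IsFreeGroup.lift fun a => Function.surjInv (proj_surjective U) (θ (IsFreeGroup.of a))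
  have hψ : (proj U).comp ψ = θ := IsFreeGroup.ext_hom fun a => by
    simp [ψ, Function.surjInv_eq (proj_surjective U)]
  letI : CommGroup (proj U).ker :=
    { (inferInstance : Group (proj U).ker) with
      mul_comm := fun a b => Subtype.ext (Subgroup.mem_center_iff.1 (ker_proj_le_center U b.2) a) }
  letI : CommGroup (proj G).ker :=
    { (inferInstance : Group (proj G).ker) with
      mul_comm := fun a b => Subtype.ext (Subgroup.mem_center_iff.1 (ker_proj_le_center G b.2) a) }
  let ψK : relKer G →* (proj U).ker := (ψ.comp (Subgroup.inclusion hRS)).codRestrict _ fun x => by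
    show proj U (ψ (Subgroup.inclusion hRS x)) = 1
    rw [← MonoidHom.comp_apply (proj U) ψ, hψ]
    exact Subtype.ext x.2
  let rep : FreeGroup G ⧸ S → FreeGroup G := fun q => ((default : S.LeftTransversal).2.leftQuotientEquiv q : FreeGroup G)
  have hrep : ∀ q, (rep q : FreeGroup G ⧸ S) = q := fun q =>
    Subgroup.IsComplement.quotientGroupMk_leftQuotientEquiv _ q
  have hconj : ∀ (g a : FreeGroup G), a ∈ relKer G → g⁻¹ * a * g ∈ relKer G := fun g a ha =>
    Subgroup.Normal.conj_mem' inferInstance a ha g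
  let c : FreeGroup G ⧸ S → relKer G →* relKer G := fun q =>
    MonoidHom.mk' (fun a => ⟨(rep q)⁻¹ * a * rep q, hconj _ a a.2⟩) fun a b => Subtype.ext (by
      show (rep q)⁻¹ * (a * b : FreeGroup G) * rep q = ((rep q)⁻¹ * a * rep q) * ((rep q)⁻¹ * b * rep q)
      group)
  let f : relKer G →* (proj U).ker := ∏ q, ψK.comp (c q)
  have hf : ∀ a, f a = ∏ q, ψK (c q a) := fun a => by simp [f]
  have hequi : ∀ (b : FreeGroup G) (a : relKer G) (h : b * a * b⁻¹ ∈ relKer G), f ⟨b * a * b⁻¹, h⟩ = f a := by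
    intro b a h
    rw [hf, hf]
    refine Fintype.prod_equiv (MulAction.toPerm b⁻¹) _ _ fun q => Subtype.ext ?_
    have hs : (rep (b⁻¹ • q))⁻¹ * (b⁻¹ * rep q) ∈ S := by
      rw [← QuotientGroup.eq, hrep]
      show _ = b⁻¹ • (rep q : FreeGroup G ⧸ S)
      rw [hrep]
    set s : S := ⟨_, hs⟩ with hsdef
    have e : Subgroup.inclusion hRS (c q ⟨b * a * b⁻¹, h⟩) = s⁻¹ * Subgroup.inclusion hRS (c (b⁻¹ • q) a) * s := by
      refine Subtype.ext ?_
      show (rep q)⁻¹ * (b * a * b⁻¹) * rep q = ((rep (b⁻¹ • q))⁻¹ * (b⁻¹ * rep q))⁻¹ *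
        ((rep (b⁻¹ • q))⁻¹ * a * rep (b⁻¹ • q)) * ((rep (b⁻¹ • q))⁻¹ * (b⁻¹ * rep q))
      group
    show ψ (Subgroup.inclusion hRS (c q ⟨b * a * b⁻¹, h⟩)) = ψ (Subgroup.inclusion hRS (c (b⁻¹ • q) a))
    rw [e, map_mul, map_mul, map_inv]
    exact conj_eq_of_mem_center (ker_proj_le_center U (ψK (c (b⁻¹ • q) a)).2) _
  -- kills commutators
  have hχ : ∀ {C : Type u} [CommGroup C] (χ : S →* C) (a : relKer G), (a : FreeGroup G) ∈ commutator (FreeGroup G) →
      ∏ q, χ (Subgroup.inclusion hRS (c q a)) = 1 := fun χ a ha => prod_conj_eq_one S χ (relKer G) hRS a.2 ha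
  have hfm : ∀ a : relKer G, (a : FreeGroup G) ∈ commutator (FreeGroup G) → ((f a : (proj U).ker) : Ext U) ∈ mult U := by
    intro a ha
    refine ⟨(f a).2, ?_⟩
    show ((f a : (proj U).ker) : Ext U) ∈ commutator (Ext U)
    have h := hχ (Abelianization.of.comp ψ) a ha
    rw [← QuotientGroup.eq_one_iff]
    show (Abelianization.of.comp (proj U).ker.subtype) (f a) = 1
    rw [hf, map_prod]
    exact h
  let RF : Subgroup (FreeGroup G) := relKer G ⊓ commutator (FreeGroup G)
  let i : RF →* relKer G := Subgroup.inclusion inf_le_left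
  let f' : RF →* mult U := (((proj U).ker.subtype).comp (f.comp i)).codRestrict _ fun a => hfm _ a.2.2
  let π : RF →* mult G := ((QuotientGroup.mk' _).comp RF.subtype).codRestrict _ fun a => by
    refine ⟨a.2.1, ?_⟩
    have h := Subgroup.mem_map_of_mem (QuotientGroup.mk' ⁅relKer G, (⊤ : Subgroup (FreeGroup G))⁆) a.2.2
    rw [commutator_def, Subgroup.map_commutator] at h
    exact Subgroup.commutator_mono le_top le_top h
  have hπ : Function.Surjective π := fun x => by
    obtain ⟨a, ha⟩ := QuotientGroup.mk_surjective (x : Ext G)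
    have hx : (x : Ext G) ∈ commutator (Ext G) := x.2.2
    have hmap : commutator (Ext G) =
        (commutator (FreeGroup G)).map (QuotientGroup.mk' ⁅relKer G, (⊤ : Subgroup (FreeGroup G))⁆) := by
      rw [commutator_def, commutator_def, Subgroup.map_commutator,
        Subgroup.map_top_of_surjective _ (QuotientGroup.mk'_surjective _)]
    rw [hmap] at hx
    obtain ⟨b, hb, hbx⟩ := hx
    refine ⟨⟨b, ?_, hb⟩, Subtype.ext hbx⟩
    show ε b = 1
    have h : proj G (x : Ext G) = 1 := x.2.1
    rw [← hbx] at h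
    exact h
  have hker : π.ker ≤ f'.ker := by
    rintro ⟨a, ha⟩ hk
    have h0 : a ∈ ⁅relKer G, (⊤ : Subgroup (FreeGroup G))⁆ := (QuotientGroup.eq_one_iff a).1 (congrArg Subtype.val hk)
    have key : ⁅relKer G, (⊤ : Subgroup (FreeGroup G))⁆ ≤ f.ker.map (relKer G).subtype := by
      rw [Subgroup.commutator_le]
      intro y hy b _
      have hy' : y⁻¹ ∈ relKer G := inv_mem hy
      have hb : b * y⁻¹ * b⁻¹ ∈ relKer G := Subgroup.Normal.conj_mem inferInstance _ hy' b
      refine ⟨⟨y, hy⟩ * ⟨_, hb⟩, ?_, ?_⟩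
      · show f _ = 1
        rw [map_mul, hequi b ⟨y⁻¹, hy'⟩ hb, ← map_mul]
        exact (congrArg f (Subtype.ext (mul_inv_cancel y) : (⟨y, hy⟩ * ⟨y⁻¹, hy'⟩ : relKer G) = 1)).trans (map_one f)
      · show y * (b * y⁻¹ * b⁻¹) = ⁅y, b⁆
        simp only [commutatorElement_def, mul_assoc]
    obtain ⟨z, hz, hza⟩ := key h0
    refine Subtype.ext ?_
    show ((f (i ⟨a, ha⟩) : (proj U).ker) : Ext U) = 1
    rw [show i ⟨a, ha⟩ = z from Subtype.ext hza.symm, show f z = 1 from hz]
    rfl
  let t : mult G →* mult U := π.liftOfSurjective hπ ⟨f', hker⟩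
  refine ⟨r, t, fun x => ?_⟩
  obtain ⟨a, rfl⟩ := hπ x
  have ht : t (π a) = f' a := MonoidHom.liftOfRightInverse_comp_apply _ _ _ _ a
  rw [ht]
  refine Subtype.ext ?_
  -- the two lifts of `θ` differ by a homomorphism into the kernel
  let μ : S →* Ext G := (QuotientGroup.mk' _).comp S.subtype
  have hd : ∀ s : S, (μ s)⁻¹ * Φ (ψ s) ∈ (proj G).ker := fun s => by
    show proj G _ = 1
    rw [map_mul, map_inv, hΦ, ← MonoidHom.comp_apply (proj U) ψ, hψ]
    exact inv_mul_cancel (ε (s : FreeGroup G))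
  let d : S →* (proj G).ker := MonoidHom.mk' (fun s => ⟨_, hd s⟩) fun s s' => Subtype.ext (by
    show (μ (s * s'))⁻¹ * Φ (ψ (s * s')) = ((μ s)⁻¹ * Φ (ψ s)) * ((μ s')⁻¹ * Φ (ψ s'))
    rw [map_mul, map_mul, map_mul, mul_inv_rev, mul_assoc (μ s')⁻¹, ← mul_assoc (μ s)⁻¹,
      ← mul_assoc (μ s')⁻¹, Subgroup.mem_center_iff.1 (ker_proj_le_center G (hd s)) (μ s')⁻¹, mul_assoc])
  let mK : relKer G →* (proj G).ker := ((QuotientGroup.mk' _).comp (relKer G).subtype).codRestrict _ fun y => y.2
  let ΦK : (proj U).ker →* (proj G).ker := (Φ.comp (proj U).ker.subtype).codRestrict _ fun y => by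
    show proj G (Φ y) = 1
    rw [hΦ, show proj U y = 1 from y.2]; rfl
  have hsplit : ∀ y, ΦK (ψK y) = mK y * d (Subgroup.inclusion hRS y) := fun y => Subtype.ext (mul_inv_cancel_left _ _).symm
  have hmc : ∀ q, mK (c q (i a)) = mK (i a) := fun q => Subtype.ext (by
    show QuotientGroup.mk' _ ((rep q)⁻¹ * (a : FreeGroup G) * rep q) = QuotientGroup.mk' _ (a : FreeGroup G)
    rw [map_mul, map_mul, map_inv]
    exact conj_eq_of_mem_center (ker_proj_le_center G (mK (i a)).2) _)
  have h1 : ΦK (f (i a)) = mK (i a) ^ U.index := by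
    rw [hf, map_prod]
    simp only [hsplit, Finset.prod_mul_distrib]
    rw [hχ d (i a) a.2.2, mul_one]
    simp only [hmc]
    rw [Finset.prod_const, Finset.card_univ, ← Nat.card_eq_fintype_card, ← Subgroup.index, hidx]
  show ((ΦK (f (i a)) : (proj G).ker) : Ext G) = ((π a ^ U.index : mult G) : Ext G)
  rw [h1]
  rfl

/-- A retraction of the `p`-part out of a composite equal to a `p'`-power map. -/
theorem exists_primary_summand {A : Type v} {B : Type w} [CommGroup A] [CommGroup B] [Finite A] (p : ℕ)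
    [Fact p.Prime] (r : B →* A) (t : A →* B) {m : ℕ} (hm : ¬ p ∣ m) (h : ∀ x, r (t x) = x ^ m) :
    ∃ C D : Subgroup B, C ⊓ D = ⊥ ∧ C ⊔ D = ⊤ ∧ Nonempty (CommGroup.primaryComponent A p ≃* C) := by
  have hp : p.Prime := Fact.out
  have hn : Nat.card A ≠ 0 := Nat.card_pos.ne'
  set e := (Nat.card A).factorization p with hedef
  set r' := Nat.card A / p ^ e with hr'
  have hsplit : p ^ e * r' = Nat.card A := Nat.ordProj_mul_ordCompl_eq_self (Nat.card A) p
  have hcop : (m * r').Coprime (p ^ (e + 1)) := by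
    refine Nat.Coprime.pow_right _ (Nat.Coprime.symm (hp.coprime_iff_not_dvd.2 fun hd => ?_))
    rcases hp.dvd_mul.1 hd with h' | h'
    · exact hm h'
    · exact Nat.not_dvd_ordCompl hp hn h'
  obtain ⟨u, -, hu⟩ := Nat.exists_mul_mod_eq_one_of_coprime hcop (Nat.one_lt_pow (Nat.succ_ne_zero e) hp.one_lt)
  set k := r' * u with hk
  have hmem : ∀ x : A, x ^ k ∈ CommGroup.primaryComponent A p := fun x => CommGroup.mem_primaryComponent.2
    ⟨e, by rw [← pow_mul, hk, mul_comm, ← mul_assoc, hsplit, pow_mul, pow_card_eq_one', one_pow]⟩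
  have hfix : ∀ x ∈ CommGroup.primaryComponent A p, x ^ (m * k) = x := by
    intro x hx
    obtain ⟨j, hj⟩ := CommGroup.mem_primaryComponent_iff_orderOf.1 hx
    have hje : p ^ j ∣ p ^ (e + 1) := by
      refine Nat.pow_dvd_pow p (Nat.le_succ_of_le ?_)
      exact (hp.pow_dvd_iff_le_factorization hn).1 (hj ▸ orderOf_dvd_natCard x)
    conv_rhs => rw [← pow_one x]
    rw [pow_eq_pow_iff_modEq, hj]
    refine Nat.ModEq.of_dvd hje ?_
    rw [hk, ← mul_assoc]
    exact hu.trans (Nat.one_mod_eq_one.2 (Nat.one_lt_pow (Nat.succ_ne_zero e) hp.one_lt).ne').symm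
  let q : B →* CommGroup.primaryComponent A p := ((powMonoidHom k : A →* A).comp r).codRestrict _ fun b => hmem _
  let s : CommGroup.primaryComponent A p →* B := t.comp (CommGroup.primaryComponent A p).subtype
  have hqs : ∀ x, q (s x) = x := fun x => Subtype.ext (by
    show r (t (x : A)) ^ k = x
    rw [h, ← pow_mul]; exact hfix x x.2)
  refine ⟨s.range, q.ker, ?_, ?_, ⟨MonoidHom.ofInjective (Function.LeftInverse.injective hqs)⟩⟩
  · rw [Subgroup.eq_bot_iff_forall]
    rintro _ ⟨⟨x, rfl⟩, hx⟩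
    have hx' : q (s x) = 1 := hx
    rw [hqs] at hx'
    rw [hx', map_one]
  · rw [eq_top_iff]
    intro b _
    have e : b = s (q b) * ((s (q b))⁻¹ * b) := (mul_inv_cancel_left _ _).symm
    rw [e]
    refine Subgroup.mul_mem_sup ⟨_, rfl⟩ ?_
    show q _ = 1
    rw [map_mul, map_inv, hqs, inv_mul_cancel]

theorem exists_primary_direct_factor {G : Type u} [Group G] [Finite G] (p : ℕ) [Fact p.Prime] (P : Sylow p G)
    {A : Type v} {B : Type w} [CommGroup A] [CommGroup B] (hA : Cfsg.HasSchurMultiplier G A)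
    (hB : Cfsg.HasSchurMultiplier P B) :
    ∃ C D : Subgroup B, C ⊓ D = ⊥ ∧ C ⊔ D = ⊤ ∧ Nonempty (CommGroup.primaryComponent A p ≃* C) := by
  obtain ⟨eA⟩ := nonempty_equiv_of_hasSchurMultiplier hA
  obtain ⟨eB⟩ := nonempty_equiv_of_hasSchurMultiplier hB
  haveI := finite_of_hasSchurMultiplier hA
  obtain ⟨r, t, h⟩ := exists_restriction_transfer (P : Subgroup G)
  refine exists_primary_summand p (eA.symm.toMonoidHom.comp (r.comp eB.toMonoidHom))
    (eB.symm.toMonoidHom.comp (t.comp eA.toMonoidHom)) P.not_dvd_index fun x => ?_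
  show eA.symm (r (eB (eB.symm (t (eA x))))) = _
  rw [MulEquiv.apply_symm_apply, h, map_pow, MulEquiv.symm_apply_apply]

end CfsgLib.Schur
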